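import Groth.Agent.VarDim.Scheme

/-!
# Dimension of closed subsets
-/

set_option autoImplicit false
set_option linter.style.haveILetI false

universe u

open AlgebraicGeometry CategoryTheory TopologicalSpace Topology

namespace Groth.Agent.LangWeil

variable (k : Type u) [Field k] {X : Scheme.{u}} [X.Over (Spec (CommRingCat.of k))]
  [LocallyOfFiniteType (X ↘ Spec (CommRingCat.of k))]

theorem dimPt_le_dim {S : Set X} (hS : IsClosed S) {x : X} (hx : x ∈ S) :
    (VarDim.dimPt k X x : WithBot ℕ∞) ≤ topologicalKrullDim S := by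
  obtain ⟨y, hyx, -, hy⟩ := VarDim.exists_le_dimPt_eq_zero k x ⊤ trivial
  obtain ⟨-, l, -, hl2, hl3⟩ := VarDim.exists_ltSeries_of_le k hyx
  rw [hy, zero_add] at hl3
  have hmem : ∀ i, l i ∈ S := fun i =>
    Specializes.mem_closed ((l.strictMono.monotone (Fin.le_last i)).trans hl2 : l i ≤ x) hS hx
  let g : Fin (l.length + 1) → IrreducibleCloseds S := fun i =>
    ⟨closure {⟨l i, hmem i⟩}, isIrreducible_singleton.closure, isClosed_closure⟩
  let L : LTSeries (IrreducibleCloseds S) := LTSeries.mk l.length g fun i j hij => by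
    refine lt_iff_le_not_ge.mpr ⟨?_, fun h => ?_⟩
    · refine closure_minimal (Set.singleton_subset_iff.2 (specializes_iff_mem_closure.1 ?_)) isClosed_closure
      exact IsInducing.subtypeVal.specializes_iff.1 (l.strictMono hij).le
    · refine (l.strictMono hij).not_ge ?_
      have h2 : (⟨l j, hmem j⟩ : S) ∈ closure {(⟨l i, hmem i⟩ : S)} := h (subset_closure rfl)
      exact (IsInducing.subtypeVal.specializes_iff (x := ⟨l i, hmem i⟩) (y := ⟨l j, hmem j⟩)).2
        (specializes_iff_mem_closure.2 h2)
  refine le_trans ?_ (Order.LTSeries.length_le_krullDim L)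
  exact_mod_cast hl3.ge

theorem dim_le_of_forall {S : Set X} (hS : IsClosed S) {n : ℕ} (h : ∀ x ∈ S, VarDim.dimPt k X x ≤ n) :
    topologicalKrullDim S ≤ n := by
  let m : IrreducibleCloseds S → IrreducibleCloseds X := fun A =>
    ⟨Subtype.val '' (A : Set S), A.isIrreducible.image _ continuous_subtype_val.continuousOn,
      hS.isClosedEmbedding_subtypeVal.isClosedMap _ A.isClosed⟩
  have hm : StrictMono m := fun A B hAB => by
    refine lt_iff_le_not_ge.mpr ⟨Set.image_mono hAB.le, fun hle => hAB.not_ge ?_⟩
    intro a ha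
    obtain ⟨b, hb, he⟩ := hle (Set.mem_image_of_mem Subtype.val ha)
    exact Subtype.val_injective he ▸ hb
  let P : IrreducibleCloseds S → X := fun A => irreducibleSetEquivPoints (α := X) (m A)
  have hP : StrictMono P := irreducibleSetEquivPoints.strictMono.comp hm
  have hPS : ∀ A, P A ∈ S := by
    intro A
    have hg : closure {P A} = Subtype.val '' (A : Set S) :=
      congrArg (fun B : IrreducibleCloseds X => (B : Set X)) (irreducibleSetEquivPoints.symm_apply_apply (m A))
    obtain ⟨a, -, ha⟩ := hg.subset (subset_closure rfl)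
    exact ha ▸ a.2
  refine iSup_le fun l => ?_
  have h1 : VarDim.dimPt k X (P l.head) + l.length ≤ VarDim.dimPt k X (P l.last) := by
    have := VarDim.dimPt_add_length_le k (l.map P hP)
    simpa using this
  exact_mod_cast (le_add_self.trans (h1.trans (h _ (hPS _))) : l.length ≤ n)

end Groth.Agent.LangWeil
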