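import Groth.Agent.ZetaLib.ArithZeta

/-!
# Lower bounds for abscissas of zeta functions
-/

set_option autoImplicit false
set_option linter.style.haveILetI false

universe u

noncomputable section

open AlgebraicGeometry CategoryTheory Groth.Agent.ZetaLib

namespace Groth.Agent.LangWeil

theorem finite_normCount {ι : Type*} {N : ι → ℕ} (hN : ∀ i, 2 ≤ N i) (hf : ∀ n, Finite {i : ι // N i = n}) (n : ℕ) :
    Finite {α : ι →₀ ℕ // (α.prod fun i m => N i ^ m) = n} := by
  classical
  rcases Nat.eq_zero_or_pos n with rfl | hn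
  · haveI : IsEmpty {α : ι →₀ ℕ // (α.prod fun i m => N i ^ m) = 0} := ⟨fun α => by
      obtain ⟨i, -, hi⟩ := Finset.prod_eq_zero_iff.1 α.2
      have := hN i
      exact absurd hi (pow_ne_zero _ (by omega))⟩
    infer_instance
  haveI := hf
  let S := {i : ι // N i ≤ n}
  haveI : Finite S := Finite.of_injective
    (fun i => (⟨⟨N i.1, Nat.lt_succ_of_le i.2⟩, ⟨i.1, rfl⟩⟩ : Σ j : Fin (n + 1), {i : ι // N i = j}))
    fun a b h => Subtype.ext (congrArg (fun t : Σ j : Fin (n + 1), {i : ι // N i = j} => t.2.1) h)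
  have hdvd : ∀ (α : {α : ι →₀ ℕ // (α.prod fun i m => N i ^ m) = n}) (i : ι), i ∈ α.1.support →
      N i ≤ n ∧ α.1 i ≤ n := by
    intro α i hi
    have hd : N i ^ α.1 i ∣ n := (Finset.dvd_prod_of_mem (fun i => N i ^ α.1 i) hi).trans (dvd_of_eq α.2)
    have hle := Nat.le_of_dvd hn hd
    exact ⟨le_trans (Nat.le_self_pow (Finsupp.mem_support_iff.1 hi) _) hle,
      ((Nat.lt_pow_self (hN i)).le).trans hle⟩
  have hbd : ∀ (α : {α : ι →₀ ℕ // (α.prod fun i m => N i ^ m) = n}) (i : ι), α.1 i < n + 1 := by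
    intro α i
    by_cases h : i ∈ α.1.support
    · exact Nat.lt_succ_of_le (hdvd α i h).2
    · rw [Finsupp.notMem_support_iff.1 h]; exact Nat.succ_pos _
  refine Finite.of_injective (fun α (i : S) => (⟨α.1 i.1, hbd α i.1⟩ : Fin (n + 1))) fun α β h => ?_
  refine Subtype.ext (Finsupp.ext fun i => ?_)
  by_cases hi : N i ≤ n
  · exact congrArg Fin.val (congrFun h ⟨i, hi⟩)
  · rw [Finsupp.notMem_support_iff.1 fun h => hi (hdvd α i h).1,
      Finsupp.notMem_support_iff.1 fun h => hi (hdvd β i h).1]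

/-- A single element gives an element of norm `n`. -/
theorem card_fibre_le_normCount {ι : Type*} {N : ι → ℕ} (hN : ∀ i, 2 ≤ N i) (hf : ∀ n, Finite {i : ι // N i = n})
    (n : ℕ) : Nat.card {i : ι // N i = n} ≤ normCount N n := by
  classical
  haveI := finite_normCount hN hf n
  exact Nat.card_le_card_of_injective
    (fun i => (⟨Finsupp.single i.1 1, by rw [Finsupp.prod_single_index (h := fun i m => N i ^ m) (pow_zero _), pow_one, i.2]⟩ :
      {α : ι →₀ ℕ // (α.prod fun i m => N i ^ m) = n}))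
    fun i j h => Subtype.ext (Finsupp.single_left_injective one_ne_zero (congrArg Subtype.val h))

/-- The abscissa is at least `r` if the points are dense enough. -/
theorem le_abscissa {ι : Type*} [Nonempty ι] {N : ι → ℕ} (hN : ∀ i, 2 ≤ N i) (hf : ∀ n, Finite {i : ι // N i = n})
    {r : ℝ} (h : ∀ y : ℝ, 0 ≤ y → y < r → ¬ Summable fun i => (N i : ℝ) ^ (-y)) :
    (r : EReal) ≤ LSeries.abscissaOfAbsConv (fun n => (normCount N n : ℂ)) := by
  classical
  by_contra hlt
  obtain ⟨y, hy1, hy2⟩ := EReal.lt_iff_exists_real_btwn.1 (not_le.1 hlt)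
  rw [EReal.coe_lt_coe_iff] at hy2
  have hS := LSeriesSummable_of_abscissaOfAbsConv_lt_re (s := (y : ℂ)) (by simpa using hy1)
  have hterm : Summable fun n : ℕ => if n = 0 then 0 else (normCount N n : ℝ) / (n : ℝ) ^ y := by
    refine (summable_norm_iff.2 hS).congr fun n => ?_
    rw [LSeries.norm_term_eq]
    simp
  rcases le_or_gt 0 y with hy0 | hy0
  · refine h y hy0 hy2 ((Equiv.sigmaFiberEquiv N).summable_iff.1 ?_)
    haveI := hf
    refine (summable_sigma_of_nonneg (β := fun n => {i : ι // N i = n})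
      fun i => Real.rpow_nonneg (Nat.cast_nonneg _) _).2 ⟨fun n => Summable.of_finite, ?_⟩
    refine Summable.of_nonneg_of_le (fun n => tsum_nonneg fun i => Real.rpow_nonneg (Nat.cast_nonneg _) _)
      (fun n => ?_) hterm
    show ∑' i : {i : ι // N i = n}, (N i.1 : ℝ) ^ (-y) ≤ _
    rw [tsum_congr (fun i : {i : ι // N i = n} => by rw [i.2]), tsum_const, nsmul_eq_mul]
    split_ifs with hn
    · subst hn
      haveI : IsEmpty {i : ι // N i = 0} := ⟨fun i => by have := hN i.1; have := i.2; omega⟩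
      simp
    · rw [Real.rpow_neg (Nat.cast_nonneg _), div_eq_mul_inv]
      exact mul_le_mul_of_nonneg_right (by exact_mod_cast card_fibre_le_normCount hN hf n)
        (inv_nonneg.2 (Real.rpow_nonneg (Nat.cast_nonneg _) _))
  · obtain ⟨i⟩ := ‹Nonempty ι›
    have hinj : Function.Injective fun l : ℕ => N i ^ l := Nat.pow_right_injective (hN i)
    have ht := (hterm.comp_injective hinj).tendsto_atTop_zero
    have hge : ∀ l : ℕ, (1 : ℝ) ≤ ((fun n : ℕ => if n = 0 then 0 else (normCount N n : ℝ) / (n : ℝ) ^ y) ∘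
        fun l : ℕ => N i ^ l) l := by
      intro l
      have hne : N i ^ l ≠ 0 := pow_ne_zero _ (by have := hN i; omega)
      have hpos : (1 : ℝ) ≤ (N i ^ l : ℕ) := Nat.one_le_cast.2 (Nat.one_le_iff_ne_zero.2 hne)
      have hc : 1 ≤ normCount N (N i ^ l) := by
        haveI := finite_normCount hN hf (N i ^ l)
        haveI : Nonempty {α : ι →₀ ℕ // (α.prod fun i m => N i ^ m) = N i ^ l} :=
          ⟨⟨Finsupp.single i l, Finsupp.prod_single_index (h := fun i m => N i ^ m) (pow_zero _)⟩⟩
        exact Nat.card_pos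
      simp only [Function.comp_apply, if_neg hne]
      rw [le_div_iff₀ (Real.rpow_pos_of_pos (by linarith) _), one_mul]
      exact (Real.rpow_le_one_of_one_le_of_nonpos hpos hy0.le).trans (by exact_mod_cast hc)
    have := ge_of_tendsto' ht hge
    norm_num at this

/-- The fibres of the norm on the closed points are finite. -/
theorem finite_ptNorm_fibre {X : Scheme.{u}} (f : X ⟶ Spec (CommRingCat.of (ULift.{u} ℤ))) [LocallyOfFiniteType f]
    [QuasiCompact f] {r : ℕ} (hr : topologicalKrullDim X ≤ r) (n : ℕ) :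
    Finite {x : ClosedPt X // ptNorm x = n} := by
  rcases isEmpty_or_nonempty {x : ClosedPt X // ptNorm x = n} with h | ⟨⟨x, hx⟩⟩
  · infer_instance
  subst hx
  obtain ⟨c, p₀, hc⟩ := exists_const_card_points_le f hr
  haveI := finite_residueField f x.2
  haveI := (hc (X.residueField x.1)).2.2
  exact (card_ptNorm_le (X := X) (X.residueField x.1)).1

theorem two_le_ptNorm {X : Scheme.{u}} (f : X ⟶ Spec (CommRingCat.of (ULift.{u} ℤ))) [LocallyOfFiniteType f]
    (x : ClosedPt X) : 2 ≤ ptNorm x := by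
  haveI := finite_residueField f x.2
  exact Finite.one_lt_card (α := X.residueField x.1)

/-- The abscissa of a scheme of finite type over `ℤ` from the distribution of its closed points. -/
theorem abscissa_eq {X : Scheme.{u}} (f : X ⟶ Spec (CommRingCat.of (ULift.{u} ℤ))) [LocallyOfFiniteType f]
    [QuasiCompact f] {r : ℕ} (hr : topologicalKrullDim X ≤ r) [Nonempty (ClosedPt X)]
    (h : ∀ y : ℝ, 0 ≤ y → y < r → ¬ Summable fun x : ClosedPt X => (ptNorm x : ℝ) ^ (-y)) :
    LSeries.abscissaOfAbsConv (Zeta.arithCoeff X) = (r : ℝ) := by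
  refine le_antisymm (abscissa_le_and_ne_zero f r hr).1 ?_
  rw [show Zeta.arithCoeff X = fun n => (normCount (ptNorm (X := X)) n : ℂ) from
    funext fun n => congrArg Nat.cast (cycleNormCount_eq X n)]
  exact le_abscissa (fun x => two_le_ptNorm f x) (finite_ptNorm_fibre f hr) h

end Groth.Agent.LangWeil
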