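import Groth.Agent.LangWeil.Scheme
import Groth.Agent.LangWeil.Abscissa

/-!
# The abscissa of a scheme over a finite field
-/

set_option autoImplicit false
set_option linter.style.haveILetI false

universe u

noncomputable section

open AlgebraicGeometry CategoryTheory Groth.Agent.ZetaLib Filter Topology

namespace Groth.Agent.LangWeil

variable {k : Type u} [Field k] [Finite k] {X : Scheme.{u}} (f : X ⟶ Spec (CommRingCat.of k))
  [LocallyOfFiniteType f] [QuasiCompact f]

/-- The structure map to `Spec ℤ`. -/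
def toIntBase : X ⟶ Spec (CommRingCat.of (ULift.{u} ℤ)) :=
  f ≫ Spec.map (CommRingCat.ofHom ((Int.castRingHom k).comp (ULift.ringEquiv (R := ℤ)).toRingHom))

theorem finiteType_base (k : Type u) [Field k] [Finite k] : LocallyOfFiniteType
    (Spec.map (CommRingCat.ofHom ((Int.castRingHom k).comp (ULift.ringEquiv.{0, u} (R := ℤ)).toRingHom))) := by
  refine (HasRingHomProperty.Spec_iff (P := @LocallyOfFiniteType)).2 ?_
  refine RingHom.FiniteType.comp (RingHom.Finite.finiteType ?_)
    (RingHom.FiniteType.of_surjective _ (ULift.ringEquiv (R := ℤ)).surjective)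
  rw [← algebraMap_int_eq, RingHom.finite_algebraMap]
  exact Module.Finite.of_finite

instance : LocallyOfFiniteType (toIntBase f) := by
  haveI := finiteType_base k
  unfold toIntBase
  infer_instance

instance : QuasiCompact (toIntBase f) := by
  unfold toIntBase
  infer_instance

include f in
theorem nonempty_closedPt (hX : Nonempty X) : Nonempty (ClosedPt X) := by
  haveI : CompactSpace X := QuasiCompact.compactSpace_of_compactSpace f
  obtain ⟨x, -, hx⟩ := (isClosed_univ (X := X)).exists_closed_singleton Set.univ_nonempty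
  exact ⟨⟨x, hx⟩⟩

theorem ptNorm_eq_pow {x : ClosedPt X} :
    ptNorm x = Nat.card k ^ EGA4loc.residueDegree f x.1 := by
  rw [residueDegree_eq_finrank]
  letI := (Weil.structMap f x.1).toAlgebra
  haveI : Module.Finite k (X.residueField x.1) := (isClosed_iff_finite f x.1).1 x.2
  exact Module.natCard_eq_pow_finrank (K := k)

include f in
/-- The closed points of a variety over a finite field are too dense below its dimension. -/
theorem not_summable_finiteField {r : ℕ} (hr : topologicalKrullDim X = r) {y : ℝ} (hy0 : 0 ≤ y) (hy : y < r) :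
    ¬ Summable fun x : ClosedPt X => (ptNorm x : ℝ) ^ (-y) := by
  classical
  intro hsum
  obtain ⟨T, C, hC0, ⟨Z₀, hZ₀⟩, -, hpos, hb⟩ := exists_scheme_bound f hr
  set m := Nat.card (irreducibleComponents (geomProj f ⁻¹' Z₀))
  have hm : 0 < m := hpos Z₀ hZ₀
  set q : ℝ := (Nat.card k : ℝ) with hq
  have hq2 : 1 < q := Nat.one_lt_cast.2 Finite.one_lt_card
  have hq0 : 0 < q := by linarith
  set S := ∑' x : ClosedPt X, (ptNorm x : ℝ) ^ (-y)
  have hS0 : 0 ≤ S := tsum_nonneg fun x => Real.rpow_nonneg (Nat.cast_nonneg _) _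
  have hdeg : ∀ d : ℕ, (Zeta.degCount f d : ℝ) ≤ S * (q ^ d) ^ y := by
    intro d
    let A := {x : X // IsClosed ({x} : Set X) ∧ EGA4loc.residueDegree f x = d}
    haveI : Finite A := (finite_degree_eq f).to_subtype
    haveI := Fintype.ofFinite A
    let s : Finset (ClosedPt X) := Finset.univ.image fun a : A => ⟨a.1, a.2.1⟩
    have h := hsum.sum_le_tsum s fun x _ => Real.rpow_nonneg (Nat.cast_nonneg _) _
    have hinj : Set.InjOn (fun a : A => (⟨a.1, a.2.1⟩ : ClosedPt X)) (Finset.univ : Finset A) :=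
      fun a _ b _ hab => Subtype.ext (congrArg (fun x : ClosedPt X => x.1) hab)
    rw [Finset.sum_image hinj,
      Finset.sum_congr rfl (fun a _ => by rw [ptNorm_eq_pow f, a.2.2, Nat.cast_pow, ← hq]), Finset.sum_const,
      Finset.card_univ, nsmul_eq_mul, Real.rpow_neg (by positivity), ← div_eq_mul_inv,
      div_le_iff₀ (Real.rpow_pos_of_pos (by positivity) _)] at h
    rwa [Zeta.degCount, Nat.card_eq_fintype_card]
  have hnPts : ∀ e : ℕ, (Zeta.nPts f e : ℝ) ≤ (e : ℝ) ^ 2 * S * (q ^ e) ^ y := by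
    intro e
    rw [Zeta.nPts, Nat.cast_sum]
    refine (Finset.sum_le_sum (g := fun _ => (e : ℝ) * (S * (q ^ e) ^ y)) fun d hd => ?_).trans ?_
    · have hde : d ≤ e := Nat.divisor_le hd
      rw [Nat.cast_mul]
      refine mul_le_mul (Nat.cast_le.2 hde) ((hdeg d).trans ?_) (Nat.cast_nonneg _) (Nat.cast_nonneg _)
      exact mul_le_mul_of_nonneg_left (Real.rpow_le_rpow (by positivity) (pow_le_pow_right₀ hq2.le hde) hy0) hS0
    · rw [Finset.sum_const, nsmul_eq_mul]
      calc (e.divisors.card : ℝ) * (e * (S * (q ^ e) ^ y)) ≤ (e : ℝ) * (e * (S * (q ^ e) ^ y)) :=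
            mul_le_mul_of_nonneg_right (Nat.cast_le.2 (Nat.card_divisors_le_self e)) (by positivity)
        _ = _ := by ring
  set a : ℝ := q ^ (y - r)
  set b : ℝ := q ^ (-(1 / 2) : ℝ)
  have hle : ∀ j : ℕ, (m : ℝ) ≤ S * (((m * (j + 1) : ℕ) : ℝ) ^ 2 * a ^ (m * (j + 1))) + C * b ^ (m * (j + 1)) := by
    intro j
    set e := m * (j + 1)
    have he : 1 ≤ e := Nat.one_le_iff_ne_zero.2 (mul_ne_zero hm.ne' (by omega))
    have hsum_ge : m ≤ ∑ Z ∈ T, if Nat.card (irreducibleComponents (geomProj f ⁻¹' Z)) ∣ e then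
        Nat.card (irreducibleComponents (geomProj f ⁻¹' Z)) else 0 := by
      have h := Finset.single_le_sum (f := fun Z => if Nat.card (irreducibleComponents (geomProj f ⁻¹' Z)) ∣ e then
        Nat.card (irreducibleComponents (geomProj f ⁻¹' Z)) else 0) (fun Z _ => Nat.zero_le _) hZ₀
      rwa [if_pos (dvd_mul_right m (j + 1))] at h
    have h1 := (abs_le.1 (hb e he).1).1
    have h2 := hnPts e
    have hQ : 0 < q ^ e := pow_pos hq0 e
    have h3 : (m : ℝ) * (q ^ e) ^ r ≤ (e : ℝ) ^ 2 * S * (q ^ e) ^ y + C * (q ^ e) ^ r / Real.sqrt (q ^ e) := by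
      have h4 : (m : ℝ) * (q ^ e) ^ r ≤ (∑ Z ∈ T, if Nat.card (irreducibleComponents (geomProj f ⁻¹' Z)) ∣ e then
        Nat.card (irreducibleComponents (geomProj f ⁻¹' Z)) else 0 : ℕ) * (q ^ e) ^ r :=
        mul_le_mul_of_nonneg_right (Nat.cast_le.2 hsum_ge) (by positivity)
      linarith
    have hconv : ∀ t : ℝ, (q ^ t) ^ e = (q ^ e) ^ t := fun t => by
      rw [← Real.rpow_natCast, ← Real.rpow_natCast q e, ← Real.rpow_mul hq0.le, ← Real.rpow_mul hq0.le, mul_comm]
    have ha : a ^ e = (q ^ e) ^ y / (q ^ e) ^ r := by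
      rw [hconv, Real.rpow_sub hQ, Real.rpow_natCast]
    have hb' : b ^ e = 1 / Real.sqrt (q ^ e) := by
      rw [hconv, Real.rpow_neg hQ.le, Real.sqrt_eq_rpow, one_div ((q ^ e) ^ (1 / 2 : ℝ))]
    rw [ha, hb']
    have hp : 0 < (q ^ e) ^ r := pow_pos hQ r
    have := div_le_div_of_nonneg_right h3 hp.le
    rw [mul_div_assoc, div_self hp.ne', mul_one, add_div] at this
    refine this.trans (le_of_eq ?_)
    field_simp
  have ha1 : |a| < 1 := by
    rw [abs_of_pos (Real.rpow_pos_of_pos hq0 _)]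
    exact Real.rpow_lt_one_of_one_lt_of_neg hq2 (by linarith)
  have hb1 : |b| < 1 := by
    rw [abs_of_pos (Real.rpow_pos_of_pos hq0 _)]
    exact Real.rpow_lt_one_of_one_lt_of_neg hq2 (by norm_num)
  have hmu : Tendsto (fun j : ℕ => m * (j + 1)) atTop atTop :=
    tendsto_atTop_mono (fun j => (Nat.le_succ j).trans (Nat.le_mul_of_pos_left _ hm)) tendsto_id
  have ht : Tendsto (fun j : ℕ => S * (((m * (j + 1) : ℕ) : ℝ) ^ 2 * a ^ (m * (j + 1))) + C * b ^ (m * (j + 1)))
      atTop (𝓝 (S * 0 + C * 0)) :=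
    (((tendsto_pow_const_mul_const_pow_of_abs_lt_one 2 ha1).comp hmu).const_mul S).add
      (((tendsto_pow_atTop_nhds_zero_of_abs_lt_one hb1).comp hmu).const_mul C)
  have := ge_of_tendsto' ht hle
  rw [mul_zero, mul_zero, add_zero] at this
  exact absurd this (not_le.2 (Nat.cast_pos.2 hm))

include f in
theorem abscissa_eq_finiteField {r : ℕ} (hr : topologicalKrullDim X = r) :
    LSeries.abscissaOfAbsConv (Zeta.arithCoeff X) = (r : ℝ) := by
  haveI : Nonempty (ClosedPt X) := by
    obtain ⟨T, C, -, ⟨Z, hZ⟩, hT, -⟩ := exists_scheme_bound f hr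
    obtain ⟨x, -⟩ := ((hT Z).1 hZ).1.1.nonempty
    exact nonempty_closedPt f ⟨x⟩
  exact abscissa_eq (toIntBase f) hr.le fun y hy0 hy => not_summable_finiteField f hr hy0 hy

end Groth.Agent.LangWeil
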