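import Groth.Agent.LangWeil.Global
import Groth.Agent.LangWeil.AbscissaFinite
import Mathlib.AlgebraicGeometry.Morphisms.Immersion
import Mathlib.Topology.JacobsonSpace

/-!
# The abscissa of an arithmetic scheme
-/

set_option autoImplicit false
set_option linter.style.haveILetI false

universe u

noncomputable section

open AlgebraicGeometry CategoryTheory Groth.Agent.ZetaLib TopologicalSpace Topology

namespace Groth.Agent.LangWeil

variable {X : Scheme.{u}}

/-- A chain of points lives on an affine integral subscheme of at least the same dimension. -/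
theorem exists_affine_chain {r : ℕ} (hr : topologicalKrullDim X = r) :
    ∃ (A : Type u) (_ : CommRing A) (_ : IsDomain A) (g : Spec (CommRingCat.of A) ⟶ X),
      IsImmersion g ∧ (r : WithBot ℕ∞) ≤ ringKrullDim A := by
  classical
  obtain ⟨l, hl⟩ := Order.le_krullDim_iff.1 (show (r : WithBot ℕ∞) ≤ Order.krullDim X by
    rw [← VarDim.topologicalKrullDim_eq_krullDim, hr])
  obtain ⟨V, hV, hxV, -⟩ := exists_isAffineOpen_mem_and_subset (X := X) (U := ⊤) (x := l.head) trivial
  have hmem : ∀ i, l i ∈ V := fun i => (l.head_le i).mem_open V.2 hxV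
  let P := (hV.primeIdealOf ⟨l.last, hmem _⟩).asIdeal
  haveI : P.IsPrime := (hV.primeIdealOf ⟨l.last, hmem _⟩).isPrime
  let c := Spec.map (CommRingCat.ofHom (Ideal.Quotient.mk P))
  haveI : IsClosedImmersion c := IsClosedImmersion.spec_of_surjective _ Ideal.Quotient.mk_surjective
  haveI : IsOpenImmersion hV.fromSpec := hV.isOpenImmersion_fromSpec
  refine ⟨Γ(X, V) ⧸ P, inferInstance, inferInstance, c ≫ hV.fromSpec, inferInstance, ?_⟩
  rw [ringKrullDim_quotient]
  have hz : ∀ i, hV.primeIdealOf ⟨l i, hmem i⟩ ∈ PrimeSpectrum.zeroLocus (P : Set Γ(X, V)) := fun i =>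
    (VarDim.primeIdealOf_le_iff hV l.last (l i) (hmem _) (hmem i)).2 (l.strictMono.monotone (Fin.le_last i))
  let L : LTSeries (PrimeSpectrum.zeroLocus (P : Set Γ(X, V))) := LTSeries.mk l.length
    (fun i => ⟨hV.primeIdealOf ⟨l (Fin.rev i), hmem _⟩, hz _⟩) fun i j hij => by
      have h := l.strictMono (Fin.rev_lt_rev.2 hij)
      refine lt_iff_le_not_ge.2 ⟨?_, fun hle => h.not_ge ?_⟩
      · exact (VarDim.primeIdealOf_le_iff hV _ _ (hmem _) (hmem _)).2 h.le
      · exact (VarDim.primeIdealOf_le_iff hV _ _ (hmem _) (hmem _)).1 hle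
  exact le_trans (by exact_mod_cast hl.ge) (Order.LTSeries.length_le_krullDim L)

section

variable {Y : Scheme.{u}} (g : Y ⟶ X) [IsImmersion g]

theorem isClosed_image [JacobsonSpace X] {y : Y} (hy : IsClosed ({y} : Set Y)) : IsClosed ({g y} : Set X) := by
  refine isClosed_singleton_of_isLocallyClosed_singleton ?_
  have h := hy.isLocallyClosed.image g.isEmbedding.isInducing g.isLocallyClosed_range
  simpa using h

theorem card_residueField_image (y : Y) : Nat.card (X.residueField (g y)) = Nat.card (Y.residueField y) := by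
  refine Nat.card_eq_of_bijective (g.residueFieldMap y).hom ⟨RingHom.injective _, fun z => ?_⟩
  obtain ⟨a, rfl⟩ := Y.residue_surjective y z
  obtain ⟨b, rfl⟩ := g.stalkMap_surjective y a
  exact ⟨(X.residue (g y)).hom b, ConcreteCategory.congr_hom (Scheme.residue_residueFieldMap g y) b⟩

include g in
theorem summable_of_immersion [JacobsonSpace X] {y : ℝ}
    (h : Summable fun x : ClosedPt X => (ptNorm x : ℝ) ^ (-y)) :
    Summable fun z : ClosedPt Y => (ptNorm z : ℝ) ^ (-y) :=
  (h.comp_injective (i := fun z : ClosedPt Y => (⟨g z.1, isClosed_image g z.2⟩ : ClosedPt X))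
    fun a b hab => Subtype.ext (g.isEmbedding.injective (congrArg Subtype.val hab))).congr fun z => by
      show ((Nat.card (X.residueField (g z.1)) : ℕ) : ℝ) ^ (-y) = _
      rw [card_residueField_image g]
      rfl

end

/-- Homomorphisms to a field of prime order give distinct closed points. -/
theorem card_ringHom_le (A : Type u) [CommRing A] (hft : (Int.castRingHom A).FiniteType) {p : ℕ} (hp : p.Prime)
    (F : Type u) [Field F] [Finite F] (hF : Nat.card F = p) [Finite {x : ClosedPt (Spec (CommRingCat.of A)) // ptNorm x = p}] :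
    Nat.card (A →+* F) ≤ Nat.card {x : ClosedPt (Spec (CommRingCat.of A)) // ptNorm x = p} := by
  haveI : Fact p.Prime := ⟨hp⟩
  letI := Fintype.ofFinite F
  let e : ZMod p ≃+* F := FiniteField.ringEquivOfCardEq (by rw [ZMod.card, ← Nat.card_eq_fintype_card, hF])
  have hsurj : ∀ φ : A →+* F, Function.Surjective φ := fun φ z => by
    obtain ⟨n, hn⟩ := ZMod.natCast_zmod_surjective (e.symm z)
    refine ⟨n, ?_⟩
    rw [map_natCast, ← e.apply_symm_apply z, ← hn, map_natCast]
  have hmax : ∀ φ : A →+* F, (RingHom.ker φ).IsMaximal := fun φ => RingHom.ker_isMaximal_of_surjective φ (hsurj φ)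
  let pt : (A →+* F) → ↥(Spec (CommRingCat.of A)) := fun φ => (⟨RingHom.ker φ, (hmax φ).isPrime⟩ : PrimeSpectrum A)
  have hcl : ∀ φ, IsClosed ({pt φ} : Set (Spec (CommRingCat.of A))) := fun φ =>
    (PrimeSpectrum.isClosed_singleton_iff_isMaximal _).2 (hmax φ)
  have hnorm : ∀ φ, Nat.card ((Spec (CommRingCat.of A)).residueField (pt φ)) = p := fun φ => by
    haveI := hmax φ
    rw [Nat.card_congr (Scheme.Spec.residueFieldIso (CommRingCat.of A) (pt φ)).commRingCatIsoToRingEquiv.toEquiv]
    show Nat.card (RingHom.ker φ).ResidueField = p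
    rw [← Nat.card_eq_of_bijective _ (Ideal.bijective_algebraMap_quotient_residueField (RingHom.ker φ)),
      Nat.card_congr (RingHom.quotientKerEquivOfSurjective (hsurj φ)).toEquiv, hF]
  refine Nat.card_le_card_of_injective (fun φ => ⟨⟨pt φ, hcl φ⟩, hnorm φ⟩) fun φ ψ h => ?_
  have hk : RingHom.ker φ = RingHom.ker ψ :=
    congrArg (fun x : {x : ClosedPt (Spec (CommRingCat.of A)) // ptNorm x = p} => (x.1.1 : PrimeSpectrum A).asIdeal) h
  ext a
  obtain ⟨n, hn⟩ := ZMod.natCast_zmod_surjective (e.symm (φ a))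
  have h1 : φ a = n := by rw [← e.apply_symm_apply (φ a), ← hn, map_natCast]
  have h2 : a - n ∈ RingHom.ker ψ := hk ▸ (by rw [RingHom.mem_ker, map_sub, map_natCast, h1, sub_self])
  rw [RingHom.mem_ker, map_sub, map_natCast, sub_eq_zero] at h2
  rw [h1, h2]

/-- The closed points of an affine arithmetic variety are dense enough. -/
theorem not_summable_affine (A : Type u) [CommRing A] [IsDomain A] (hft : (Int.castRingHom A).FiniteType) {r : ℕ}
    (hr : ringKrullDim A = r) {y : ℝ} (hy0 : 0 ≤ y) (hy : y < r) :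
    ¬ Summable fun x : ClosedPt (Spec (CommRingCat.of A)) => (ptNorm x : ℝ) ^ (-y) := by
  classical
  have hdim : topologicalKrullDim (Spec (CommRingCat.of A)) = r := by
    show topologicalKrullDim (PrimeSpectrum A) = r
    rw [PrimeSpectrum.topologicalKrullDim_eq_ringKrullDim, hr]
  let f := Spec.map (CommRingCat.ofHom ((Int.castRingHom A).comp (ULift.ringEquiv.{0, u} (R := ℤ)).toRingHom))
  haveI : LocallyOfFiniteType f := (HasRingHomProperty.Spec_iff (P := @LocallyOfFiniteType)).2
    (hft.comp (RingHom.FiniteType.of_surjective _ (ULift.ringEquiv.{0, u} (R := ℤ)).surjective))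
  obtain ⟨p, hp⟩ := CharP.exists A
  rcases CharP.char_is_prime_or_zero A p with hpp | rfl
  · haveI : Fact p.Prime := ⟨hpp⟩
    let k := ULift.{u} (ZMod p)
    let φ : k →+* A := (ZMod.castHom dvd_rfl A).comp (ULift.ringEquiv (R := ZMod p)).toRingHom
    haveI : LocallyOfFiniteType (Spec.map (CommRingCat.ofHom φ)) := by
      refine (HasRingHomProperty.Spec_iff (P := @LocallyOfFiniteType)).2
        (RingHom.FiniteType.of_comp_finiteType (f := Int.castRingHom k) ?_)
      show (φ.comp (Int.castRingHom k)).FiniteType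
      rwa [RingHom.eq_intCast' (φ.comp (Int.castRingHom k))]
    exact not_summable_finiteField (Spec.map (CommRingCat.ofHom φ)) hdim hy0 hy
  · haveI : CharZero A := CharP.charP_to_charZero A
    obtain ⟨s, K, _, _, N₀, hs, hpts⟩ := exists_domain_points A hft
    have hrs : r ≤ s + 1 := by rw [hr] at hs; exact_mod_cast hs
    intro hsum
    have hσ : y - s < 1 := by
      have : (r : ℝ) ≤ s + 1 := by exact_mod_cast hrs
      linarith
    refine not_summable_degree_one K hσ N₀ ?_
    let β := fun n => {x : ClosedPt (Spec (CommRingCat.of A)) // ptNorm x = n}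
    have hfin : ∀ n, Finite (β n) := fun n => finite_ptNorm_fibre f hdim.le n
    have h1 := (summable_sigma_of_nonneg (β := β)
      fun x => Real.rpow_nonneg (Nat.cast_nonneg (ptNorm x.2.1)) (-y)).1
        ((Equiv.sigmaFiberEquiv (ptNorm (X := Spec (CommRingCat.of A)))).summable_iff.2 hsum)
    have h2 : Summable fun n : ℕ => (Nat.card (β n) : ℝ) * (n : ℝ) ^ (-y) := h1.2.congr fun n => by
      haveI := hfin n
      show ∑' x : β n, (ptNorm x.1 : ℝ) ^ (-y) = _
      rw [tsum_congr (fun x : β n => by rw [x.2]), tsum_const, nsmul_eq_mul]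
    refine Summable.of_nonneg_of_le (fun p => Real.rpow_nonneg (Nat.cast_nonneg _) _) (fun p => ?_)
      ((h2.comp_injective (i := fun p : {p : ℕ // p.Prime ∧ N₀ < p ∧ ∃ P : PrimeId K, Ideal.absNorm P.1 = p} => p.1)
        Subtype.val_injective).mul_left 2)
    obtain ⟨p, hp, hpN, hP⟩ := p
    haveI : Fact p.Prime := ⟨hp⟩
    haveI := hfin p
    have hcard : Nat.card (ULift.{u} (ZMod p)) = p := by rw [Nat.card_ulift, Nat.card_zmod]
    have h3 := hpts p hp hpN hP (ULift.{u} (ZMod p)) hcard
    have h4 : (Nat.card (A →+* ULift.{u} (ZMod p)) : ℝ) ≤ Nat.card (β p) :=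
      Nat.cast_le.2 (card_ringHom_le A hft hp _ hcard)
    have hp0 : (0 : ℝ) < p := Nat.cast_pos.2 hp.pos
    show (p : ℝ) ^ (-(y - s)) ≤ 2 * ((Nat.card (β p) : ℝ) * (p : ℝ) ^ (-y))
    rw [show -(y - s) = (s : ℝ) + -y by ring, Real.rpow_add hp0, Real.rpow_natCast, ← mul_assoc]
    exact mul_le_mul_of_nonneg_right (by linarith) (Real.rpow_nonneg hp0.le _)

theorem abscissa_eq_int (f : X ⟶ Spec (CommRingCat.of (ULift.{u} ℤ))) [LocallyOfFiniteType f] [QuasiCompact f]
    (r : ℕ) (hr : topologicalKrullDim X = r) :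
    LSeries.abscissaOfAbsConv (Zeta.arithCoeff X) = (r : ℝ) := by
  haveI : IsJacobsonRing (ULift.{u} ℤ) :=
    (isJacobsonRing_iso (ULift.ringEquiv.{0, u} (R := ℤ))).2 ZetaLib.isJacobsonRing_int
  haveI : JacobsonSpace (Spec (CommRingCat.of (ULift.{u} ℤ))) :=
    inferInstanceAs (JacobsonSpace (PrimeSpectrum (ULift.{u} ℤ)))
  haveI : JacobsonSpace X := LocallyOfFiniteType.jacobsonSpace f
  haveI : CompactSpace X := QuasiCompact.compactSpace_of_compactSpace f
  obtain ⟨A, _, _, g, hg, hdimA⟩ := exists_affine_chain hr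
  haveI := hg
  haveI : Nonempty X := ⟨g.base (Classical.arbitrary (PrimeSpectrum A))⟩
  haveI : Nonempty (ClosedPt X) := by
    obtain ⟨x, -, hx⟩ := (isClosed_univ (X := X)).exists_closed_singleton Set.univ_nonempty
    exact ⟨⟨x, hx⟩⟩
  have hA : ringKrullDim A = r := le_antisymm (by
    rw [← PrimeSpectrum.topologicalKrullDim_eq_ringKrullDim, ← hr]
    exact g.isEmbedding.isInducing.topologicalKrullDim_le) hdimA
  have hft : (Int.castRingHom A).FiniteType := by
    obtain ⟨φ, hφ⟩ : ∃ φ : CommRingCat.of (ULift.{u} ℤ) ⟶ CommRingCat.of A, Spec.map φ = g ≫ f :=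
      ⟨_, Spec.map_preimage _⟩
    have h : LocallyOfFiniteType (Spec.map φ) := by rw [hφ]; infer_instance
    rw [HasRingHomProperty.Spec_iff (P := @LocallyOfFiniteType)] at h
    rw [Subsingleton.elim (Int.castRingHom A) (φ.hom.comp (ULift.ringEquiv.{0, u} (R := ℤ)).symm.toRingHom)]
    exact h.comp (RingHom.FiniteType.of_surjective _ (ULift.ringEquiv.{0, u} (R := ℤ)).symm.surjective)
  exact abscissa_eq f hr.le fun y hy0 hy hsum =>
    not_summable_affine A hft hA hy0 hy (summable_of_immersion g hsum)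

end Groth.Agent.LangWeil
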