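import Mathlib

/-!
# Absolute irreducibility from an algebraically closed field of constants
-/

set_option autoImplicit false

noncomputable section

open Polynomial

namespace Groth.Agent.LangWeil

attribute [local instance] Classical.decEq

section coord

variable {A B : Type*} [CommRing A] [CommRing B] {T : Type*}

/-- Apply an additive map to the coefficients. -/
def cMv (c : A →+ B) : MvPolynomial T A →+ MvPolynomial T B where
  toFun q := ∑ d ∈ q.support, MvPolynomial.monomial d (c (q.coeff d))
  map_zero' := by simp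
  map_add' p q := by
    ext d
    simp only [MvPolynomial.coeff_add, MvPolynomial.coeff_sum, MvPolynomial.coeff_monomial,
      Finset.sum_ite_eq']
    have h : ∀ r : MvPolynomial T A, (if d ∈ r.support then c (r.coeff d) else 0) = c (r.coeff d) := fun r => by
      split_ifs with h
      · rfl
      · rw [MvPolynomial.notMem_support_iff.1 h, map_zero]
    rw [h p, h q, ← MvPolynomial.coeff_add, h, MvPolynomial.coeff_add, map_add]

theorem coeff_cMv (c : A →+ B) (q : MvPolynomial T A) (d : T →₀ ℕ) :
    (cMv c q).coeff d = c (q.coeff d) := by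
  simp only [cMv, AddMonoidHom.coe_mk, ZeroHom.coe_mk, MvPolynomial.coeff_sum, MvPolynomial.coeff_monomial,
    Finset.sum_ite_eq']
  split_ifs with h
  · rfl
  · rw [MvPolynomial.notMem_support_iff.1 h, map_zero]

theorem cMv_monomial (c : A →+ B) (d : T →₀ ℕ) (a : A) :
    cMv c (MvPolynomial.monomial d a) = MvPolynomial.monomial d (c a) := by
  ext e
  rw [coeff_cMv, MvPolynomial.coeff_monomial, MvPolynomial.coeff_monomial]
  split_ifs <;> simp

/-- Apply an additive map to the coefficients of the coefficients. -/
def cPoly (c : A →+ B) : Polynomial (MvPolynomial T A) →+ Polynomial (MvPolynomial T B) where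
  toFun q := ∑ i ∈ q.support, monomial i (cMv c (q.coeff i))
  map_zero' := by simp
  map_add' p q := by
    ext i : 1
    simp only [coeff_add, finset_sum_coeff, coeff_monomial, Finset.sum_ite_eq']
    have h : ∀ r : Polynomial (MvPolynomial T A), (if i ∈ r.support then cMv c (r.coeff i) else 0) = cMv c (r.coeff i) := fun r => by
      split_ifs with h
      · rfl
      · rw [notMem_support_iff.1 h, map_zero]
    rw [h p, h q, ← coeff_add, h, coeff_add, map_add]

theorem coeff_cPoly (c : A →+ B) (q : Polynomial (MvPolynomial T A)) (i : ℕ) :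
    (cPoly c q).coeff i = cMv c (q.coeff i) := by
  simp only [cPoly, AddMonoidHom.coe_mk, ZeroHom.coe_mk, finset_sum_coeff, coeff_monomial, Finset.sum_ite_eq']
  split_ifs with h
  · rfl
  · rw [notMem_support_iff.1 h, map_zero]

theorem cPoly_monomial (c : A →+ B) (i : ℕ) (a : MvPolynomial T A) :
    cPoly c (monomial i a) = monomial i (cMv c a) := by
  ext j : 1
  rw [coeff_cPoly, coeff_monomial, coeff_monomial]
  split_ifs <;> simp

theorem monic_cPoly (c : A →+ B) (hc : c 1 = 1) {q : Polynomial (MvPolynomial T A)} (hq : q.Monic) :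
    (cPoly c q).Monic ∧ (cPoly c q).natDegree ≤ q.natDegree := by
  have hle : (cPoly c q).natDegree ≤ q.natDegree := natDegree_le_iff_coeff_eq_zero.2 fun i hi => by
    rw [coeff_cPoly, coeff_eq_zero_of_natDegree_lt hi, map_zero]
  refine ⟨monic_of_natDegree_le_of_coeff_eq_one _ hle ?_, hle⟩
  rw [coeff_cPoly, hq.coeff_natDegree, show (1 : MvPolynomial T A) = MvPolynomial.monomial 0 1 from rfl, cMv_monomial, hc]
  rfl

end coord

variable {F : Type*} [Field F] {T : Type*}

theorem irreducible_of_algClosedIn {L : Type*} [Field L] [Algebra F L]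
    (halg : ∀ a : L, IsAlgebraic F a → a ∈ Set.range (algebraMap F L)) {p : F[X]} (hp : Irreducible p)
    (hm : p.Monic) : Irreducible (p.map (algebraMap F L)) := by
  refine (hm.map _).irreducible_iff_natDegree'.2 ⟨fun h => ?_, fun f g hf hg hfg hdeg => ?_⟩
  · have := congrArg natDegree h
    rw [natDegree_map, natDegree_one] at this
    exact hp.natDegree_pos.ne' this
  have hlift : ∀ {q : L[X]}, q.Monic → q ∣ p.map (algebraMap F L) → ∃ q0 : F[X], q0.Monic ∧ q0.map (algebraMap F L) = q := by
    intro q hq hdvd
    have h1 := integralClosure.mem_lifts_of_monic_of_dvd_map L hm hq hdvd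
    have h2 : q ∈ lifts (algebraMap F L) := (lifts_iff_coeff_lifts _).2 fun i => by
      obtain ⟨x, hx⟩ := (lifts_iff_coeff_lifts _).1 h1 i
      rw [← hx]
      exact halg _ (x.2 : IsIntegral F (x : L)).isAlgebraic
    obtain ⟨q0, h3, -, h4⟩ := lifts_and_degree_eq_and_monic h2 hq
    exact ⟨q0, h4, h3⟩
  obtain ⟨f0, hf0, rfl⟩ := hlift hf ⟨g, hfg.symm⟩
  obtain ⟨g0, hg0, rfl⟩ := hlift hg ⟨_, (mul_comm _ _).trans hfg |>.symm⟩
  rw [← Polynomial.map_mul] at hfg
  have := map_injective _ (algebraMap F L).injective hfg
  rw [natDegree_map, natDegree_map] at hdeg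
  exact ((hm.irreducible_iff_natDegree'.1 hp).2 f0 g0 hf0 hg0 this) hdeg

section main

variable {G : Polynomial (MvPolynomial T F)}

/-- Over a simple extension of `F`, the root `z` forces any monic factor to have full degree. -/
theorem no_factor_adjoinRoot (hm : G.Monic) (hirr : Irreducible G) {L : Type*} [Field L] [Algebra F L]
    (ψ : MvPolynomial T F →ₐ[F] L) (hψ : Function.Injective ψ) (z : L) (hz : G.eval₂ ψ.toRingHom z = 0)
    (halg : ∀ a : L, IsAlgebraic F a → a ∈ Set.range (algebraMap F L))
    {p : F[X]} (hp : Irreducible p) (hpm : p.Monic)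
    {a b : Polynomial (MvPolynomial T (AdjoinRoot p))} (ha : a.Monic) (hb : b.Monic)
    (hab : a * b = G.map (MvPolynomial.map (AdjoinRoot.of p))) : a.natDegree = 0 ∨ b.natDegree = 0 := by
  haveI := Fact.mk hp
  haveI := Fact.mk (irreducible_of_algClosedIn halg hp hpm)
  set pL := p.map (algebraMap F L)
  let j : AdjoinRoot p →+* AdjoinRoot pL := AdjoinRoot.map (algebraMap F L) p pL dvd_rfl
  let ev : Polynomial (MvPolynomial T (AdjoinRoot p)) →+* AdjoinRoot pL :=
    Polynomial.eval₂RingHom (MvPolynomial.eval₂Hom j fun t => AdjoinRoot.of pL (ψ (MvPolynomial.X t)))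
      (AdjoinRoot.of pL z)
  let c : AdjoinRoot p →+ F := ((lcoeff F 0).comp (AdjoinRoot.modByMonicHom hpm)).toAddMonoidHom
  let Λ : AdjoinRoot pL →ₗ[L] L := (lcoeff L 0).comp (AdjoinRoot.modByMonicHom (hpm.map _))
  have hΛ : ∀ x, Λ (j x) = algebraMap F L (c x) := by
    intro x
    obtain ⟨q, rfl⟩ := AdjoinRoot.mk_surjective x
    show ((AdjoinRoot.modByMonicHom (hpm.map (algebraMap F L))) (AdjoinRoot.map (algebraMap F L) p pL dvd_rfl (AdjoinRoot.mk p q))).coeff 0 = _
    rw [show (AdjoinRoot.map (algebraMap F L) p pL dvd_rfl) (AdjoinRoot.mk p q) = AdjoinRoot.mk pL (q.map (algebraMap F L)) from (RingHom.congr_fun (show (AdjoinRoot.map (algebraMap F L) p pL dvd_rfl).comp (AdjoinRoot.mk p) = (AdjoinRoot.mk pL).comp (mapRingHom (algebraMap F L)) from Polynomial.ringHom_ext (fun r => by simp [AdjoinRoot.mk_C, AdjoinRoot.map]) (by simp [AdjoinRoot.mk_X, AdjoinRoot.map])) q), AdjoinRoot.modByMonicHom_mk, ← map_modByMonic _ hpm, coeff_map]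
    rfl
  have hc1 : c 1 = 1 := by
    show ((AdjoinRoot.modByMonicHom hpm) 1).coeff 0 = 1
    rw [← map_one (AdjoinRoot.mk p), AdjoinRoot.modByMonicHom_mk, (modByMonic_eq_self_iff hpm).2]
    · simp
    · rw [degree_one]; exact hp.degree_pos
  have hev : ∀ q, Λ (ev q) = (cPoly c q).eval₂ ψ.toRingHom z := by
    intro q
    induction q using Polynomial.induction_on' with
    | add q r hq hr => rw [map_add, map_add, map_add, eval₂_add, hq, hr]
    | monomial i a =>
      induction a using MvPolynomial.induction_on' with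
      | add q r hq hr =>
        rw [map_add, map_add, map_add, map_add, eval₂_add, hq, hr]
      | monomial d x =>
        rw [cPoly_monomial, cMv_monomial, eval₂_monomial]
        show Λ (Polynomial.eval₂ _ _ (monomial i (MvPolynomial.monomial d x))) = _
        rw [eval₂_monomial, MvPolynomial.eval₂Hom_monomial]
        have hprod : (d.prod fun t e => AdjoinRoot.of pL (ψ (MvPolynomial.X t)) ^ e) * AdjoinRoot.of pL z ^ i =
            AdjoinRoot.of pL (ψ (MvPolynomial.monomial d 1) * z ^ i) := by
          rw [MvPolynomial.monomial_eq, MvPolynomial.C_1, one_mul, map_finsuppProd, map_mul, map_pow,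
            map_finsuppProd]
          simp only [map_pow]
        rw [mul_assoc, hprod, mul_comm, ← AdjoinRoot.algebraMap_eq, ← Algebra.smul_def, map_smul, hΛ,
          smul_eq_mul, show MvPolynomial.monomial d (c x) = MvPolynomial.C (c x) * MvPolynomial.monomial d 1 by
            rw [MvPolynomial.C_mul_monomial, mul_one]]
        simp only [AlgHom.toRingHom_eq_coe, RingHom.coe_coe, map_mul, ← MvPolynomial.algebraMap_eq,
          AlgHom.commutes]
        ring
  have hmin : ∀ q : Polynomial (MvPolynomial T F), q.Monic → q.eval₂ ψ.toRingHom z = 0 → G.natDegree ≤ q.natDegree := by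
    intro q hq hqz
    letI : Algebra (FractionRing (MvPolynomial T F)) L :=
      (IsFractionRing.lift (K := FractionRing (MvPolynomial T F)) (g := ψ.toRingHom) hψ).toAlgebra
    let κ := algebraMap (MvPolynomial T F) (FractionRing (MvPolynomial T F))
    have hroot : ∀ r : Polynomial (MvPolynomial T F), aeval z (r.map κ) = r.eval₂ ψ.toRingHom z := fun r => by
      rw [aeval_def, eval₂_map]
      congr 1
      exact RingHom.ext fun x => IsFractionRing.lift_algebraMap hψ x
    have h1 : Irreducible (G.map κ) := hm.irreducible_iff_irreducible_map_fraction_map.1 hirr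
    have h2 := minpoly.eq_of_irreducible_of_monic h1 ((hroot G).trans hz) (hm.map κ)
    have h3 := natDegree_le_natDegree (minpoly.min _ _ (hq.map κ) ((hroot q).trans hqz))
    rwa [← h2, hm.natDegree_map, hq.natDegree_map] at h3
  have hdeg : a.natDegree + b.natDegree = G.natDegree := by
    rw [← ha.natDegree_mul hb, hab, hm.natDegree_map]
  have hprod : ev a * ev b = 0 := by
    rw [← map_mul, hab]
    show Polynomial.eval₂ _ _ (G.map _) = 0
    rw [eval₂_map, ← map_zero (AdjoinRoot.of pL), ← hz, hom_eval₂]
    congr 1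
    refine MvPolynomial.ringHom_ext (fun r => ?_) fun t => ?_
    · simp only [RingHom.comp_apply, MvPolynomial.map_C, MvPolynomial.eval₂Hom_C, AlgHom.toRingHom_eq_coe,
        RingHom.coe_coe, ← MvPolynomial.algebraMap_eq, AlgHom.commutes]
      rw [MvPolynomial.algebraMap_eq, MvPolynomial.map_C, MvPolynomial.eval₂Hom_C]
      exact AdjoinRoot.map_of (algebraMap F L) p pL dvd_rfl r
    · simp
  rcases mul_eq_zero.1 hprod with h | h
  · obtain ⟨h1, h2⟩ := monic_cPoly c hc1 ha
    have := hmin _ h1 (by rw [← hev, h, map_zero])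
    omega
  · obtain ⟨h1, h2⟩ := monic_cPoly c hc1 hb
    have := hmin _ h1 (by rw [← hev, h, map_zero])
    omega

theorem exists_lift_fractionRing {A Ω : Type*} [CommRing A] [IsDomain A] [Field Ω] (g : A →+* Ω)
    (hg : Function.Injective g) : ∃ ν : FractionRing A →+* Ω, ν.comp (algebraMap A (FractionRing A)) = g :=
  ⟨IsFractionRing.lift hg, RingHom.ext fun x => IsFractionRing.lift_algebraMap hg x⟩

theorem coprime_factors_algClosure {K : Type*} [Field K] [Algebra F K] {Ω : Type*} [Field Ω]
    (κ' : MvPolynomial T K →+* Ω) (hκ' : Function.Injective κ') (hm : G.Monic) (hirr : Irreducible G)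
    (hsep : derivative G ≠ 0) {a b : Polynomial (MvPolynomial T K)}
    (hab : a * b = G.map (MvPolynomial.map (algebraMap F K))) : IsCoprime (a.map κ') (b.map κ') := by
  have hμ : Function.Injective (κ'.comp (MvPolynomial.map (σ := T) (algebraMap F K))) :=
    hκ'.comp (MvPolynomial.map_injective _ (algebraMap F K).injective)
  have hirr' := hm.irreducible_iff_irreducible_map_fraction_map (K := FractionRing (MvPolynomial T F)) |>.1 hirr
  have hsep' : (G.map (algebraMap (MvPolynomial T F) (FractionRing (MvPolynomial T F)))).Separable := by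
    refine (separable_iff_derivative_ne_zero hirr').2 ?_
    rw [derivative_map, Ne, Polynomial.map_eq_zero_iff (IsFractionRing.injective _ _)]
    exact hsep
  obtain ⟨ν, hν⟩ := exists_lift_fractionRing _ hμ
  have h2 := hsep'.map (f := ν)
  rw [Polynomial.map_map, hν, ← Polynomial.map_map, ← hab, Polynomial.map_mul] at h2
  exact h2.isCoprime

/-- If `F` is algebraically closed in a field containing a root of the monic separable irreducible `G`,
then `G` is absolutely irreducible. -/
theorem irreducible_algClosure {K : Type*} [Field K] [Algebra F K] [Algebra.IsAlgebraic F K] (hm : G.Monic) (hirr : Irreducible G) (hsep : derivative G ≠ 0)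
    {L : Type*} [Field L] [Algebra F L] (ψ : MvPolynomial T F →ₐ[F] L) (hψ : Function.Injective ψ) (z : L)
    (hz : G.eval₂ ψ.toRingHom z = 0) (halg : ∀ a : L, IsAlgebraic F a → a ∈ Set.range (algebraMap F L)) :
    Irreducible (G.map (MvPolynomial.map (algebraMap F K))) := by
  set μ := MvPolynomial.map (σ := T) (algebraMap F K)
  have hGd : 0 < G.natDegree := by
    by_contra h
    exact hirr.not_isUnit (by rw [hm.natDegree_eq_zero.1 (by omega)]; exact isUnit_one)
  refine (hm.map _).irreducible_iff_natDegree'.2 ⟨fun h => ?_, fun a b ha hb hab hdeg => ?_⟩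
  · have := congrArg natDegree h
    rw [hm.natDegree_map, natDegree_one] at this
    omega
  rw [Finset.mem_Ioc, hm.natDegree_map] at hdeg
  have hadd : a.natDegree + b.natDegree = G.natDegree := by rw [← ha.natDegree_mul hb, hab, hm.natDegree_map]
  -- a common power making the coefficients of `a` separable
  obtain ⟨p, hpe⟩ := ExpChar.exists F
  haveI := hpe
  haveI : ExpChar K p := expChar_of_injective_ringHom (algebraMap F K).injective p
  haveI : IsPurelyInseparable (separableClosure F K) K := separableClosure.isPurelyInseparable F K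
  haveI : ExpChar (separableClosure F K) p :=
    expChar_of_injective_ringHom (algebraMap F (separableClosure F K)).injective p
  let coefs : Finset K := a.support.biUnion fun i => (a.coeff i).support.image (a.coeff i).coeff
  have hpow : ∀ x : K, ∃ n : ℕ, x ^ p ^ n ∈ separableClosure F K := fun x => by
    obtain ⟨n, y, hy⟩ := IsPurelyInseparable.pow_mem (separableClosure F K) p x
    exact ⟨n, hy ▸ y.2⟩
  choose e he using hpow
  set N := coefs.sup e
  have hN : ∀ x ∈ coefs, x ^ p ^ N ∈ separableClosure F K := by
    intro x hx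
    obtain ⟨d, hd⟩ := Nat.exists_eq_add_of_le (Finset.le_sup (f := e) hx)
    rw [show N = e x + d from hd, pow_add, pow_mul]
    exact pow_mem (he x) _
  set q := p ^ N with hq
  have hq0 : 0 < q := pow_pos (expChar_pos F p) N
  -- a primitive element for them
  let E := IntermediateField.adjoin F ((coefs.image (· ^ q) : Finset K) : Set K)
  haveI : FiniteDimensional F E := IntermediateField.finiteDimensional_adjoin fun x _ => Algebra.IsIntegral.isIntegral x
  haveI : Algebra.IsSeparable F E := (IntermediateField.isSeparable_adjoin_iff_isSeparable F K).2 fun x hx => by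
    obtain ⟨y, hy, rfl⟩ := Finset.mem_image.1 (Finset.mem_coe.1 hx)
    exact mem_separableClosure_iff.1 (hN y hy)
  obtain ⟨γ, hγ⟩ := Field.exists_primitive_element F E
  set pγ := minpoly F γ
  have hpγ : Irreducible pγ := minpoly.irreducible (Algebra.IsIntegral.isIntegral γ)
  haveI := Fact.mk hpγ
  let ι : AdjoinRoot pγ →ₐ[F] K := E.val.comp (AdjoinRoot.liftAlgHom pγ (Algebra.ofId F E) γ (minpoly.aeval F γ))
  have hE : ∀ x ∈ E, x ∈ Set.range ι := by
    intro x hx
    have : (⟨x, hx⟩ : E) ∈ (AdjoinRoot.liftAlgHom pγ (Algebra.ofId F E) γ (minpoly.aeval F γ)).range := by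
      have htop : Algebra.adjoin F ({γ} : Set E) = ⊤ := by
        rw [← IntermediateField.adjoin_simple_toSubalgebra_of_isAlgebraic (Algebra.IsAlgebraic.isAlgebraic γ), hγ]
        rfl
      refine (Algebra.adjoin_le (Set.singleton_subset_iff.2 ?_) : Algebra.adjoin F ({γ} : Set E) ≤ _) (htop ▸ trivial)
      exact ⟨AdjoinRoot.root pγ, AdjoinRoot.liftAlgHom_root _ _ _ _⟩
    obtain ⟨y, hy⟩ := this
    exact ⟨y, congrArg Subtype.val hy⟩
  set M := Polynomial.mapRingHom (MvPolynomial.map (σ := T) ι.toRingHom)
  have hmem : a ^ q ∈ M.range := by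
    haveI : ExpChar (Polynomial (MvPolynomial T K)) p :=
      expChar_of_injective_ringHom (f := (Polynomial.C).comp (MvPolynomial.C (σ := T) (R := K)))
        (C_injective.comp (MvPolynomial.C_injective T K)) p
    rw [show a ^ q = (∑ i ∈ a.support, monomial i (a.coeff i)) ^ p ^ N by rw [← a.as_sum_support], sum_pow_char_pow p N]
    refine Subring.sum_mem _ fun i hi => ?_
    rw [(a.coeff i).as_sum, map_sum, sum_pow_char_pow p N]
    refine Subring.sum_mem _ fun d hd => ?_
    rw [monomial_pow, MvPolynomial.monomial_pow]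
    obtain ⟨y, hy⟩ := hE _ (IntermediateField.subset_adjoin F _ (Finset.mem_coe.2
      (Finset.mem_image_of_mem (· ^ q) (Finset.mem_biUnion.2 ⟨i, hi, Finset.mem_image_of_mem _ hd⟩))))
    exact ⟨monomial (i * q) (MvPolynomial.monomial (q • d) y), by simp [M, hy, hq]⟩
  obtain ⟨a1, ha1⟩ := hmem
  have hιinj : Function.Injective (MvPolynomial.map (σ := T) ι.toRingHom) :=
    MvPolynomial.map_injective _ ι.toRingHom.injective
  set G1 := G.map (MvPolynomial.map (σ := T) (AdjoinRoot.of pγ)) with hG1
  have hG1m : G1.Monic := hm.map _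
  have hG1irr : Irreducible G1 := by
    refine hG1m.irreducible_iff_natDegree'.2 ⟨fun h => ?_, fun f g hf hg hfg hd => ?_⟩
    · have := congrArg natDegree h
      rw [hm.natDegree_map, natDegree_one] at this
      omega
    rw [Finset.mem_Ioc, hm.natDegree_map] at hd
    have hfgd : f.natDegree + g.natDegree = G.natDegree := by
      rw [← hf.natDegree_mul hg, hfg, hm.natDegree_map]
    have := no_factor_adjoinRoot hm hirr ψ hψ z hz halg hpγ (minpoly.monic (Algebra.IsIntegral.isIntegral γ)) hf hg hfg
    omega
  have hG1map : G1.map (MvPolynomial.map ι.toRingHom) = G.map μ := by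
    rw [Polynomial.map_map]
    congr 1
    refine MvPolynomial.ringHom_ext (fun r => ?_) fun t => by simp [μ]
    simp only [RingHom.comp_apply, MvPolynomial.map_C, μ]
    congr 1
    exact ι.commutes r
  have ha1m : a1.Monic := by
    refine monic_of_injective hιinj ?_
    rw [show a1.map _ = a ^ q from ha1]
    exact ha.pow q
  have hdvd : a1 ∣ G1 ^ q := by
    rw [← Polynomial.map_dvd_map _ hιinj ha1m, show a1.map _ = a ^ q from ha1, Polynomial.map_pow, hG1map, ← hab, mul_pow]
    exact dvd_mul_right _ _
  obtain ⟨i, hiq, hassoc⟩ := (dvd_prime_pow hG1irr.prime q).1 hdvd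
  have heq : a1 = G1 ^ i := eq_of_monic_of_associated ha1m (hG1m.pow i) hassoc
  have hkey : a ^ q = a ^ i * b ^ i := by
    rw [← ha1, heq]
    show (G1 ^ i).map _ = _
    rw [Polynomial.map_pow, hG1map, ← hab, mul_pow]
  have hi : i < q := by
    have := congrArg natDegree hkey
    rw [ha.natDegree_pow, ← mul_pow, (ha.mul hb).natDegree_pow, ha.natDegree_mul hb, hadd] at this
    by_contra hge
    have := Nat.mul_le_mul_right G.natDegree (not_lt.1 hge)
    have hlt : a.natDegree < G.natDegree := by omega
    nlinarith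
  have hcan : a ^ (q - i) = b ^ i := by
    refine mul_left_cancel₀ (pow_ne_zero i ha.ne_zero) ?_
    rw [← hkey, ← pow_add, Nat.add_sub_cancel' hi.le]
  have hcop := (coprime_factors_algClosure (algebraMap (MvPolynomial T K) (FractionRing (MvPolynomial T K)))
    (IsFractionRing.injective _ _) hm hirr hsep hab).pow (m := q - i) (n := i)
  set κ := algebraMap (MvPolynomial T K) (FractionRing (MvPolynomial T K))
  rw [← Polynomial.map_pow, ← Polynomial.map_pow, hcan, isCoprime_self] at hcop
  have h0 := natDegree_eq_zero_of_isUnit hcop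
  rw [← hcan, (ha.pow _).natDegree_map, ha.natDegree_pow] at h0
  rcases mul_eq_zero.1 h0 with h | h <;> omega

end main

end Groth.Agent.LangWeil
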