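import Groth.Agent.ZetaLib.CountRing
import Mathlib.RingTheory.Localization.Away.Basic
import Mathlib.RingTheory.KrullDimension.NonZeroDivisors

/-!
# Points of birational affine varieties
-/

set_option autoImplicit false
set_option linter.style.haveILetI false

noncomputable section

namespace Groth.Agent.LangWeil

universe u

variable {k : Type u} [Field k] {A L : Type u} [CommRing A] [Field L] [Algebra k A] [Algebra k L]

/-- The map from `A[1/s]` into a field. -/
def awayLift (f : A →ₐ[k] L) {s : A} (hs : f s ≠ 0) : Localization.Away s →ₐ[k] L :=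
  IsLocalization.liftAlgHom (f := f) (M := Submonoid.powers s) (S := Localization.Away s)
    (fun y => by
      obtain ⟨n, hn⟩ := y.2
      rw [← hn, map_pow]
      exact (IsUnit.mk0 _ hs).pow n)

theorem awayLift_algebraMap (f : A →ₐ[k] L) {s : A} (hs : f s ≠ 0) (a : A) :
    awayLift f hs (algebraMap A (Localization.Away s) a) = f a := by
  simp [awayLift]

theorem awayLift_injective (f : A →ₐ[k] L) (hf : Function.Injective f) {s : A} (hs : f s ≠ 0) :
    Function.Injective (awayLift f hs) := by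
  refine (injective_iff_map_eq_zero _).2 fun x hx => ?_
  obtain ⟨⟨a, y⟩, h⟩ := IsLocalization.surj (Submonoid.powers s) x
  have h2 := congrArg (awayLift f hs) h
  rw [map_mul, hx, zero_mul, awayLift_algebraMap, ← map_zero f] at h2
  rw [← hf h2, map_zero] at h
  exact (IsLocalization.map_units (Localization.Away s) y).mul_left_eq_zero.1 h

/-- The subalgebra `A[1/s]` of a field. -/
def awayRange (f : A →ₐ[k] L) {s : A} (hs : f s ≠ 0) : Subalgebra k L := (awayLift f hs).range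

theorem mem_awayRange (f : A →ₐ[k] L) {s : A} (hs : f s ≠ 0) (a : A) : f a ∈ awayRange f hs :=
  ⟨_, awayLift_algebraMap f hs a⟩

theorem inv_mem_awayRange (f : A →ₐ[k] L) {s : A} (hs : f s ≠ 0) : (f s)⁻¹ ∈ awayRange f hs := by
  refine ⟨IsLocalization.Away.invSelf s, eq_inv_of_mul_eq_one_left ?_⟩
  show awayLift f hs (IsLocalization.Away.invSelf s) * f s = 1
  rw [← awayLift_algebraMap f hs s, ← map_mul, mul_comm, IsLocalization.Away.mul_invSelf, map_one]

theorem inv_mem_awayRange_of_dvd (f : A →ₐ[k] L) {s d : A} (hs : f s ≠ 0) (hd : d ∣ s) :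
    (f d)⁻¹ ∈ awayRange f hs := by
  obtain ⟨e, rfl⟩ := hd
  have h2 := mul_mem (inv_mem_awayRange f hs) (mem_awayRange f hs e)
  rw [map_mul] at h2 hs
  convert h2 using 1
  field_simp [(mul_ne_zero_iff.1 hs).1, (mul_ne_zero_iff.1 hs).2]

theorem awayRange_le (f : A →ₐ[k] L) {s : A} (hs : f s ≠ 0) {S : Subalgebra k L} (G : Set A)
    (hG : Algebra.adjoin k G = ⊤) (hGS : ∀ a ∈ G, f a ∈ S) (hinv : (f s)⁻¹ ∈ S) : awayRange f hs ≤ S := by
  have hall : ∀ a, f a ∈ S := fun a => by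
    have h : Algebra.adjoin k G ≤ S.comap f := Algebra.adjoin_le hGS
    exact h (hG ▸ Algebra.mem_top)
  rintro _ ⟨x, rfl⟩
  obtain ⟨⟨a, ⟨_, n, rfl⟩⟩, h⟩ := IsLocalization.surj (Submonoid.powers s) x
  have h2 := congrArg (awayLift f hs) h
  rw [map_mul, awayLift_algebraMap, awayLift_algebraMap, map_pow, ← eq_div_iff (pow_ne_zero _ hs), div_eq_mul_inv,
    ← inv_pow] at h2
  show awayLift f hs x ∈ S
  rw [h2]
  exact mul_mem (hall a) (pow_mem hinv n)

/-- Points where `s` does not vanish. -/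
def awayHomEquiv (s : A) (F : Type u) [Field F] [Algebra k F] :
    (Localization.Away s →ₐ[k] F) ≃ {φ : A →ₐ[k] F // φ s ≠ 0} where
  toFun ψ := ⟨ψ.comp (IsScalarTower.toAlgHom k A _), ((IsLocalization.Away.algebraMap_isUnit s).map ψ).ne_zero⟩
  invFun φ := IsLocalization.liftAlgHom (f := φ.1) (M := Submonoid.powers s) (S := Localization.Away s)
    (fun y => by
      obtain ⟨n, hn⟩ := y.2
      rw [← hn, map_pow]
      exact (IsUnit.mk0 _ φ.2).pow n)
  left_inv ψ := by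
    refine AlgHom.coe_ringHom_injective (IsLocalization.ringHom_ext (Submonoid.powers s) ?_)
    ext a
    simp
  right_inv φ := by
    ext a
    simp

/-- Points where a nonzero element vanishes are few. -/
theorem exists_card_sub_away_le [IsDomain A] [Algebra.FiniteType k A] {s : A} (hs : s ≠ 0) {n : ℕ}
    (hr : ringKrullDim A ≤ (n + 1 : ℕ)) :
    ∃ c : ℕ, ∀ (F : Type u) [Field F] [Finite F] [Algebra k F],
      Nat.card (Localization.Away s →ₐ[k] F) ≤ Nat.card (A →ₐ[k] F) ∧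
        Nat.card (A →ₐ[k] F) ≤ Nat.card (Localization.Away s →ₐ[k] F) + c * Nat.card F ^ n := by
  classical
  obtain ⟨c₀, hc₀⟩ := ZetaLib.exists_const_card_algHom_le.{u, u, u} k A hr
  set I := Ideal.span {s}
  have hdim : ringKrullDim (A ⧸ I) ≤ n := by
    have h := ringKrullDim_quotient_succ_le_of_nonZeroDivisor (mem_nonZeroDivisors_of_ne_zero hs)
    have h2 := h.trans hr
    rcases subsingleton_or_nontrivial (A ⧸ I) with h3 | h3
    · rw [ringKrullDim_eq_bot_of_subsingleton]; exact bot_le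
    · obtain ⟨d, hd⟩ : ∃ d : ℕ∞, ringKrullDim (A ⧸ I) = d :=
        ⟨_, (WithBot.coe_unbot (ringKrullDim (A ⧸ I)) (ringKrullDim_nonneg_of_nontrivial.trans_lt'
          (WithBot.bot_lt_coe 0)).ne').symm⟩
      rw [hd] at h2 ⊢
      have h4 : d + 1 ≤ (n + 1 : ℕ) := by exact_mod_cast h2
      rw [Nat.cast_add, Nat.cast_one] at h4
      exact_mod_cast (ENat.add_le_add_iff_right ENat.one_ne_top).1 h4
  obtain ⟨c, hc⟩ := ZetaLib.exists_const_card_algHom_le.{u, u, u} k (A ⧸ I) hdim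
  refine ⟨c, fun F _ _ _ => ?_⟩
  haveI := (hc₀ F).1
  haveI := (hc F).1
  rw [Nat.card_congr (awayHomEquiv s F)]
  refine ⟨Finite.card_subtype_le _, ?_⟩
  let Φ : (A →ₐ[k] F) → {φ : A →ₐ[k] F // φ s ≠ 0} ⊕ (A ⧸ I →ₐ[k] F) := fun φ =>
    if h : φ s = 0 then Sum.inr (Ideal.Quotient.liftₐ I φ fun a ha => by
      obtain ⟨b, rfl⟩ := Ideal.mem_span_singleton.1 ha
      rw [map_mul, h, zero_mul]) else Sum.inl ⟨φ, h⟩
  have hΦ : Function.Injective Φ := by
    intro φ ψ h
    simp only [Φ] at h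
    split_ifs at h with h1 h2 h3
    · exact AlgHom.ext fun a => by simpa using congrArg (fun t : A ⧸ I →ₐ[k] F => t (Ideal.Quotient.mk I a)) (Sum.inr.inj h)
    · exact congrArg Subtype.val (Sum.inl.inj h)
  refine (Nat.card_le_card_of_injective Φ hΦ).trans ?_
  rw [Nat.card_sum]
  exact Nat.add_le_add_left (hc F).2 _

/-- Birational affine varieties have almost the same number of points. -/
theorem exists_card_compare [IsDomain A] [Algebra.FiniteType k A] {B : Type u} [CommRing B] [IsDomain B]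
    [Algebra k B] [Algebra.FiniteType k B] (f : A →ₐ[k] L) (hf : Function.Injective f) (g : B →ₐ[k] L)
    (hg : Function.Injective g) (hfF : ∀ x : L, ∃ a b : A, f b ≠ 0 ∧ x = f a / f b)
    (hgF : ∀ x : L, ∃ a b : B, g b ≠ 0 ∧ x = g a / g b) {n : ℕ}
    (hA : ringKrullDim A ≤ (n + 1 : ℕ)) (hB : ringKrullDim B ≤ (n + 1 : ℕ)) :
    ∃ c : ℕ, ∀ (F : Type u) [Field F] [Finite F] [Algebra k F],
      Nat.card (A →ₐ[k] F) ≤ Nat.card (B →ₐ[k] F) + c * Nat.card F ^ n ∧
        Nat.card (B →ₐ[k] F) ≤ Nat.card (A →ₐ[k] F) + c * Nat.card F ^ n := by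
  classical
  obtain ⟨GA, hGA⟩ := ‹Algebra.FiniteType k A›.out
  obtain ⟨GB, hGB⟩ := ‹Algebra.FiniteType k B›.out
  choose numA denA hdA hxA using fun b : B => hfF (g b)
  choose numB denB hdB hxB using fun a : A => hgF (f a)
  -- first approximations
  set s₀ := ∏ b ∈ GB, denA b
  have hs₀ : f s₀ ≠ 0 := by rw [map_prod]; exact Finset.prod_ne_zero_iff.2 fun b _ => hdA b
  set c₀ := ∏ a ∈ GA, denB a
  have hc₀ : g c₀ ≠ 0 := by rw [map_prod]; exact Finset.prod_ne_zero_iff.2 fun a _ => hdB a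
  have hgB : ∀ b, g b ∈ awayRange f hs₀ := by
    intro b
    have h : Algebra.adjoin k (GB : Set B) ≤ (awayRange f hs₀).comap g := Algebra.adjoin_le fun b hb => by
      show g b ∈ awayRange f hs₀
      rw [hxA b, div_eq_mul_inv]
      exact mul_mem (mem_awayRange f hs₀ _)
        (inv_mem_awayRange_of_dvd f hs₀ (Finset.dvd_prod_of_mem _ (Finset.mem_coe.1 hb)))
    exact h (hGB ▸ Algebra.mem_top)
  have hfA : ∀ a, f a ∈ awayRange g hc₀ := by
    intro a
    have h : Algebra.adjoin k (GA : Set A) ≤ (awayRange g hc₀).comap f := Algebra.adjoin_le fun a ha => by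
      show f a ∈ awayRange g hc₀
      rw [hxB a, div_eq_mul_inv]
      exact mul_mem (mem_awayRange g hc₀ _)
        (inv_mem_awayRange_of_dvd g hc₀ (Finset.dvd_prod_of_mem _ (Finset.mem_coe.1 ha)))
    exact h (hGA ▸ Algebra.mem_top)
  obtain ⟨x, hx⟩ := hgB c₀
  obtain ⟨⟨α, ⟨_, N, rfl⟩⟩, hα⟩ := IsLocalization.surj (Submonoid.powers s₀) x
  have hα' : g c₀ * f s₀ ^ N = f α := by
    have h2 := congrArg (awayLift f hs₀) hα
    rw [map_mul, awayLift_algebraMap, awayLift_algebraMap, map_pow] at h2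
    rw [← h2, ← hx]
    rfl
  obtain ⟨y, hy⟩ := hfA s₀
  obtain ⟨⟨β, ⟨_, M, rfl⟩⟩, hβ⟩ := IsLocalization.surj (Submonoid.powers c₀) y
  have hβ' : f s₀ * g c₀ ^ M = g β := by
    have h2 := congrArg (awayLift g hc₀) hβ
    rw [map_mul, awayLift_algebraMap, awayLift_algebraMap, map_pow] at h2
    rw [← h2, ← hy]
    rfl
  have hfα : f α ≠ 0 := hα' ▸ mul_ne_zero hc₀ (pow_ne_zero _ hs₀)
  have hgβ : g β ≠ 0 := hβ' ▸ mul_ne_zero hs₀ (pow_ne_zero _ hc₀)
  have hs : f (s₀ * α) ≠ 0 := by rw [map_mul]; exact mul_ne_zero hs₀ hfα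
  have hc : g (c₀ * β) ≠ 0 := by rw [map_mul]; exact mul_ne_zero hc₀ hgβ
  have i1 : (f s₀)⁻¹ ∈ awayRange f hs := inv_mem_awayRange_of_dvd f hs (dvd_mul_right _ _)
  have i2 : (f α)⁻¹ ∈ awayRange f hs := inv_mem_awayRange_of_dvd f hs (dvd_mul_left _ _)
  have j1 : (g c₀)⁻¹ ∈ awayRange g hc := inv_mem_awayRange_of_dvd g hc (dvd_mul_right _ _)
  have j2 : (g β)⁻¹ ∈ awayRange g hc := inv_mem_awayRange_of_dvd g hc (dvd_mul_left _ _)
  have hA0 : awayRange f hs₀ ≤ awayRange f hs :=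
    awayRange_le f hs₀ Set.univ (Algebra.adjoin_univ _ _) (fun a _ => mem_awayRange f hs a) i1
  have hB0 : awayRange g hc₀ ≤ awayRange g hc :=
    awayRange_le g hc₀ Set.univ (Algebra.adjoin_univ _ _) (fun b _ => mem_awayRange g hc b) j1
  have heq : awayRange f hs = awayRange g hc := by
    refine le_antisymm (awayRange_le f hs Set.univ (Algebra.adjoin_univ _ _) (fun a _ => hB0 (hfA a)) ?_)
      (awayRange_le g hc Set.univ (Algebra.adjoin_univ _ _) (fun b _ => hA0 (hgB b)) ?_)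
    · have e1 : (f s₀)⁻¹ = g c₀ ^ M * (g β)⁻¹ := by
        rw [← hβ', mul_inv, mul_comm (f s₀)⁻¹, ← mul_assoc, mul_inv_cancel₀ (pow_ne_zero _ hc₀), one_mul]
      have e2 : (f α)⁻¹ = (g c₀)⁻¹ * (f s₀)⁻¹ ^ N := by rw [← hα', mul_inv, inv_pow]
      have m1 : (f s₀)⁻¹ ∈ awayRange g hc := e1 ▸ mul_mem (pow_mem (mem_awayRange g hc _) _) j2
      rw [map_mul, mul_inv, e2]
      exact mul_mem m1 (mul_mem j1 (pow_mem m1 _))
    · have e1 : (g c₀)⁻¹ = f s₀ ^ N * (f α)⁻¹ := by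
        rw [← hα', mul_inv, mul_comm (g c₀)⁻¹, ← mul_assoc, mul_inv_cancel₀ (pow_ne_zero _ hs₀), one_mul]
      have e2 : (g β)⁻¹ = (f s₀)⁻¹ * (g c₀)⁻¹ ^ M := by rw [← hβ', mul_inv, inv_pow]
      have m1 : (g c₀)⁻¹ ∈ awayRange f hs := e1 ▸ mul_mem (pow_mem (mem_awayRange f hs _) _) i2
      rw [map_mul, mul_inv, e2]
      exact mul_mem m1 (mul_mem i1 (pow_mem m1 _))
  let e : Localization.Away (s₀ * α) ≃ₐ[k] Localization.Away (c₀ * β) :=
    ((AlgEquiv.ofInjective _ (awayLift_injective f hf hs)).trans (Subalgebra.equivOfEq _ _ heq)).trans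
      (AlgEquiv.ofInjective _ (awayLift_injective g hg hc)).symm
  obtain ⟨cA, hcA⟩ := exists_card_sub_away_le (k := k) (s := s₀ * α) (fun h => hs (by rw [h, map_zero])) hA
  obtain ⟨cB, hcB⟩ := exists_card_sub_away_le (k := k) (s := c₀ * β) (fun h => hc (by rw [h, map_zero])) hB
  refine ⟨cA + cB, fun F _ _ _ => ?_⟩
  have h1 := Nat.card_congr (AlgEquiv.arrowCongr e (AlgEquiv.refl (R := k) (A₁ := F)))
  obtain ⟨a1, a2⟩ := hcA F
  obtain ⟨b1, b2⟩ := hcB F
  rw [h1] at a1 a2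
  constructor <;> rw [add_mul] <;> omega

end Groth.Agent.LangWeil
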