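import Groth.Agent.LangWeil.Spread

/-!
# Monic polynomials over polynomial rings as multivariate polynomials
-/

set_option autoImplicit false

noncomputable section

open MvPolynomial Polynomial

namespace Groth.Agent.LangWeil

variable {R S : Type*} [CommRing R] [CommRing S] {T : Type*}

/-- `R[T][Z]` as a polynomial ring in the variables `Option T`. -/
def toMv : Polynomial (MvPolynomial T R) ≃+* MvPolynomial (Option T) R :=
  (optionEquivLeft R T).symm.toRingEquiv

theorem map_toMv (φ : R →+* S) (G : Polynomial (MvPolynomial T R)) :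
    MvPolynomial.map φ (toMv G) = toMv (G.map (MvPolynomial.map φ)) := by
  have : (MvPolynomial.map φ).comp (toMv (T := T)).toRingHom =
      ((toMv (T := T)).toRingHom).comp (Polynomial.mapRingHom (MvPolynomial.map φ)) := by
    refine Polynomial.ringHom_ext' (MvPolynomial.ringHom_ext (fun r => ?_) fun i => ?_) ?_ <;>
      simp [toMv]
  exact RingHom.congr_fun this G

theorem irreducible_map_toMv (φ : R →+* S) (G : Polynomial (MvPolynomial T R)) :
    Irreducible (MvPolynomial.map φ (toMv G)) ↔ Irreducible (G.map (MvPolynomial.map φ)) := by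
  rw [map_toMv]
  exact MulEquiv.irreducible_iff toMv.toMulEquiv

/-- Absolute irreducibility spreads out, for polynomials in `R[T][Z]`. -/
theorem exists_irreducible_away' [IsDomain R] [Fintype T] {K : Type*} [Field K] [IsAlgClosed K] (ι : R →+* K)
    (hι : Function.Injective ι) (G : Polynomial (MvPolynomial T R))
    (hG : Irreducible (G.map (MvPolynomial.map ι))) :
    ∃ h : R, h ≠ 0 ∧ ∀ {L : Type*} [Field L] (φ : R →+* L), φ h ≠ 0 →
      Irreducible (G.map (MvPolynomial.map φ)) := by
  obtain ⟨h, hh, hirr⟩ := exists_irreducible_away ι hι (toMv G) ((irreducible_map_toMv ι G).2 hG)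
  exact ⟨h, hh, fun φ hφ => (irreducible_map_toMv φ G).1 (hirr φ hφ)⟩

theorem irreducible_map_of_algClosed' [Fintype T] {k K L : Type*} [Field k] [Field K] [IsAlgClosed K] [Field L]
    (ι : k →+* K) (φ : k →+* L) (G : Polynomial (MvPolynomial T k))
    (hG : Irreducible (G.map (MvPolynomial.map ι))) : Irreducible (G.map (MvPolynomial.map φ)) :=
  (irreducible_map_toMv φ G).1 (irreducible_map_of_algClosed ι φ (toMv G) ((irreducible_map_toMv ι G).2 hG))

end Groth.Agent.LangWeil
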