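import Groth.Agent.LangWeil.Domain
import Groth.Agent.Milnor.TensorDomain
import Groth.Agent.VarBC.SepFinite

/-!
# Geometric components and points of affine varieties over finite fields
-/

set_option autoImplicit false
set_option linter.style.haveILetI false

noncomputable section

open TensorProduct

namespace Groth.Agent.LangWeil

universe u

variable {k : Type u} [Field k]

section

variable {k' : Type u} [Field k'] [Algebra k k']

/-- An algebraic closure of `k`, seen over `k'` through an embedding. -/
def KBar (_σ : k' →ₐ[k] AlgebraicClosure k) : Type u := AlgebraicClosure k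

variable (σ : k' →ₐ[k] AlgebraicClosure k)

instance : Field (KBar σ) := inferInstanceAs (Field (AlgebraicClosure k))

instance : Algebra k (KBar σ) := inferInstanceAs (Algebra k (AlgebraicClosure k))

instance : Algebra k' (KBar σ) := σ.toRingHom.toAlgebra

instance : IsScalarTower k k' (KBar σ) := IsScalarTower.of_algebraMap_eq fun x => (σ.commutes x).symm

instance [Finite k] : Algebra.IsSeparable k' (KBar σ) := by
  haveI : PerfectField k := PerfectField.ofFinite
  haveI : Algebra.IsSeparable k (KBar σ) := inferInstanceAs (Algebra.IsSeparable k (AlgebraicClosure k))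
  exact Algebra.isSeparable_tower_top_of_isSeparable k k' (KBar σ)

/-- The identity, into the closure seen over `k'`. -/
def toKBar : AlgebraicClosure k →ₐ[k] KBar σ := AlgHom.id k (AlgebraicClosure k)

theorem toKBar_apply (x : k') : toKBar σ (σ x) = algebraMap k' (KBar σ) x := rfl

variable {A : Type u} [CommRing A] [IsDomain A] [Algebra k A] [Algebra k' A] [IsScalarTower k k' A]

theorem isDomain_baseChange [Finite k]
    (hclosed : ∀ a : FractionRing A, IsAlgebraic k' a → a ∈ Set.range (algebraMap k' (FractionRing A))) :
    IsDomain (A ⊗[k'] KBar σ) := by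
  haveI := Milnor.isDomain_tensor_of_algClosedIn (L := KBar σ) fun x hx => hclosed x hx.isAlgebraic
  let ι := Algebra.TensorProduct.map (IsScalarTower.toAlgHom k' A (FractionRing A)) (AlgHom.id k' (KBar σ))
  exact Function.Injective.isDomain ι.toRingHom
    (Module.Flat.rTensor_preserves_injective_linearMap (M := KBar σ)
      (IsScalarTower.toAlgHom k' A (FractionRing A)).toLinearMap (IsFractionRing.injective A (FractionRing A)))

/-- The minimal primes of the base change to an algebraic closure. -/
theorem card_minimalPrimes_baseChange [Finite k] [FiniteDimensional k k']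
    (hclosed : ∀ a : FractionRing A, IsAlgebraic k' a → a ∈ Set.range (algebraMap k' (FractionRing A))) :
    Nat.card (minimalPrimes (A ⊗[k] AlgebraicClosure k)) = Module.finrank k k' := by
  classical
  haveI : PerfectField k := PerfectField.ofFinite
  let pb := Field.powerBasisOfFiniteOfSeparable k k'
  set θ := pb.gen
  let R := A ⊗[k] AlgebraicClosure k
  let inL : A →ₐ[k] R := Algebra.TensorProduct.includeLeft
  let inR : AlgebraicClosure k →ₐ[k] R := Algebra.TensorProduct.includeRight
  let el : (k' →ₐ[k] AlgebraicClosure k) → R := fun σ => inL (algebraMap k' A θ) - inR (σ θ)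
  let I : (k' →ₐ[k] AlgebraicClosure k) → Ideal R := fun σ => Ideal.span {el σ}
  let Φ : ∀ σ : k' →ₐ[k] AlgebraicClosure k, R →ₐ[k] (A ⊗[k'] KBar σ) := fun σ =>
    Algebra.TensorProduct.productMap ((Algebra.TensorProduct.includeLeft : A →ₐ[k'] A ⊗[k'] KBar σ).restrictScalars k)
      (((Algebra.TensorProduct.includeRight : KBar σ →ₐ[k'] A ⊗[k'] KBar σ).restrictScalars k).comp (toKBar σ))
  have hel : ∀ σ τ : k' →ₐ[k] AlgebraicClosure k, Φ σ (el τ) =
      (Algebra.TensorProduct.includeRight : KBar σ →ₐ[k'] A ⊗[k'] KBar σ) (toKBar σ (σ θ - τ θ)) := by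
    intro σ τ
    have h1 : Φ σ (inL (algebraMap k' A θ)) =
        (Algebra.TensorProduct.includeLeft : A →ₐ[k'] A ⊗[k'] KBar σ) (algebraMap k' A θ) := by
      show Φ σ (algebraMap k' A θ ⊗ₜ[k] 1) = _
      simp only [Φ]
      erw [Algebra.TensorProduct.productMap_apply_tmul, map_one, mul_one]
      rfl
    have h2 : Φ σ (inR (τ θ)) =
        (Algebra.TensorProduct.includeRight : KBar σ →ₐ[k'] A ⊗[k'] KBar σ) (toKBar σ (τ θ)) := by
      show Φ σ (1 ⊗ₜ[k] τ θ) = _
      simp only [Φ]
      erw [Algebra.TensorProduct.productMap_apply_tmul, map_one, one_mul]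
      rfl
    rw [map_sub, map_sub, map_sub, h1, h2, AlgHom.commutes, toKBar_apply, AlgHom.commutes]
  have hker : ∀ σ, RingHom.ker (Φ σ) = I σ := by
    intro σ
    refine le_antisymm (fun x hx => ?_) (Ideal.span_le.2 (Set.singleton_subset_iff.2 ?_))
    · let q := Ideal.Quotient.mkₐ k (I σ)
      letI : Algebra k' (R ⧸ I σ) := ((q.comp inL).toRingHom.comp (algebraMap k' A)).toAlgebra
      have hcomm : (q.comp inL).comp (IsScalarTower.toAlgHom k k' A) = (q.comp inR).comp σ := by
        refine pb.algHom_ext ?_
        show q (inL (algebraMap k' A θ)) = q (inR (σ θ))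
        rw [← sub_eq_zero, ← map_sub]
        exact Ideal.Quotient.eq_zero_iff_mem.2 (Ideal.mem_span_singleton_self _)
      let fA : A →ₐ[k'] R ⧸ I σ := { (q.comp inL).toRingHom with commutes' := fun _ => rfl }
      let fK : KBar σ →ₐ[k'] R ⧸ I σ :=
        { toRingHom := ((q.comp inR).toRingHom : AlgebraicClosure k →+* R ⧸ I σ)
          commutes' := fun l => (AlgHom.congr_fun hcomm l).symm }
      have hcomp : (Algebra.TensorProduct.productMap fA fK).toRingHom.comp (Φ σ).toRingHom = q.toRingHom := by
        refine RingHom.ext fun y => ?_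
        induction y using TensorProduct.induction_on with
        | zero => simp
        | add a b ha hb => rw [map_add, map_add, ha, hb]
        | tmul a c =>
          have e1 : Φ σ (a ⊗ₜ[k] c) = (Algebra.TensorProduct.includeLeft : A →ₐ[k'] A ⊗[k'] KBar σ) a *
              (Algebra.TensorProduct.includeRight : KBar σ →ₐ[k'] A ⊗[k'] KBar σ) (toKBar σ c) := by
            simp only [Φ]
            erw [Algebra.TensorProduct.productMap_apply_tmul]
            rfl
          show Algebra.TensorProduct.productMap fA fK (Φ σ (a ⊗ₜ[k] c)) = q (a ⊗ₜ[k] c)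
          rw [e1, map_mul, Algebra.TensorProduct.includeLeft_apply, Algebra.TensorProduct.includeRight_apply,
            Algebra.TensorProduct.productMap_apply_tmul, Algebra.TensorProduct.productMap_apply_tmul,
            map_one, map_one, mul_one, one_mul]
          show q (inL a) * q (inR c) = _
          rw [← map_mul]
          congr 1
          show (a ⊗ₜ[k] (1 : AlgebraicClosure k)) * ((1 : A) ⊗ₜ[k] c) = _
          rw [Algebra.TensorProduct.tmul_mul_tmul, mul_one, one_mul]
      have h := RingHom.congr_fun hcomp x
      rw [RingHom.comp_apply, show (Φ σ).toRingHom x = 0 from hx, map_zero] at h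
      exact Ideal.Quotient.eq_zero_iff_mem.1 h.symm
    · show Φ σ (el σ) = 0
      rw [hel, sub_self, map_zero, map_zero]
  have hprime : ∀ σ, (I σ).IsPrime := fun σ => by
    haveI := isDomain_baseChange σ hclosed
    rw [← hker]
    exact RingHom.ker_isPrime _
  have hinj : ∀ σ τ, I τ ≤ I σ → τ = σ := by
    intro σ τ hle
    have h0 : el τ ∈ RingHom.ker (Φ σ) := hker σ ▸ hle (Ideal.mem_span_singleton_self _)
    rw [RingHom.mem_ker, hel] at h0
    haveI := isDomain_baseChange σ hclosed
    have h1 : toKBar σ (σ θ - τ θ) = 0 :=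
      (Algebra.TensorProduct.includeRight : KBar σ →ₐ[k'] A ⊗[k'] KBar σ).toRingHom.injective
        (h0.trans (map_zero _).symm)
    exact pb.algHom_ext (sub_eq_zero.1 ((toKBar σ).toRingHom.injective (h1.trans (map_zero _).symm))).symm
  have hcard : Fintype.card (k' →ₐ[k] AlgebraicClosure k) = Module.finrank k k' := AlgHom.card k k' _
  have hprod : ∏ σ, el σ = 0 := by
    have hp : (minpoly k θ).map (algebraMap k (AlgebraicClosure k)) =
        ∏ σ : k' →ₐ[k] AlgebraicClosure k, (Polynomial.X - Polynomial.C (σ θ)) := by
      refine Polynomial.eq_of_monic_of_dvd_of_natDegree_le (Polynomial.monic_prod_of_monic _ _ fun σ _ =>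
        Polynomial.monic_X_sub_C _) ((minpoly.monic pb.isIntegral_gen).map _) ?_ ?_
      · refine Finset.prod_dvd_of_coprime ?_ fun σ _ => ?_
        · exact (Polynomial.pairwise_coprime_X_sub_C (fun σ τ h => pb.algHom_ext h)).set_pairwise _
        · rw [Polynomial.dvd_iff_isRoot, Polynomial.IsRoot, Polynomial.eval_map, ← Polynomial.aeval_def,
            Polynomial.aeval_algHom_apply, minpoly.aeval, map_zero]
      · rw [Polynomial.natDegree_map, Polynomial.natDegree_prod_of_monic _ _ fun σ _ => Polynomial.monic_X_sub_C _]
        simp [pb.natDegree_minpoly, hcard, ← pb.finrank, θ]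
    have h := congrArg (Polynomial.eval₂ inR.toRingHom (inL (algebraMap k' A θ))) hp
    rw [Polynomial.eval₂_map, show inR.toRingHom.comp (algebraMap k (AlgebraicClosure k)) = algebraMap k R from
      inR.comp_algebraMap, ← Polynomial.aeval_def, Polynomial.aeval_algHom_apply,
      Polynomial.aeval_algebraMap_apply, minpoly.aeval, map_zero, map_zero, Polynomial.eval₂_finsetProd] at h
    simpa [el, Polynomial.eval₂_sub] using h.symm
  have hmem : ∀ P : Ideal R, P.IsPrime → ∃ σ, I σ ≤ P := by
    intro P hP
    have h0 : ∏ σ, el σ ∈ P := hprod ▸ P.zero_mem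
    obtain ⟨σ, -, hσ⟩ := (hP.prod_mem_iff).1 h0
    exact ⟨σ, Ideal.span_le.2 (Set.singleton_subset_iff.2 hσ)⟩
  have hset : minimalPrimes R = Set.range I := by
    ext P
    constructor
    · intro hP
      obtain ⟨σ, hσ⟩ := hmem P (Ideal.minimalPrimes_isPrime hP)
      exact ⟨σ, le_antisymm hσ (hP.2 ⟨hprime σ, bot_le⟩ hσ)⟩
    · rintro ⟨σ, rfl⟩
      refine ⟨⟨hprime σ, bot_le⟩, fun P hP hle => ?_⟩
      obtain ⟨τ, hτ⟩ := hmem P hP.1
      obtain rfl := hinj σ τ (hτ.trans hle)
      exact hτ
  rw [hset, Nat.card_range_of_injective fun σ τ h => hinj τ σ h.le, Nat.card_eq_fintype_card, hcard]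

end

/-- After a localisation, an affine variety over a finite field has about `m Q^r` points, where `m` is
the number of its geometric components. -/
theorem exists_affine_data [Finite k] {A : Type u} [CommRing A] [IsDomain A] [Algebra k A]
    [Algebra.FiniteType k A] {r : ℕ} (hr : ringKrullDim A = r) :
    ∃ (s : A) (m : ℕ) (C' : ℝ), s ≠ 0 ∧ 0 < m ∧ 0 ≤ C' ∧
      Nat.card (minimalPrimes (Localization.Away s ⊗[k] AlgebraicClosure k)) = m ∧
      ∀ (F : Type u) [Field F] [Finite F] [Algebra k F],
        (m ∣ Module.finrank k F →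
          |(Nat.card (Localization.Away s →ₐ[k] F) : ℝ) - m * (Nat.card F : ℝ) ^ r| ≤
            C' * (Nat.card F : ℝ) ^ r / Real.sqrt (Nat.card F)) ∧
        (¬ m ∣ Module.finrank k F → Nat.card (Localization.Away s →ₐ[k] F) = 0) := by
  classical
  set L := FractionRing A
  haveI : Algebra.EssFiniteType A L := Algebra.EssFiniteType.of_isLocalization L (nonZeroDivisors A)
  haveI : Algebra.EssFiniteType k L := Algebra.EssFiniteType.comp k A L
  haveI : FiniteDimensional k (algebraicClosure k L) := VarBC.finiteDimensional_algebraicClosure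
  let k' := algebraicClosure k L
  haveI : Finite k' := Module.finite_of_finite k
  haveI := Fintype.ofFinite k'
  choose num den hden hxe using fun x : k' => IsFractionRing.div_surjective (A := A) (x : L)
  let s := ∏ x : k', den x
  have hs : s ≠ 0 := Finset.prod_ne_zero_iff.2 fun x _ => nonZeroDivisors.ne_zero (hden x)
  let f := IsScalarTower.toAlgHom k A L
  have hf : Function.Injective f := IsFractionRing.injective A L
  have hfs : f s ≠ 0 := (map_ne_zero_iff _ hf).2 hs
  let B := Localization.Away s
  haveI : IsDomain B := Function.Injective.isDomain (awayLift f hfs).toRingHom (awayLift_injective f hf hfs)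
  have hk : ∀ x : k', (x : L) ∈ awayRange f hfs := fun x => by
    rw [← hxe x, div_eq_mul_inv]
    exact mul_mem (mem_awayRange f hfs _) (inv_mem_awayRange_of_dvd f hfs (Finset.dvd_prod_of_mem _ (Finset.mem_univ x)))
  let j : k' →ₐ[k] B := (AlgEquiv.ofInjective _ (awayLift_injective f hf hfs)).symm.toAlgHom.comp
    (k'.val.codRestrict (awayRange f hfs) hk)
  have hj : ∀ x : k', awayLift f hfs (j x) = x := fun x => by
    have h := (AlgEquiv.ofInjective _ (awayLift_injective f hf hfs)).apply_symm_apply
      ((k'.val.codRestrict (awayRange f hfs) hk) x)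
    exact congrArg Subtype.val h
  letI : Algebra k' B := j.toRingHom.toAlgebra
  haveI : IsScalarTower k k' B := IsScalarTower.of_algebraMap_eq fun x => (j.commutes x).symm
  haveI : Algebra.FiniteType k B := Algebra.FiniteType.trans (S := A) inferInstance inferInstance
  letI : Algebra B L := (awayLift f hfs).toRingHom.toAlgebra
  haveI : IsScalarTower A B L := IsScalarTower.of_algebraMap_eq fun x => (awayLift_algebraMap f hfs x).symm
  haveI : IsScalarTower k B L := IsScalarTower.of_algebraMap_eq fun x => ((awayLift f hfs).commutes x).symm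
  haveI : IsFractionRing B L := IsFractionRing.isFractionRing_of_isDomain_of_isLocalization (Submonoid.powers s) B L
  let e : FractionRing B ≃ₐ[B] L := FractionRing.algEquiv B L
  have hdim : ringKrullDim B = r := by
    refine VarDim.ringKrullDim_eq_of_trdeg_eq k B ?_
    haveI : FaithfulSMul B L := (faithfulSMul_iff_algebraMap_injective B L).2 (awayLift_injective f hf hfs)
    haveI : FaithfulSMul A L := (faithfulSMul_iff_algebraMap_injective A L).2 hf
    haveI : Algebra.IsAlgebraic A L := IsLocalization.isAlgebraic (R := A) (S := L) (nonZeroDivisors A)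
    haveI : Algebra.IsAlgebraic B L := IsLocalization.isAlgebraic (R := B) (S := L) (nonZeroDivisors B)
    have h1 : Algebra.trdeg k L = Algebra.trdeg k B := by
      rw [← trdeg_add_eq k B (A := L), trdeg_eq_zero (R := B) (A := L), add_zero]
    rw [← h1, ← trdeg_add_eq k A (A := L), trdeg_eq_zero (R := A) (A := L), add_zero,
      VarDim.trdeg_eq_of_ringKrullDim_eq k A hr]
  have hclosed : ∀ a : FractionRing B, IsAlgebraic k' a → a ∈ Set.range (algebraMap k' (FractionRing B)) := by
    intro a ha
    haveI : Algebra.IsAlgebraic k k' := Algebra.IsAlgebraic.of_finite k k'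
    have h1 : IsAlgebraic k a := ha.restrictScalars k
    have h2 : IsAlgebraic k (e a) := h1.algHom (e.toAlgHom.restrictScalars k)
    refine ⟨⟨e a, mem_algebraicClosure_iff.2 h2⟩, e.injective ?_⟩
    rw [IsScalarTower.algebraMap_apply k' B (FractionRing B), e.commutes]
    exact hj _
  obtain ⟨C', hC0, hC⟩ := exists_count_of_constants (k := k) hdim hclosed
  exact ⟨s, Module.finrank k k', C', hs, Module.finrank_pos, hC0, card_minimalPrimes_baseChange hclosed, hC⟩

end Groth.Agent.LangWeil
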