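import Groth.Agent.LangWeil.Curve
import Mathlib.Algebra.MvPolynomial.SchwartzZippel
import Mathlib.RingTheory.Polynomial.IsIntegral

/-!
# Points of absolutely irreducible hypersurfaces over finite fields
-/

set_option autoImplicit false
set_option linter.style.haveILetI false

noncomputable section

open Polynomial

namespace Groth.Agent.LangWeil

universe u

attribute [local instance] Classical.decEq

/-- `R[S]` from `R[Unit]`. -/
def uEquiv (A : Type*) [CommRing A] : MvPolynomial Unit A ≃+* Polynomial A :=
  (MvPolynomial.uniqueAlgEquiv A Unit).toRingEquiv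

theorem uEquiv_C {A : Type*} [CommRing A] (a : A) : uEquiv A (MvPolynomial.C a) = C a := by
  simp [uEquiv]

theorem uEquiv_X {A : Type*} [CommRing A] (i : Unit) : uEquiv A (MvPolynomial.X i) = X := by
  simp [uEquiv]

theorem uEquiv_map {A B : Type*} [CommRing A] [CommRing B] (φ : A →+* B) :
    (mapRingHom φ).comp (uEquiv A).toRingHom = (uEquiv B).toRingHom.comp (MvPolynomial.map φ) := by
  refine MvPolynomial.ringHom_ext (fun r => ?_) fun i => ?_ <;> simp [uEquiv]

/-- Bezout identity for a monic polynomial with nonzero derivative. -/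
theorem exists_bezout {P : Type*} [CommRing P] [IsDomain P] [IsIntegrallyClosed P] {G : Polynomial P}
    (hm : G.Monic) (hirr : Irreducible G) (hsep : derivative G ≠ 0) :
    ∃ (a b : Polynomial P) (δ : P), δ ≠ 0 ∧ a * G + b * derivative G = C δ := by
  let κ := algebraMap P (FractionRing P)
  have hκ : Function.Injective κ := IsFractionRing.injective _ _
  have hirr' : Irreducible (G.map κ) := hm.irreducible_iff_irreducible_map_fraction_map.1 hirr
  have hs : (G.map κ).Separable := (separable_iff_derivative_ne_zero hirr').2 (by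
    rw [derivative_map, Ne, Polynomial.map_eq_zero_iff hκ]; exact hsep)
  obtain ⟨a0, b0, hab⟩ := separable_def' (G.map κ) |>.1 hs
  obtain ⟨ca, hca, ha⟩ := IsLocalization.integerNormalization_spec (nonZeroDivisors P) a0
  obtain ⟨cb, hcb, hb⟩ := IsLocalization.integerNormalization_spec (nonZeroDivisors P) b0
  refine ⟨C cb * IsLocalization.integerNormalization (nonZeroDivisors P) a0,
    C ca * IsLocalization.integerNormalization (nonZeroDivisors P) b0, ca * cb,
    mul_ne_zero (nonZeroDivisors.ne_zero hca) (nonZeroDivisors.ne_zero hcb), map_injective κ hκ ?_⟩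
  rw [Polynomial.map_add, Polynomial.map_mul, Polynomial.map_mul, Polynomial.map_mul, Polynomial.map_mul, map_C,
    map_C, map_C, ha, hb, ← derivative_map, map_mul, C_mul, Algebra.smul_def, Algebra.smul_def,
    show algebraMap P (Polynomial (FractionRing P)) ca = C (κ ca) from rfl,
    show algebraMap P (Polynomial (FractionRing P)) cb = C (κ cb) from rfl]
  linear_combination (C (κ ca) * C (κ cb)) * hab

/-- Polynomial rings over integrally closed domains are integrally closed. -/
theorem isIntegrallyClosed_mvPolynomial (R : Type*) [CommRing R] [IsDomain R] [IsIntegrallyClosed R]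
    (σ : Type*) : IsIntegrallyClosed (MvPolynomial σ R) := by
  letI := MvPolynomial.algebraMvPolynomial (σ := σ) (R := R) (S := FractionRing R)
  have : IsIntegrallyClosed (MvPolynomial σ (FractionRing R)) := UniqueFactorizationMonoid.instIsIntegrallyClosed
  suffices IsIntegrallyClosedIn (MvPolynomial σ R) (MvPolynomial σ (FractionRing R)) from
    .of_isIntegrallyClosed_of_isIntegrallyClosedIn _ (MvPolynomial σ (FractionRing R))
  refine isIntegrallyClosedIn_iff.mpr
    ⟨MvPolynomial.map_injective _ (IsFractionRing.injective R (FractionRing R)), ?_⟩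
  intro f hf
  have hc := MvPolynomial.isIntegral_iff_isIntegral_coeff.mp hf
  have : f ∈ Set.range (MvPolynomial.map (σ := σ) (algebraMap R (FractionRing R))) := by
    rw [MvPolynomial.mem_range_map_iff_coeffs_subset]
    intro c hc'
    obtain ⟨n, -, rfl⟩ := MvPolynomial.mem_coeffs_iff.mp hc'
    exact IsIntegrallyClosed.isIntegral_iff.mp (hc n)
  exact this

/-- Schwartz–Zippel. -/
theorem card_zeros_mul_le {F : Type*} [Field F] [Finite F] {τ : Type*} [Fintype τ] (p : MvPolynomial τ F)
    (hp : p ≠ 0) :
    Nat.card {x : τ → F // MvPolynomial.eval x p = 0} * Nat.card F ≤ p.totalDegree * Nat.card F ^ Fintype.card τ := by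
  haveI := Fintype.ofFinite F
  let e := Fintype.equivFin τ
  set q := MvPolynomial.rename e p
  have hq : q ≠ 0 := (map_ne_zero_iff _ (MvPolynomial.rename_injective _ e.injective)).2 hp
  have hdeg : q.totalDegree ≤ p.totalDegree := MvPolynomial.totalDegree_rename_le _ _
  have hQ : 0 < Fintype.card F := Fintype.card_pos
  have h := MvPolynomial.schwartz_zippel_totalDegree hq (Finset.univ : Finset F)
  rw [Finset.card_univ, div_le_div_iff₀ (by positivity) (by exact_mod_cast hQ)] at h
  have hcard : Nat.card {x : τ → F // MvPolynomial.eval x p = 0} =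
      (Finset.filter (fun f => MvPolynomial.eval f q = 0)
        (Fintype.piFinset fun _ => (Finset.univ : Finset F))).card := by
    rw [Nat.card_eq_fintype_card, Fintype.card_subtype]
    refine Finset.card_equiv (e.arrowCongr (Equiv.refl F)) fun x => ?_
    simp only [Finset.mem_filter, Finset.mem_univ, true_and, Fintype.piFinset_univ, q, MvPolynomial.eval_rename]
    rw [show (e.arrowCongr (Equiv.refl F)) x ∘ e = x by ext i; simp]
  rw [hcard, Nat.card_eq_fintype_card]
  have h2 : (Finset.filter (fun f => MvPolynomial.eval f q = 0)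
      (Fintype.piFinset fun _ => (Finset.univ : Finset F))).card * Fintype.card F ≤
      q.totalDegree * Fintype.card F ^ Fintype.card τ := by exact_mod_cast h
  exact h2.trans (Nat.mul_le_mul_right _ hdeg)

section

variable {R₀ : Type*} [CommRing R₀] {σ : Type*}

theorem lineHom_injective : Function.Injective (lineHom R₀ σ) := by
  let β : MvPolynomial Unit (MvPolynomial (σ ⊕ σ) R₀) →+* MvPolynomial (Option σ) R₀ :=
    MvPolynomial.eval₂Hom (MvPolynomial.eval₂Hom MvPolynomial.C
      (Sum.elim (fun _ => 0) fun i => MvPolynomial.X (some i))) fun _ => MvPolynomial.X none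
  refine Function.HasLeftInverse.injective ⟨β, fun q => ?_⟩
  have : β.comp (lineHom R₀ σ) = RingHom.id _ := by
    refine MvPolynomial.ringHom_ext (fun r => by simp [β, lineHom]) fun o => ?_
    cases o <;> simp [β, lineHom]
  exact RingHom.congr_fun this q

/-- A point of a line. -/
def linePt {F : Type*} [CommRing F] (w : σ ⊕ σ → F) (s : F) : Option σ → F :=
  fun o => o.elim s fun i => w (Sum.inr i) - w (Sum.inl i) * s

theorem ev2k_line {F : Type u} [Field F] (φ : R₀ →+* F) (w : σ ⊕ σ → F) (s z : F)
    (g : Polynomial (MvPolynomial (Option σ) R₀)) :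
    ev2k s z ((g.map ((uEquiv _).toRingHom.comp (lineHom R₀ σ))).map (mapRingHom (MvPolynomial.eval₂Hom φ w))) =
      g.eval₂ (MvPolynomial.eval₂Hom φ (linePt w s)) z := by
  rw [ev2k, coe_eval₂RingHom, eval₂_map, eval₂_map]
  congr 1
  refine MvPolynomial.ringHom_ext (fun r => ?_) fun o => ?_
  · simp [lineHom, uEquiv]
  · cases o <;> simp [lineHom, uEquiv, linePt]

/-- Lines with a point correspond to directions with a point. -/
def lineEquiv {F : Type*} [CommRing F] : (σ ⊕ σ → F) × (F × F) ≃ (σ → F) × ((Option σ → F) × F) where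
  toFun p := (fun i => p.1 (Sum.inl i), linePt p.1 p.2.1, p.2.2)
  invFun q := (Sum.elim q.1 (fun i => q.2.1 (some i) + q.1 i * q.2.1 none), q.2.1 none, q.2.2)
  left_inv p := by
    refine Prod.ext (funext fun o => ?_) rfl
    cases o <;> simp [linePt]
  right_inv q := by
    refine Prod.ext (funext fun i => rfl) (Prod.ext (funext fun o => ?_) rfl)
    cases o <;> simp [linePt]

end

/-- Number of points of an absolutely irreducible hypersurface, uniformly in the specialisation. -/
theorem exists_count_bound {R₀ : Type*} [CommRing R₀] [IsDomain R₀] [IsIntegrallyClosed R₀]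
    {σ : Type*} [Fintype σ] (g : Polynomial (MvPolynomial (Option σ) R₀)) (hm : g.Monic)
    (hsep : derivative g ≠ 0)
    (habs : Irreducible (g.map (MvPolynomial.map (algebraMap R₀ (AlgebraicClosure (FractionRing R₀)))))) :
    ∃ (C' : ℝ) (h₀ : R₀), 0 ≤ C' ∧ h₀ ≠ 0 ∧ ∀ (F : Type u) [Field F] [Finite F] (φ : R₀ →+* F), φ h₀ ≠ 0 →
      |(Nat.card {p : (Option σ → F) × F // g.eval₂ (MvPolynomial.eval₂Hom φ p.1) p.2 = 0} : ℝ) -
          (Nat.card F : ℝ) ^ (Fintype.card σ + 1)| ≤
        C' * (Nat.card F : ℝ) ^ Fintype.card σ * Real.sqrt (Nat.card F) := by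
  classical
  let K₀ := FractionRing R₀
  let R := MvPolynomial (σ ⊕ σ) R₀
  let κ := algebraMap R₀ K₀
  have hκ : Function.Injective κ := IsFractionRing.injective R₀ K₀
  let gK := g.map (MvPolynomial.map κ)
  have habs' : Irreducible (gK.map (MvPolynomial.map (algebraMap K₀ (AlgebraicClosure K₀)))) := by
    rw [Polynomial.map_map, show (MvPolynomial.map (algebraMap K₀ (AlgebraicClosure K₀))).comp (MvPolynomial.map κ)
      = MvPolynomial.map (σ := Option σ) (algebraMap R₀ (AlgebraicClosure K₀)) from RingHom.ext fun p => by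
        rw [RingHom.comp_apply, MvPolynomial.map_map, ← IsScalarTower.algebraMap_eq]]
    exact habs
  have hsep' : derivative gK ≠ 0 := by
    rw [derivative_map, Ne, Polynomial.map_eq_zero_iff (MvPolynomial.map_injective _ hκ)]
    exact hsep
  let ι : R →+* AlgebraicClosure (LineField K₀ σ) :=
    (algebraMap (MvPolynomial (σ ⊕ σ) K₀) (AlgebraicClosure (LineField K₀ σ))).comp (MvPolynomial.map κ)
  have hι : Function.Injective ι := by
    show Function.Injective ((algebraMap (MvPolynomial (σ ⊕ σ) K₀) (AlgebraicClosure (LineField K₀ σ))) ∘ (MvPolynomial.map κ))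
    refine Function.Injective.comp ?_ (MvPolynomial.map_injective _ hκ)
    rw [IsScalarTower.algebraMap_eq (MvPolynomial (σ ⊕ σ) K₀) (LineField K₀ σ)]
    exact (algebraMap (LineField K₀ σ) _).injective.comp (IsFractionRing.injective _ _)
  let G₁ : Polynomial (MvPolynomial Unit R) := g.map (lineHom R₀ σ)
  have hG₁ : Irreducible (G₁.map (MvPolynomial.map ι)) := by
    have h := irreducible_line gK (hm.map _) hsep' habs'
    rw [Polynomial.map_map, RingHom.comp_assoc, lineHom_map, ← RingHom.comp_assoc, ← Polynomial.map_map] at h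
    rw [show MvPolynomial.map (σ := Unit) ι = (MvPolynomial.map (algebraMap (MvPolynomial (σ ⊕ σ) K₀)
      (AlgebraicClosure (LineField K₀ σ)))).comp (MvPolynomial.map (MvPolynomial.map κ)) from
        RingHom.ext fun p => (MvPolynomial.map_map _ _ p).symm]
    exact h
  obtain ⟨h, hh, hirr⟩ := exists_irreducible_away' ι hι G₁ hG₁
  let G : Polynomial (Polynomial R) := g.map ((uEquiv R).toRingHom.comp (lineHom R₀ σ))
  have hinj : Function.Injective ((uEquiv R).toRingHom.comp (lineHom R₀ σ)) :=
    (uEquiv R).injective.comp lineHom_injective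
  have hGm : G.Monic := hm.map _
  have hGirr : Irreducible G := by
    have h1 : Irreducible G₁ := Polynomial.Monic.irreducible_of_irreducible_map _ _ (hm.map _) hG₁
    have h2 := (MulEquiv.irreducible_iff (Polynomial.mapEquiv (uEquiv R)).toMulEquiv).2 h1
    show Irreducible (g.map _)
    rw [← Polynomial.map_map]
    exact h2
  haveI : IsIntegrallyClosed R := isIntegrallyClosed_mvPolynomial R₀ (σ ⊕ σ)
  obtain ⟨a, b, δ, hδ, hab⟩ := exists_bezout hGm hGirr (by
    rw [derivative_map, Ne, Polynomial.map_eq_zero_iff hinj]; exact hsep)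
  let Pc : R := δ.leadingCoeff * h
  have hPc : Pc ≠ 0 := mul_ne_zero (leadingCoeff_ne_zero.2 hδ) hh
  obtain ⟨m₀, hm₀⟩ := MvPolynomial.ne_zero_iff.1 hPc
  let d := g.natDegree
  let E := (Finset.range (d + 1)).sup fun j => (G.coeff j).natDegree
  let D := δ.natDegree
  obtain ⟨c, hc⟩ := curve_bound.{u} d E D
  let TD := Pc.totalDegree
  refine ⟨|c| + TD * (d + 1), MvPolynomial.coeff m₀ Pc, by positivity, hm₀, fun F _ _ φ hφ => ?_⟩
  haveI := Fintype.ofFinite F
  set Q := Nat.card F
  set n := Fintype.card σ
  let Nw : (σ ⊕ σ → F) → ℕ := fun w =>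
    Nat.card {p : F × F // g.eval₂ (MvPolynomial.eval₂Hom φ (linePt w p.1)) p.2 = 0}
  -- good lines
  have hgood : ∀ w : σ ⊕ σ → F, MvPolynomial.eval w (MvPolynomial.map φ Pc) ≠ 0 →
      |(Nw w : ℝ) - Q| ≤ |c| * Real.sqrt Q := by
    intro w hw
    rw [MvPolynomial.eval_map, show MvPolynomial.eval₂ φ w Pc = MvPolynomial.eval₂Hom φ w Pc from rfl, map_mul,
      mul_ne_zero_iff] at hw
    set φw := MvPolynomial.eval₂Hom φ w
    set Gw := G.map (mapRingHom φw)
    have hGwd : Gw.natDegree = d := by rw [(hGm).natDegree_map, hm.natDegree_map]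
    have hGwE : ∀ j, (Gw.coeff j).natDegree ≤ E := by
      intro j
      rw [coeff_map, coe_mapRingHom]
      refine natDegree_map_le.trans ?_
      rcases lt_or_ge d j with hj | hj
      · rw [coeff_eq_zero_of_natDegree_lt (by rw [hm.natDegree_map]; exact hj)]
        simp
      · exact Finset.le_sup (f := fun j => (G.coeff j).natDegree) (Finset.mem_range.2 (by omega))
    have habsw : Irreducible (Gw.map (mapRingHom (algebraMap F (AlgebraicClosure F)))) := by
      set ψ := (algebraMap F (AlgebraicClosure F)).comp φw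
      have h1 := hirr ψ (by
        simpa [ψ] using hw.2)
      have h2 := (MulEquiv.irreducible_iff (Polynomial.mapEquiv (uEquiv (AlgebraicClosure F))).toMulEquiv).2 h1
      rw [show Gw.map (mapRingHom (algebraMap F (AlgebraicClosure F))) =
        (G₁.map (MvPolynomial.map ψ)).map (uEquiv (AlgebraicClosure F)).toRingHom from ?_]
      · exact h2
      have hU : ∀ x, uEquiv (AlgebraicClosure F) (MvPolynomial.map ψ x) = (uEquiv R x).map ψ :=
        fun x => (RingHom.congr_fun (uEquiv_map ψ) x).symm
      simp only [Gw, G, G₁, Polynomial.map_map]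
      congr 1
      refine RingHom.ext fun p => ?_
      simp only [RingHom.comp_apply, RingEquiv.toRingHom_eq_coe, RingEquiv.coe_toRingHom, RingHom.coe_coe, hU,
        coe_mapRingHom, Polynomial.map_map, ψ]
    have hδw : δ.map φw ≠ 0 := fun h0 => hw.1 (by
      have := congrArg (fun q => coeff q D) h0
      rwa [coeff_map, coeff_zero] at this)
    have hbound := hc F Gw (hGm.map _) hGwd hGwE habsw (δ.map φw) hδw natDegree_map_le
      ⟨a.map (mapRingHom φw), b.map (mapRingHom φw), by
        rw [derivative_map, ← Polynomial.map_mul, ← Polynomial.map_mul, ← Polynomial.map_add, hab, map_C,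
          coe_mapRingHom]⟩
    have hNw : Nw w = Nat.card {p : F × F // ev2k p.1 p.2 Gw = 0} :=
      Nat.card_congr (Equiv.subtypeEquivRight fun p => by rw [ev2k_line])
    rw [hNw]
    exact hbound.trans (mul_le_mul_of_nonneg_right (le_abs_self c) (Real.sqrt_nonneg _))
  -- all lines
  have hall : ∀ w : σ ⊕ σ → F, Nw w ≤ d * Q := by
    intro w
    have hcard : Nw w = ∑ s : F, Nat.card {z : F // g.eval₂ (MvPolynomial.eval₂Hom φ (linePt w s)) z = 0} := by
      rw [← Nat.card_sigma]
      exact Nat.card_congr
        { toFun := fun p => ⟨p.1.1, p.1.2, p.2⟩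
          invFun := fun p => ⟨(p.1, p.2.1), p.2.2⟩
          left_inv := fun p => rfl
          right_inv := fun p => rfl }
    rw [hcard, mul_comm, show Q = (Finset.univ : Finset F).card from Nat.card_eq_fintype_card]
    refine Finset.sum_le_card_nsmul _ _ _ fun s _ => ?_
    set q := g.map (MvPolynomial.eval₂Hom φ (linePt w s))
    have hq : q ≠ 0 := (hm.map _).ne_zero
    refine le_trans (Nat.card_le_card_of_injective
      (fun z => (⟨z.1, Multiset.mem_toFinset.2 ((mem_roots hq).2 (by
        rw [IsRoot, eval_map]; exact z.2))⟩ : q.roots.toFinset))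
      fun z z' hz => Subtype.ext (congrArg Subtype.val hz :)) ?_
    rw [Nat.card_eq_finsetCard]
    exact (Multiset.toFinset_card_le _).trans ((card_roots' _).trans natDegree_map_le)
  -- the total
  set N := Nat.card {p : (Option σ → F) × F // g.eval₂ (MvPolynomial.eval₂Hom φ p.1) p.2 = 0}
  have htot : ∑ w, Nw w = Q ^ n * N := by
    rw [← Nat.card_sigma, show Q ^ n * N = Nat.card ((σ → F) ×
        {p : (Option σ → F) × F // g.eval₂ (MvPolynomial.eval₂Hom φ p.1) p.2 = 0}) by
      rw [Nat.card_prod, Nat.card_fun, Nat.card_eq_fintype_card (α := σ)]]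
    exact Nat.card_congr
      { toFun := fun p => ((lineEquiv (p.1, p.2.1)).1, ⟨(lineEquiv (p.1, p.2.1)).2, p.2.2⟩)
        invFun := fun q => ⟨(lineEquiv.symm (q.1, q.2.1)).1, (lineEquiv.symm (q.1, q.2.1)).2, by
          have := q.2.2
          have h2 := lineEquiv.apply_symm_apply (q.1, q.2.1)
          rw [← show (lineEquiv (lineEquiv.symm (q.1, q.2.1))).2 = q.2.1 by rw [h2]] at this
          exact this⟩
        left_inv := fun p => by
          obtain ⟨w, ⟨⟨s, z⟩, hp⟩⟩ := p
          have h2 := lineEquiv.symm_apply_apply (w, (s, z))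
          refine Sigma.subtype_ext ?_ ?_
          · exact (congrArg Prod.fst h2 :)
          · exact (congrArg Prod.snd h2 :)
        right_inv := fun q => by
          obtain ⟨u, ⟨x, hq⟩⟩ := q
          have h2 := lineEquiv.apply_symm_apply (u, x)
          refine Prod.ext ?_ (Subtype.ext ?_)
          · exact (congrArg Prod.fst h2 :)
          · exact (congrArg Prod.snd h2 :) }
  let bad := Finset.univ.filter fun w : σ ⊕ σ → F => MvPolynomial.eval w (MvPolynomial.map φ Pc) = 0
  have hPF : MvPolynomial.map φ Pc ≠ 0 := fun h0 => hφ (by rw [← MvPolynomial.coeff_map, h0, MvPolynomial.coeff_zero])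
  have hbad : bad.card * Q ≤ TD * Q ^ (2 * n) := by
    have h1 := card_zeros_mul_le _ hPF
    rw [Nat.card_eq_fintype_card (α := {x : σ ⊕ σ → F // _}), Fintype.card_subtype, Fintype.card_sum,
      show Fintype.card σ + Fintype.card σ = 2 * n by omega] at h1
    exact h1.trans (Nat.mul_le_mul_right _ (Finset.sup_mono (MvPolynomial.support_map_subset φ Pc)))
  have hQ1 : (1 : ℝ) ≤ Q := by exact_mod_cast (Nat.card_pos (α := F))
  have hsq : 1 ≤ Real.sqrt Q := Real.one_le_sqrt.2 hQ1
  have hkey : |((Q : ℝ) ^ n) * N - (Q : ℝ) ^ (2 * n) * Q| ≤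
      (|c| + TD * (d + 1)) * ((Q : ℝ) ^ (2 * n) * Real.sqrt Q) := by
    have hsum : ((Q : ℝ) ^ n) * N - (Q : ℝ) ^ (2 * n) * Q = ∑ w, ((Nw w : ℝ) - Q) := by
      rw [Finset.sum_sub_distrib, Finset.sum_const, Finset.card_univ, Fintype.card_fun, Fintype.card_sum,
        show Fintype.card σ + Fintype.card σ = 2 * n by omega, nsmul_eq_mul,
        show Fintype.card F = Q from Nat.card_eq_fintype_card.symm]
      push_cast
      congr 1
      exact_mod_cast htot.symm
    rw [hsum]
    refine (Finset.abs_sum_le_sum_abs _ _).trans ((Finset.sum_le_sum (g := fun w =>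
      |c| * Real.sqrt Q + if w ∈ bad then ((d : ℝ) + 1) * Q else 0) fun w _ => ?_).trans ?_)
    · split_ifs with hb
      · have h1 : (Nw w : ℝ) ≤ d * Q := by exact_mod_cast hall w
        have h2 : (0 : ℝ) ≤ Nw w := Nat.cast_nonneg _
        have h3 : 0 ≤ |c| * Real.sqrt Q := by positivity
        rw [abs_le]
        constructor <;> nlinarith
      · rw [add_zero]
        exact hgood w (by simpa [bad] using hb)
    · rw [Finset.sum_add_distrib, Finset.sum_const, Finset.card_univ, Fintype.card_fun, Fintype.card_sum,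
        show Fintype.card σ + Fintype.card σ = 2 * n by omega, Finset.sum_ite_mem, Finset.univ_inter,
        Finset.sum_const, nsmul_eq_mul, nsmul_eq_mul, show Fintype.card F = Q from Nat.card_eq_fintype_card.symm]
      have hbad' : (bad.card : ℝ) * Q ≤ TD * (Q : ℝ) ^ (2 * n) := by exact_mod_cast hbad
      have hd1 : (0 : ℝ) ≤ d + 1 := by positivity
      push_cast
      nlinarith [mul_le_mul_of_nonneg_left hbad' hd1,
        mul_le_mul_of_nonneg_left hsq (show (0 : ℝ) ≤ TD * (Q : ℝ) ^ (2 * n) * (d + 1) by positivity)]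
  have hpos : (0 : ℝ) < (Q : ℝ) ^ n := by positivity
  refine le_of_mul_le_mul_left ?_ hpos
  calc (Q : ℝ) ^ n * |(N : ℝ) - (Q : ℝ) ^ (n + 1)| = |((Q : ℝ) ^ n) * N - (Q : ℝ) ^ (2 * n) * Q| := by
        rw [← abs_of_pos hpos, ← abs_mul, abs_of_pos hpos]
        congr 1
        ring
    _ ≤ _ := hkey
    _ = _ := by ring

end Groth.Agent.LangWeil
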