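import Groth.Agent.LangWeil.Bivar
import Groth.Agent.LangWeil.AlgClosure

/-!
# The generic line section of an absolutely irreducible hypersurface is absolutely irreducible
-/

set_option autoImplicit false

noncomputable section

open MvPolynomial

namespace Groth.Agent.LangWeil

/-- Restriction to the line `t = (y - u s, s)`, with `u = Sum.inl` and `y = Sum.inr`. -/
def lineHom (R : Type*) [CommRing R] (σ : Type*) :
    MvPolynomial (Option σ) R →+* MvPolynomial Unit (MvPolynomial (σ ⊕ σ) R) :=
  eval₂Hom (C.comp C) fun o => o.elim (X ()) fun i => C (X (Sum.inr i)) - C (X (Sum.inl i)) * X ()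

theorem lineHom_map {R S : Type*} [CommRing R] [CommRing S] {σ : Type*} (φ : R →+* S) :
    (lineHom S σ).comp (MvPolynomial.map φ) =
      (MvPolynomial.map (MvPolynomial.map φ)).comp (lineHom R σ) := by
  refine MvPolynomial.ringHom_ext (fun r => by simp [lineHom]) fun o => ?_
  cases o <;> simp [lineHom]

section

variable {k : Type*} [Field k] {σ : Type*}

/-- Pairs of points of affine space: `Sum.inl` is the second one. -/
abbrev Pair (σ : Type*) := Option σ ⊕ Option σ

/-- The field of parameters of lines. -/
abbrev LineField (k : Type*) [Field k] (σ : Type*) := FractionRing (MvPolynomial (σ ⊕ σ) k)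

/-- The field of two points. -/
abbrev PairField (k : Type*) [Field k] (σ : Type*) := FractionRing (MvPolynomial (Pair σ) k)

/-- Two points on a line. -/
def pairHom : MvPolynomial (Pair σ) k →+* MvPolynomial Bool (MvPolynomial (σ ⊕ σ) k) :=
  eval₂Hom (C.comp C) (Sum.elim
    (fun o => o.elim (X true) fun i => C (X (Sum.inr i)) - C (X (Sum.inl i)) * X true)
    (fun o => o.elim (X false) fun i => C (X (Sum.inr i)) - C (X (Sum.inl i)) * X false))

theorem pairHom_injective : Function.Injective (pairHom (k := k) (σ := σ)) := by
  let v : Pair σ → PairField k σ := fun o => algebraMap (MvPolynomial (Pair σ) k) (PairField k σ) (X o)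
  let u : σ → PairField k σ := fun i =>
    (v (Sum.inl (some i)) - v (Sum.inr (some i))) / (v (Sum.inr none) - v (Sum.inl none))
  let β : MvPolynomial Bool (MvPolynomial (σ ⊕ σ) k) →+* PairField k σ :=
    eval₂Hom (eval₂Hom ((algebraMap (MvPolynomial (Pair σ) k) (PairField k σ)).comp C)
      (Sum.elim u fun i => v (Sum.inr (some i)) + u i * v (Sum.inr none)))
      fun b => if b then v (Sum.inl none) else v (Sum.inr none)
  have hne : v (Sum.inr none) - v (Sum.inl none) ≠ 0 := by
    intro h
    have := IsFractionRing.injective (MvPolynomial (Pair σ) k) (PairField k σ) (sub_eq_zero.1 h)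
    exact Sum.inr_ne_inl (X_injective this)
  have h : β.comp pairHom = algebraMap _ _ := by
    refine MvPolynomial.ringHom_ext (fun r => by simp [β, pairHom]) fun o => ?_
    rcases o with (_ | i) | (_ | i)
    · simp [β, pairHom, v]
    · have : v (Sum.inr (some i)) + u i * v (Sum.inr none) - u i * v (Sum.inl none) = v (Sum.inl (some i)) := by
        rw [add_sub_assoc, ← mul_sub, div_mul_cancel₀ _ hne]
        ring
      simpa [β, pairHom] using this
    · simp [β, pairHom, v]
    · simp [β, pairHom, v]
  refine Function.Injective.of_comp (f := β) ?_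
  rw [← RingHom.coe_comp, h]
  exact IsFractionRing.injective _ _

/-- The field of two points is purely transcendental over the field of lines, in the two line coordinates. -/
theorem exists_pairEquiv :
    ∃ e : PairField k σ ≃+* FractionRing (MvPolynomial Bool (LineField k σ)),
      ∀ q : MvPolynomial (Pair σ) k, e (algebraMap _ _ q) =
        algebraMap (MvPolynomial Bool (LineField k σ)) _
          (MvPolynomial.map (algebraMap (MvPolynomial (σ ⊕ σ) k) (LineField k σ)) (pairHom q)) := by
  let E' := FractionRing (MvPolynomial Bool (LineField k σ))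
  let c : MvPolynomial Bool (MvPolynomial (σ ⊕ σ) k) →+* E' :=
    (algebraMap _ E').comp (MvPolynomial.map (algebraMap _ (LineField k σ)))
  have hc : Function.Injective (c.comp (pairHom (k := k) (σ := σ))) :=
    ((IsFractionRing.injective _ E').comp
      (map_injective _ (IsFractionRing.injective _ (LineField k σ)))).comp pairHom_injective
  let f : PairField k σ →+* E' := IsFractionRing.lift hc
  have hf : ∀ q, f (algebraMap _ _ q) = c (pairHom q) := fun q => IsFractionRing.lift_algebraMap hc q
  suffices hs : Function.Surjective f by
    exact ⟨RingEquiv.ofBijective f ⟨f.injective, hs⟩, hf⟩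
  have hX : ∀ b : Bool, c (X b) ∈ f.fieldRange := by
    intro b
    cases b
    · exact ⟨algebraMap _ _ (X (Sum.inr none)), by rw [hf]; simp [pairHom]⟩
    · exact ⟨algebraMap _ _ (X (Sum.inl none)), by rw [hf]; simp [pairHom]⟩
  have hmem : ∀ o : Pair σ, c (pairHom (X o)) ∈ f.fieldRange := fun o => ⟨algebraMap _ _ (X o), hf _⟩
  have hne : c (X true) - c (X false) ≠ 0 := by
    intro h
    have := map_injective (σ := Bool) _ (IsFractionRing.injective (MvPolynomial (σ ⊕ σ) k) (LineField k σ))
      (IsFractionRing.injective _ E' (show algebraMap _ E' (MvPolynomial.map _ (X true)) =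
        algebraMap _ E' (MvPolynomial.map _ (X false)) from sub_eq_zero.1 h))
    exact Bool.noConfusion (X_injective this)
  have hP : ∀ q, c (C q) ∈ f.fieldRange := by
    intro q
    induction q using MvPolynomial.induction_on with
    | C r => exact ⟨algebraMap _ _ (C r), by rw [hf]; simp [pairHom]⟩
    | add p q hp hq => rw [map_add, map_add]; exact add_mem hp hq
    | mul_X p o hp =>
      rw [map_mul, map_mul]
      refine mul_mem hp ?_
      rcases o with i | i
      · have h : c (C (X (Sum.inl i))) =
            (c (pairHom (X (Sum.inr (some i)))) - c (pairHom (X (Sum.inl (some i))))) / (c (X true) - c (X false)) := by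
          rw [eq_div_iff hne]
          simp [pairHom]
          ring
        rw [h]
        exact div_mem (sub_mem (hmem _) (hmem _)) (sub_mem (hX _) (hX _))
      · have h : c (C (X (Sum.inr i))) =
            c (pairHom (X (Sum.inr (some i)))) + (c (pairHom (X (Sum.inr (some i)))) -
              c (pairHom (X (Sum.inl (some i))))) / (c (X true) - c (X false)) * c (X false) := by
          rw [div_mul_eq_mul_div, eq_comm, add_comm, ← eq_sub_iff_add_eq, div_eq_iff hne]
          simp [pairHom]
          ring
        rw [h]
        exact add_mem (hmem _) (mul_mem (div_mem (sub_mem (hmem _) (hmem _)) (sub_mem (hX _) (hX _))) (hX _))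
  have hF : ∀ q : MvPolynomial Bool (LineField k σ), algebraMap _ E' q ∈ f.fieldRange := by
    intro q
    induction q using MvPolynomial.induction_on with
    | C r =>
      obtain ⟨x, y, hy, rfl⟩ := IsFractionRing.div_surjective (A := MvPolynomial (σ ⊕ σ) k) r
      show ((algebraMap (MvPolynomial Bool (LineField k σ)) E').comp C) (_ / _) ∈ _
      rw [map_div₀]
      refine div_mem ?_ ?_
      · simpa [c] using hP x
      · simpa [c] using hP y
    | add p q hp hq => rw [map_add]; exact add_mem hp hq
    | mul_X p b hp =>
      rw [map_mul]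
      exact mul_mem hp (by simpa [c] using hX b)
  intro z
  obtain ⟨x, y, hy, rfl⟩ := IsFractionRing.div_surjective (A := MvPolynomial Bool (LineField k σ)) z
  exact div_mem (hF x) (hF y)

end

/-- Linearly independent elements stay independent after extending scalars of a simple extension. -/
theorem linearIndependent_adjoinRoot_map {E M : Type*} [Field E] [Field M] (ε : E →+* M) {q : Polynomial E}
    (hq : q.Monic) {ι : Type*} {v : ι → AdjoinRoot q} (hv : LinearIndependent E v) :
    LinearIndependent M (fun i => AdjoinRoot.map ε q (q.map ε) dvd_rfl (v i)) := by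
  classical
  set j := AdjoinRoot.map ε q (q.map ε) dvd_rfl
  let pb := AdjoinRoot.powerBasis' hq
  let pbM := AdjoinRoot.powerBasis' (hq.map ε)
  have hdim : pbM.dim = pb.dim := hq.natDegree_map ε
  let bM := pbM.basis.reindex (finCongr hdim)
  have hbM : ∀ i, j (pb.basis i) = bM i := fun i => by
    rw [Module.Basis.reindex_apply, PowerBasis.coe_basis, PowerBasis.coe_basis]
    simp only [pb, pbM, AdjoinRoot.powerBasis'_gen, map_pow, j]
    congr 1
    simp [AdjoinRoot.map]
  rw [linearIndependent_iff']
  intro s c hc l hl
  let V := Submodule.span E (Set.range v)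
  obtain ⟨f, hf⟩ := LinearMap.exists_extend ((Finsupp.lapply l).comp hv.repr)
  let fM : AdjoinRoot (q.map ε) →ₗ[M] M := bM.constr M fun i => ε (f (pb.basis i))
  have hfM : ∀ x, fM (j x) = ε (f x) := by
    intro x
    conv_lhs => rw [← pb.basis.sum_repr x]
    conv_rhs => rw [← pb.basis.sum_repr x]
    rw [map_sum, map_sum, map_sum, map_sum]
    refine Finset.sum_congr rfl fun i _ => ?_
    have h1 : j (pb.basis.repr x i • pb.basis i) = ε (pb.basis.repr x i) • bM i := by
      rw [Algebra.smul_def, map_mul, hbM, AdjoinRoot.algebraMap_eq, AdjoinRoot.map_of,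
        ← AdjoinRoot.algebraMap_eq, ← Algebra.smul_def]
    rw [h1, map_smul, Module.Basis.constr_basis, map_smul, smul_eq_mul, smul_eq_mul, map_mul]
  have hfv : ∀ i, f (v i) = if i = l then 1 else 0 := fun i => by
    have := LinearMap.congr_fun hf (⟨v i, Submodule.subset_span ⟨i, rfl⟩⟩ : V)
    simp only [LinearMap.comp_apply, Submodule.subtype_apply] at this
    rw [this, hv.repr_eq_single i _ rfl]
    simp [Finsupp.single_apply]
  have := congrArg fM hc
  rw [map_sum, map_zero, Finset.sum_eq_single l] at this
  · simpa [hfM, hfv] using this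
  · intro i _ hi
    simp [hfM, hfv, hi]
  · exact fun h => absurd hl h

open Polynomial in
/-- A polynomial with a root in `M` and an irreducible image cannot get a second root in a linearly
disjoint simple extension unless it is linear. -/
theorem natDegree_eq_one_of_two_roots {F E M : Type*} [Field F] [Field E] [Field M] (ι : F →+* E)
    (ε : E →+* M) {q : Polynomial E} (hq : q.Monic) (hqE : Irreducible q) (hqM : Irreducible (q.map ε))
    {p : Polynomial F} (hpm : p.Monic) (hpE : Irreducible (p.map ι)) (a' : AdjoinRoot q)
    (ha' : p.eval₂ ((AdjoinRoot.of q).comp ι) a' = 0) (a₁ : M) (ha₁ : p.eval₂ (ε.comp ι) a₁ = 0) :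
    p.natDegree = 1 := by
  haveI := Fact.mk hqE
  haveI := Fact.mk hqM
  set j := AdjoinRoot.map ε q (q.map ε) dvd_rfl
  have hp0 : 0 < p.natDegree := by
    have h := hpE.natDegree_pos
    rwa [hpm.natDegree_map] at h
  by_contra h1
  have hroot' : Polynomial.aeval a' (p.map ι) = 0 := by
    rw [Polynomial.aeval_def, Polynomial.eval₂_map, AdjoinRoot.algebraMap_eq]
    exact ha'
  have hind : LinearIndependent E fun i : Fin p.natDegree => a' ^ (i : ℕ) := by
    have h := linearIndependent_pow (K := E) a'
    rw [← minpoly.eq_of_irreducible_of_monic hpE hroot' (hpm.map _), hpm.natDegree_map] at h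
    exact h
  have hindM := linearIndependent_adjoinRoot_map ε hq hind
  have hr2 : Polynomial.aeval (j a') (p.map (ε.comp ι)) = 0 := by
    have h := congrArg j ha'
    rw [map_zero, Polynomial.hom_eval₂] at h
    rw [Polynomial.aeval_def, Polynomial.eval₂_map, AdjoinRoot.algebraMap_eq, ← h]
    congr 1
    exact RingHom.ext fun c => (AdjoinRoot.map_of ε _ _ dvd_rfl (ι c)).symm
  obtain ⟨p', hp'⟩ : Polynomial.X - Polynomial.C a₁ ∣ p.map (ε.comp ι) := dvd_iff_isRoot.2 (by rw [IsRoot, Polynomial.eval_map]; exact ha₁)
  have hp'm : p'.Monic := (monic_X_sub_C a₁).of_mul_monic_left (hp' ▸ hpm.map _)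
  have hdeg : 1 + p'.natDegree = p.natDegree := by
    have := congrArg natDegree hp'
    rw [hpm.natDegree_map, (monic_X_sub_C _).natDegree_mul hp'm, natDegree_X_sub_C] at this
    omega
  have hkill : ∀ r : Polynomial M, r.natDegree < p.natDegree → Polynomial.aeval (j a') r = 0 → r = 0 := by
    intro r hr hr0
    have h2 := Fintype.linearIndependent_iff.1 hindM fun i => r.coeff i
    refine Polynomial.ext fun i => ?_
    rcases lt_or_ge i p.natDegree with hi | hi
    · simpa using h2 (by
        rw [Polynomial.aeval_eq_sum_range' hr, Finset.sum_range] at hr0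
        simpa [map_pow, j] using hr0) ⟨i, hi⟩
    · simp [coeff_eq_zero_of_natDegree_lt (hr.trans_le hi)]
  rw [hp', map_mul, mul_eq_zero] at hr2
  rcases hr2 with h | h
  · exact X_sub_C_ne_zero _ (hkill _ (by rw [natDegree_X_sub_C]; omega) h)
  · exact hp'm.ne_zero (hkill _ (by omega) h)

open Polynomial in
theorem irreducible_line {k : Type*} [Field k] {σ : Type*} [Fintype σ]
    (g : Polynomial (MvPolynomial (Option σ) k)) (hm : g.Monic) (hsep : derivative g ≠ 0)
    (habs : Irreducible (g.map (MvPolynomial.map (algebraMap k (AlgebraicClosure k))))) :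
    Irreducible (g.map ((MvPolynomial.map (algebraMap (MvPolynomial (σ ⊕ σ) k)
      (AlgebraicClosure (LineField k σ)))).comp (lineHom k σ))) := by
  -- names
  let F := LineField k σ
  let E0 := PairField k σ
  let κ := algebraMap (MvPolynomial (Pair σ) k) E0
  obtain ⟨e, he⟩ := exists_pairEquiv (k := k) (σ := σ)
  let g0 : MvPolynomial (Option σ) k →+* MvPolynomial Unit F :=
    (MvPolynomial.map (algebraMap (MvPolynomial (σ ⊕ σ) k) F)).comp (lineHom k σ)
  let G := g.map g0
  -- the first field of a point
  let E1 := FractionRing (MvPolynomial (Option σ) k)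
  have hirr : Irreducible g := by
    have := irreducible_map_of_algClosed' (algebraMap k (AlgebraicClosure k)) (RingHom.id k) g habs
    rwa [show MvPolynomial.map (σ := Option σ) (RingHom.id k) = RingHom.id _ from RingHom.ext MvPolynomial.map_id,
      Polynomial.map_id] at this
  haveI : Fact (Irreducible (g.map (algebraMap _ E1))) :=
    ⟨hm.irreducible_iff_irreducible_map_fraction_map.1 hirr⟩
  let K1 := AdjoinRoot (g.map (algebraMap _ E1))
  let M1 := FractionRing (MvPolynomial (Option σ) K1)
  let i1 : MvPolynomial (Option σ) k →+* K1 := (AdjoinRoot.of _).comp (algebraMap _ E1)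
  let γ : MvPolynomial (Pair σ) k →+* M1 :=
    (algebraMap _ M1).comp ((MvPolynomial.map i1).comp (sumRingEquiv k (Option σ) (Option σ)).toRingHom)
  have hi1 : Function.Injective i1 :=
    (AdjoinRoot.of (g.map (algebraMap (MvPolynomial (Option σ) k) E1))).injective.comp
      (IsFractionRing.injective (MvPolynomial (Option σ) k) E1)
  have hγ : Function.Injective γ :=
    (IsFractionRing.injective (MvPolynomial (Option σ) K1) M1).comp
      ((MvPolynomial.map_injective i1 hi1).comp (sumRingEquiv k (Option σ) (Option σ)).injective)
  let ε : E0 →+* M1 := IsFractionRing.lift hγ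
  have hε : ∀ q, ε (κ q) = γ q := fun q => IsFractionRing.lift_algebraMap hγ q
  -- the two points
  let pt : Bool → MvPolynomial (Option σ) k →+* E0 := fun b =>
    κ.comp (rename (if b then Sum.inl else Sum.inr)).toRingHom
  have hg2 : Irreducible (g.map (ε.comp (pt true))) := by
    have h1 : ε.comp (pt true) = (algebraMap _ M1).comp (MvPolynomial.map (algebraMap k K1)) := by
      refine MvPolynomial.ringHom_ext (fun r => ?_) fun o => ?_
      · simp only [pt, RingHom.comp_apply, hε, ite_true, AlgHom.toRingHom_eq_coe, RingHom.coe_coe, rename_C,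
          MvPolynomial.map_C]
        simp [γ, i1]
        rfl
      · simp only [pt, RingHom.comp_apply, hε, ite_true, AlgHom.toRingHom_eq_coe, RingHom.coe_coe, rename_X,
          MvPolynomial.map_X]
        simp [γ]
    rw [h1, ← Polynomial.map_map]
    exact (hm.map _).irreducible_iff_irreducible_map_fraction_map.1
      (irreducible_map_of_algClosed' (algebraMap k (AlgebraicClosure k)) _ g habs)
  have hgb : Irreducible (g.map (pt true)) :=
    Polynomial.Monic.irreducible_of_irreducible_map ε _ (hm.map _) (by rwa [Polynomial.map_map])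
  -- the line with one point
  let sub : Bool → MvPolynomial Unit F →+* E0 := fun b =>
    (e.symm.toRingHom.comp (algebraMap (MvPolynomial Bool F) _)).comp (rename fun _ => b).toRingHom
  have hsub : ∀ b, (sub b).comp g0 = pt b := by
    intro b
    have key : ∀ q, e.symm (algebraMap (MvPolynomial Bool F) _
        (MvPolynomial.map (algebraMap (MvPolynomial (σ ⊕ σ) k) F) (pairHom q))) = κ q := fun q => by
      rw [← he, e.symm_apply_apply]
    refine MvPolynomial.ringHom_ext (fun r => ?_) fun o => ?_
    · show e.symm (algebraMap _ _ (rename _ (MvPolynomial.map _ (lineHom k σ (MvPolynomial.C r))))) =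
        κ (rename _ (MvPolynomial.C r))
      rw [rename_C, ← key]
      simp [lineHom, pairHom]
    · show e.symm (algebraMap _ _ (rename _ (MvPolynomial.map _ (lineHom k σ (MvPolynomial.X o))))) =
        κ (rename _ (MvPolynomial.X o))
      rw [rename_X, ← key]
      cases b <;> cases o <;> simp [lineHom, pairHom]
  have hg0 : Function.Injective g0 := by
    refine Function.Injective.of_comp (f := sub true) ?_
    rw [← RingHom.coe_comp, hsub]
    exact (IsFractionRing.injective (MvPolynomial (Pair σ) k) E0).comp
      (rename_injective (R := k) (Sum.inl : Option σ → Pair σ) Sum.inl_injective)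
  have hGm : G.Monic := hm.map g0
  have hGirr : Irreducible G :=
    Polynomial.Monic.irreducible_of_irreducible_map (sub true) _ hGm (by
      rw [Polynomial.map_map, hsub]; exact hgb)
  have hGsep : derivative G ≠ 0 := by
    rw [Polynomial.derivative_map, Ne, Polynomial.map_eq_zero_iff hg0]
    exact hsep
  -- the field of the line with a point
  let FS := FractionRing (MvPolynomial Unit F)
  haveI : Fact (Irreducible (G.map (algebraMap _ FS))) :=
    ⟨hGm.irreducible_iff_irreducible_map_fraction_map.1 hGirr⟩
  let L := AdjoinRoot (G.map (algebraMap (MvPolynomial Unit F) FS))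
  have hsubinj : ∀ b, Function.Injective (sub b) := fun b =>
    (e.symm.injective.comp (IsFractionRing.injective _ _)).comp
      (rename_injective _ fun _ _ _ => rfl)
  let τ : Bool → (FS →+* E0) := fun b => IsFractionRing.lift (hsubinj b)
  have hτ : ∀ b q, τ b (algebraMap _ _ q) = sub b q := fun b q => IsFractionRing.lift_algebraMap (hsubinj b) q
  have hτc : ∀ b, (τ b).comp (algebraMap (MvPolynomial Unit F) FS) = sub b := fun b => RingHom.ext (hτ b)
  have hGb : ∀ b, (G.map (algebraMap _ FS)).map (τ b) = g.map (pt b) := fun b => by
    rw [Polynomial.map_map, hτc, Polynomial.map_map, hsub]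
  have hptF : ∀ b (c : F), sub b (MvPolynomial.C c) = e.symm (algebraMap (MvPolynomial Bool F) _ (MvPolynomial.C c)) :=
    fun b c => by simp [sub]
  have halg : ∀ a : L, IsAlgebraic F a → a ∈ Set.range (algebraMap F L) := by
    intro a ha
    set p := minpoly F a with hp_def
    have hp : Irreducible p := minpoly.irreducible ha.isIntegral
    have hpm : p.Monic := minpoly.monic ha.isIntegral
    rcases eq_or_ne p.natDegree 1 with h1 | h1
    · exact minpoly.natDegree_eq_one_iff.1 h1
    exfalso
    let ιF : F →+* E0 := (τ true).comp (algebraMap F FS)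
    have hιF : ∀ b, (τ b).comp (algebraMap F FS) = ιF := by
      intro b
      refine RingHom.ext fun c => ?_
      show τ b (algebraMap F FS c) = τ true (algebraMap F FS c)
      rw [IsScalarTower.algebraMap_apply F (MvPolynomial Unit F) FS, hτ, hτ, MvPolynomial.algebraMap_eq, hptF, hptF]
    -- `p` stays irreducible over the field of two points
    have hpE : Irreducible (p.map ιF) := by
      have h2 : Irreducible (p.map (MvPolynomial.C (σ := Bool))) :=
        Polynomial.Monic.irreducible_of_irreducible_map MvPolynomial.constantCoeff _ (hpm.map _) (by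
          rw [Polynomial.map_map]
          convert hp using 1
          conv_rhs => rw [← p.map_id]
          congr 1
          exact RingHom.ext fun c => by simp)
      have h3 := (hpm.map _).irreducible_iff_irreducible_map_fraction_map
        (K := FractionRing (MvPolynomial Bool F)) |>.1 h2
      have h4 : Irreducible (((p.map (MvPolynomial.C (σ := Bool))).map
          (algebraMap _ (FractionRing (MvPolynomial Bool F)))).map e.symm.toRingHom) :=
        (MulEquiv.irreducible_iff (Polynomial.mapEquiv e.symm).toMulEquiv).2 h3
      have hc : ιF = e.symm.toRingHom.comp ((algebraMap (MvPolynomial Bool F)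
          (FractionRing (MvPolynomial Bool F))).comp MvPolynomial.C) := by
        refine RingHom.ext fun c => ?_
        show τ true (algebraMap F FS c) = _
        rw [IsScalarTower.algebraMap_apply F (MvPolynomial Unit F) FS, hτ, MvPolynomial.algebraMap_eq, hptF]
        rfl
      rw [hc, ← Polynomial.map_map, ← Polynomial.map_map]
      exact h4
    -- the second point
    haveI : Fact (Irreducible (g.map (pt true))) := ⟨hgb⟩
    let j2 : L →+* AdjoinRoot (g.map (pt true)) := AdjoinRoot.map (τ true) _ _ (hGb true ▸ dvd_rfl)
    set a' := j2 a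
    have hj2F : j2.comp (algebraMap F L) = (AdjoinRoot.of _).comp ιF := RingHom.ext fun c => by
      show j2 (algebraMap F L c) = AdjoinRoot.of _ (ιF c)
      rw [IsScalarTower.algebraMap_apply F FS L, AdjoinRoot.algebraMap_eq]
      exact AdjoinRoot.map_of _ _ _ _ _
    -- the first point
    let w : M1 := algebraMap (MvPolynomial (Option σ) K1) M1
      (MvPolynomial.C (AdjoinRoot.root (g.map (algebraMap (MvPolynomial (Option σ) k) E1))))
    have hw : Polynomial.eval₂ (ε.comp (τ false)) w (G.map (algebraMap _ FS)) = 0 := by
      rw [← Polynomial.eval₂_map, hGb, Polynomial.eval₂_map]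
      have h : ε.comp (pt false) = ((algebraMap (MvPolynomial (Option σ) K1) M1).comp MvPolynomial.C).comp i1 := by
        refine MvPolynomial.ringHom_ext (fun r => ?_) fun o => ?_
        · simp only [pt, RingHom.comp_apply, hε, AlgHom.toRingHom_eq_coe, RingHom.coe_coe, rename_C]
          simp [γ]
        · simp only [pt, RingHom.comp_apply, hε, AlgHom.toRingHom_eq_coe, RingHom.coe_coe, rename_X]
          simp [γ]
      rw [h, show w = ((algebraMap (MvPolynomial (Option σ) K1) M1).comp MvPolynomial.C) (AdjoinRoot.root _) from rfl,
        ← Polynomial.hom_eval₂, ← Polynomial.eval₂_map, AdjoinRoot.eval₂_root, map_zero]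
    let j1 : L →+* M1 := AdjoinRoot.lift (ε.comp (τ false)) w hw
    have hj1F : j1.comp (algebraMap F L) = ε.comp ιF := RingHom.ext fun c => by
      show j1 (algebraMap F L c) = _
      rw [IsScalarTower.algebraMap_apply F FS L, AdjoinRoot.algebraMap_eq, ← hιF false]
      exact AdjoinRoot.lift_of _
    refine h1 (natDegree_eq_one_of_two_roots ιF ε (hm.map _) hgb (by rwa [Polynomial.map_map]) hpm hpE a' ?_
      (j1 a) ?_)
    · rw [← hj2F, ← Polynomial.hom_eval₂, ← Polynomial.aeval_def, minpoly.aeval, map_zero]
    · rw [← hj1F, ← Polynomial.hom_eval₂, ← Polynomial.aeval_def, minpoly.aeval, map_zero]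
  let ψ : MvPolynomial Unit F →ₐ[F] L := IsScalarTower.toAlgHom F (MvPolynomial Unit F) L
  have hψ : Function.Injective ψ := by
    show Function.Injective (algebraMap (MvPolynomial Unit F) L)
    rw [IsScalarTower.algebraMap_eq (MvPolynomial Unit F) FS L]
    exact (algebraMap FS L).injective.comp (IsFractionRing.injective (MvPolynomial Unit F) FS)
  have h := irreducible_algClosure (K := AlgebraicClosure F) (G := G) hGm hGirr hGsep ψ
    hψ (AdjoinRoot.root _) (by
      have := AdjoinRoot.eval₂_root (G.map (algebraMap (MvPolynomial Unit F) FS))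
      rw [Polynomial.eval₂_map] at this
      exact this) halg
  rw [Polynomial.map_map] at h
  convert h using 2
  rw [show g0 = _ from rfl, ← RingHom.comp_assoc]
  congr 1
  refine MvPolynomial.ringHom_ext (fun c => ?_) fun i => by simp
  simp [F, ← IsScalarTower.algebraMap_apply (MvPolynomial (σ ⊕ σ) k) (LineField k σ)]

end Groth.Agent.LangWeil
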