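import Groth.Agent.LangWeil.CurvePlaces
import Groth.Agent.LangWeil.Generic
import Groth.Agent.FF.Linear

/-!
# Rational points of an absolutely irreducible plane curve over a finite field
-/

set_option autoImplicit false
set_option linter.style.haveILetI false
set_option linter.unusedSectionVars false

noncomputable section

open FunFld WithZero Groth.Agent.FF Polynomial IntermediateField

namespace Groth.Agent.LangWeil

universe u

variable {k K : Type*} [Field k] [Field K] [Algebra k K]

/-- Genus bound for a field generated by a root of a monic equation with coefficients of bounded degree. -/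
theorem genus_le_of_basis (hK : IsFunctionField k K) {x z : K} (hx : Transcendental k x) {d E : ℕ} (hd : 0 < d)
    (hfin : Module.finrank k⟮x⟯ K ≤ d) (hval : ∀ P : Place k K, P.1 z ≤ max 1 (P.1 x) ^ E)
    (hli : ∀ f : Fin d → Polynomial k, ∑ j, aeval x (f j) * z ^ (j : ℕ) = 0 → ∀ j, f j = 0) :
    genus k K ≤ E * d * d + 1 := by
  classical
  haveI : FiniteDimensional k⟮x⟯ K := finite_adjoin hK.1 hx
  set A := zeroDiv (k := k) x⁻¹
  have hA : A.deg ≤ d := by
    have hxi : Transcendental k x⁻¹ := fun h => hx (IsAlgebraic.inv_iff.1 h)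
    rw [deg_zeroDiv hK.1 hxi, show k⟮x⁻¹⟯ = k⟮x⟯ from le_antisymm
      (adjoin_simple_le_iff.2 (inv_mem (mem_adjoin_simple_self k x)))
      (adjoin_simple_le_iff.2 (by simpa using inv_mem (mem_adjoin_simple_self k x⁻¹)))]
    exact_mod_cast hfin
  have hvx : ∀ P : Place k K, max 1 (P.1 x) = exp (A P) := by
    intro P
    have hx0 : x ≠ 0 := fun h => hx (h ▸ isAlgebraic_zero)
    have hAP : A P = max (-P.ord x) 0 := by
      simp [A, zeroDiv, div_apply hK.1, ord_inv]
    rw [hAP, val_eq_exp_ord P hx0]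
    rcases le_total (P.ord x) 0 with h | h
    · rw [max_eq_left (show (0 : ℤ) ≤ -P.ord x by omega), max_eq_right (a := (1 : WithZero (Multiplicative ℤ)))]
      rw [← exp_zero]; exact exp_le_exp.2 (by omega)
    · rw [max_eq_right (show -P.ord x ≤ (0 : ℤ) by omega), max_eq_left (a := (1 : WithZero (Multiplicative ℤ))), exp_zero]
      rw [← exp_zero]; exact exp_le_exp.2 (by omega)
  obtain ⟨N, hN⟩ := riemann hK
  -- a large multiple of the polar divisor
  have hA1 : 1 ≤ A.deg := by
    have hxi : Transcendental k x⁻¹ := fun h => hx (IsAlgebraic.inv_iff.1 h)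
    rw [deg_zeroDiv hK.1 hxi]
    haveI := finite_adjoin hK.1 hxi
    exact_mod_cast Module.finrank_pos
  obtain ⟨l, hlN, hlE⟩ : ∃ l : ℕ, N ≤ l ∧ E * d ≤ l := ⟨N.toNat + E * d, by omega, by omega⟩
  set D := (l : ℤ) • A
  have hdeg : N ≤ D.deg := by
    rw [deg_zsmul]
    nlinarith
  let T := Σ j : Fin d, Fin (l - E * j + 1)
  let v : T → K := fun p => x ^ (p.2 : ℕ) * z ^ (p.1 : ℕ)
  have hmem : ∀ p, v p ∈ L D := by
    intro p
    refine mem_L.2 fun P => ?_
    have h1 : P.1 x ≤ exp (A P) := hvx P ▸ le_max_right _ _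
    have h2 : P.1 z ≤ exp (A P) ^ E := hvx P ▸ hval P
    have hA0 : 0 ≤ A P := zeroDiv_nonneg (k := k) x⁻¹ P
    calc P.1 (v p) = P.1 x ^ (p.2 : ℕ) * P.1 z ^ (p.1 : ℕ) := by simp [v]
      _ ≤ exp (A P) ^ (p.2 : ℕ) * (exp (A P) ^ E) ^ (p.1 : ℕ) := by gcongr
      _ = exp (A P) ^ ((p.2 : ℕ) + E * (p.1 : ℕ)) := by rw [pow_add, pow_mul]
      _ ≤ exp (A P) ^ l := by
        refine pow_le_pow_right₀ ?_ ?_
        · rw [← exp_zero]; exact exp_le_exp.2 hA0
        · have := p.2.isLt
          have : E * (p.1 : ℕ) ≤ E * d := Nat.mul_le_mul_left _ p.1.isLt.le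
          omega
      _ = exp (D P) := by
        rw [← exp_nsmul]
        congr 1
  have hlin : LinearIndependent k v := by
    rw [Fintype.linearIndependent_iff]
    intro c hc p
    have h := hli (fun j => ∑ i : Fin (l - E * j + 1), monomial (i : ℕ) (c ⟨j, i⟩)) (by
      rw [← hc, Fintype.sum_sigma]
      refine Finset.sum_congr rfl fun j _ => ?_
      rw [map_sum, Finset.sum_mul]
      refine Finset.sum_congr rfl fun i _ => ?_
      rw [aeval_monomial, Algebra.smul_def, mul_assoc]) p.1
    have h2 := congrArg (fun q => q.coeff (p.2 : ℕ)) h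
    simpa [finset_sum_coeff, coeff_monomial, Fin.val_inj] using h2
  haveI := finiteDimensional_L hK.1 D
  have hell : Fintype.card T ≤ ell D := by
    have h : LinearIndependent k fun p => (⟨v p, hmem p⟩ : L D) :=
      LinearIndependent.of_comp (L D).subtype (by exact hlin)
    exact h.fintype_card_le_finrank
  have hcard : d * (l - E * d + 1) ≤ Fintype.card T := by
    rw [Fintype.card_sigma]
    simp only [Fintype.card_fin]
    calc d * (l - E * d + 1) = ∑ _j : Fin d, (l - E * d + 1) := by simp
      _ ≤ _ := Finset.sum_le_sum fun j _ => by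
        have : E * (j : ℕ) ≤ E * d := Nat.mul_le_mul_left _ j.isLt.le
        omega
  have hg := hN D hdeg
  rw [spec, deg_zsmul] at hg
  have h1 : ((d * (l - E * d + 1) : ℕ) : ℤ) ≤ ell D := by exact_mod_cast hcard.trans hell
  rw [Nat.cast_mul, Nat.cast_add, Nat.cast_sub hlE] at h1
  push_cast at h1
  have h2 : (l : ℤ) * A.deg ≤ l * d := by gcongr
  zify
  nlinarith

variable (K)

/-- The function field of a plane curve and its coordinates. -/
structure CurveData (G : Polynomial (Polynomial k)) (x z : K) : Prop where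
  ff : IsFunctionField k K
  tr : Transcendental k x
  root : ev2 x z G = 0
  gen : ∀ y : K, ∃ a b, ev2 (k := k) x z b ≠ 0 ∧ y = ev2 (k := k) x z a / ev2 (k := k) x z b
  deg : Module.finrank k⟮x⟯ K ≤ G.natDegree
  ker : ∀ W, ev2 (k := k) x z W = 0 → G ∣ W

variable {K}

/-- Absolute irreducibility gives a function field with exact constants. -/
theorem exists_curveData {k : Type u} [Field k] {G : Polynomial (Polynomial k)} (hG : G.Monic)
    (habs : Irreducible (G.map (mapRingHom (algebraMap k (AlgebraicClosure k))))) :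
    ∃ (K : Type u) (_ : Field K) (_ : Algebra k K) (x z : K), CurveData K G x z := by
  classical
  let E := FractionRing (Polynomial k)
  let κ := algebraMap (Polynomial k) E
  have hκ : Function.Injective κ := IsFractionRing.injective _ _
  have hirr0 : Irreducible G := by
    refine Monic.irreducible_of_irreducible_map _ _ hG habs
  have hirr : Irreducible (G.map κ) := hG.irreducible_iff_irreducible_map_fraction_map.1 hirr0
  haveI := Fact.mk hirr
  let K := AdjoinRoot (G.map κ)
  letI : Algebra k K := ((AdjoinRoot.of (G.map κ)).comp (κ.comp C)).toAlgebra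
  let x : K := AdjoinRoot.of _ (κ X)
  let z : K := AdjoinRoot.root (G.map κ)
  have haev : ∀ f : Polynomial k, aeval x f = AdjoinRoot.of _ (κ f) := by
    intro f
    have : (aeval x).toRingHom = ((AdjoinRoot.of (G.map κ)).comp κ : Polynomial k →+* K) := by
      refine Polynomial.ringHom_ext (fun c => ?_) ?_
      · simp; rfl
      · simp [x]
    exact RingHom.congr_fun this f
  have hev : ∀ W, ev2 x z W = AdjoinRoot.mk (G.map κ) (W.map κ) := by
    intro W
    have : ev2 (k := k) x z = (AdjoinRoot.mk (G.map κ)).comp (mapRingHom κ) := by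
      refine Polynomial.ringHom_ext (fun f => ?_) ?_
      · simp [ev2, haev, AdjoinRoot.mk_C]
      · simp [ev2, z, AdjoinRoot.mk_X]
    exact RingHom.congr_fun this W
  have hof : Function.Injective (AdjoinRoot.of (G.map κ)) := (AdjoinRoot.of (G.map κ)).injective
  have hx : Transcendental k x := by
    rw [transcendental_iff]
    intro p hp
    rw [haev, map_eq_zero_iff _ hof, map_eq_zero_iff _ hκ] at hp
    exact hp
  have hker : ∀ W, ev2 (k := k) x z W = 0 → G ∣ W := fun W hW => by
    rw [hev, AdjoinRoot.mk_eq_zero] at hW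
    exact (Polynomial.map_dvd_map κ hκ hG).1 hW
  have hE : ∀ e : E, AdjoinRoot.of (G.map κ) e ∈ k⟮x⟯ := by
    intro e
    obtain ⟨a, b, -, rfl⟩ := IsFractionRing.div_surjective (A := Polynomial k) e
    have hm : ∀ q : Polynomial k, aeval x q ∈ k⟮x⟯ := fun q =>
      algebra_adjoin_le_adjoin k _ (aeval_mem_adjoin_singleton k x)
    rw [map_div₀, ← haev, ← haev]
    exact div_mem (hm a) (hm b)
  let pb := AdjoinRoot.powerBasis (hG.map κ).ne_zero
  have hspan : Submodule.span k⟮x⟯ (Set.range pb.basis) = ⊤ := by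
    refine eq_top_iff.2 fun y _ => ?_
    rw [← pb.basis.sum_repr y]
    refine Submodule.sum_mem _ fun i _ => ?_
    have : pb.basis.repr y i • pb.basis i = (⟨_, hE (pb.basis.repr y i)⟩ : k⟮x⟯) • pb.basis i := by
      rw [Algebra.smul_def, Algebra.smul_def]
      rfl
    rw [this]
    exact Submodule.smul_mem _ _ (Submodule.subset_span ⟨i, rfl⟩)
  haveI : Module.Finite k⟮x⟯ K := ⟨Submodule.fg_def.2 ⟨_, Set.finite_range _, hspan⟩⟩
  have hdeg : Module.finrank k⟮x⟯ K ≤ G.natDegree := by
    have h := finrank_range_le_card (R := k⟮x⟯) (b := pb.basis)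
    rw [Set.finrank, hspan, finrank_top, Fintype.card_fin] at h
    rwa [AdjoinRoot.powerBasis_dim, hG.natDegree_map] at h
  have hgen : ∀ y : K, ∃ a b, ev2 (k := k) x z b ≠ 0 ∧ y = ev2 (k := k) x z a / ev2 (k := k) x z b := by
    intro y
    obtain ⟨q, rfl⟩ := AdjoinRoot.mk_surjective y
    obtain ⟨b, hb, hbq⟩ := IsLocalization.integerNormalization_spec (nonZeroDivisors (Polynomial k)) q
    refine ⟨IsLocalization.integerNormalization (nonZeroDivisors (Polynomial k)) q, C b, ?_, ?_⟩
    · rw [hev, map_C, AdjoinRoot.mk_C, Ne, map_eq_zero_iff _ hof, map_eq_zero_iff _ hκ]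
      exact nonZeroDivisors.ne_zero hb
    · rw [hev, hev, map_C, AdjoinRoot.mk_C, eq_div_iff (by
        rw [Ne, map_eq_zero_iff _ hof, map_eq_zero_iff _ hκ]; exact nonZeroDivisors.ne_zero hb)]
      rw [← AdjoinRoot.mk_C, ← map_mul]
      congr 1
      rw [hbq, Algebra.smul_def, mul_comm]
      rfl
  refine ⟨K, inferInstance, inferInstance, x, z, ⟨⟨x, hx, ‹_›⟩, fun a ha => ?_⟩, hx, ?_, hgen, hdeg, hker⟩
  swap
  · rw [hev, AdjoinRoot.mk_self]
  -- exact constants
  let Kb := AlgebraicClosure k
  let Eb := FractionRing (Polynomial Kb)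
  have hm : Function.Injective ((algebraMap (Polynomial Kb) Eb).comp (mapRingHom (algebraMap k Kb))) :=
    (IsFractionRing.injective _ Eb).comp (map_injective _ (algebraMap k Kb).injective)
  let ν : E →+* Eb := IsFractionRing.lift hm
  have hν : ∀ f, ν (κ f) = algebraMap _ Eb (f.map (algebraMap k Kb)) := fun f => IsFractionRing.lift_algebraMap hm f
  have hGb : Irreducible ((G.map κ).map ν) := by
    rw [Polynomial.map_map, show ν.comp κ = (algebraMap (Polynomial Kb) Eb).comp (mapRingHom (algebraMap k Kb)) from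
      RingHom.ext hν, ← Polynomial.map_map]
    exact (hG.map _).irreducible_iff_irreducible_map_fraction_map.1 habs
  haveI := Fact.mk hGb
  by_contra hna
  have haE : ∀ e : E, AdjoinRoot.of (G.map κ) e ≠ a := by
    intro e he
    refine hna ?_
    have hai : IsIntegral (Polynomial k) e := by
      have h1 : IsAlgebraic k e := by
        obtain ⟨p, hp0, hp⟩ := ha
        refine ⟨p, hp0, hof ?_⟩
        rw [map_zero, aeval_def, hom_eval₂, he]
        exact hp
      exact h1.isIntegral.tower_top
    obtain ⟨f, rfl⟩ := IsIntegrallyClosed.isIntegral_iff.1 hai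
    rw [← haev] at he
    subst he
    by_cases hf : f.natDegree = 0
    · rw [eq_C_of_natDegree_eq_zero hf, aeval_C]
      exact ⟨_, rfl⟩
    · exact absurd ha (hx.aeval (f := f) hf (mem_nonZeroDivisors_of_ne_zero (leadingCoeff_ne_zero.2 fun h => hf (by simp [h]))))
  have hind : LinearIndependent E ![(1 : K), a] := by
    rw [LinearIndependent.pair_iff]
    intro s t hst
    rcases eq_or_ne t 0 with rfl | ht
    · simpa [Algebra.smul_def, map_eq_zero_iff _ hof] using hst
    · refine absurd ?_ (haE (-s / t))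
      rw [Algebra.smul_def, Algebra.smul_def, mul_one, AdjoinRoot.algebraMap_eq] at hst
      rw [map_div₀, map_neg, div_eq_iff (by rwa [Ne, map_eq_zero_iff _ hof])]
      linear_combination -hst
  have hindb := linearIndependent_adjoinRoot_map ν (hG.map κ) hind
  set j := AdjoinRoot.map ν (G.map κ) _ dvd_rfl
  let ιb : Kb →+* AdjoinRoot ((G.map κ).map ν) :=
    (AdjoinRoot.of _).comp ((algebraMap (Polynomial Kb) Eb).comp C)
  have hιk : ∀ c : k, j (algebraMap k K c) = ιb (algebraMap k Kb c) := by
    intro c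
    show j (AdjoinRoot.of _ (κ (C c))) = _
    rw [show j (AdjoinRoot.of _ (κ (C c))) = _ from AdjoinRoot.map_of ν _ _ dvd_rfl _, hν, map_C]
    rfl
  have hmin : ((minpoly k a).map (algebraMap k Kb)).eval₂ ιb (j a) = 0 := by
    rw [eval₂_map, show ιb.comp (algebraMap k Kb) = j.comp (algebraMap k K) from
      RingHom.ext fun c => (hιk c).symm, ← hom_eval₂, ← aeval_def, minpoly.aeval, map_zero]
  have hsplit := IsAlgClosed.splits ((minpoly k a).map (algebraMap k Kb))
  have hne : ((minpoly k a).map (algebraMap k Kb)).map ιb ≠ 0 :=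
    Polynomial.map_ne_zero (Polynomial.map_ne_zero (minpoly.ne_zero ha.isIntegral))
  obtain ⟨c, -, hc⟩ : ∃ c ∈ ((minpoly k a).map (algebraMap k Kb)).roots, ιb c = j a := by
    have : j a ∈ (((minpoly k a).map (algebraMap k Kb)).map ιb).roots :=
      (mem_roots hne).2 (by rw [IsRoot, eval_map]; exact hmin)
    rw [Polynomial.Splits.roots_map hsplit] at this
    exact Multiset.mem_map.1 this
  have h2 := (LinearIndependent.pair_iff.1 (by
    have he : (fun i => j (![(1 : K), a] i)) = ![(1 : AdjoinRoot ((G.map κ).map ν)), j a] := by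
      funext i
      fin_cases i <;> simp [K]
    rw [← he]
    exact hindb : LinearIndependent Eb ![(1 : AdjoinRoot ((G.map κ).map ν)), j a])) (algebraMap _ Eb (C c)) (-1) (by
      rw [Algebra.smul_def, Algebra.smul_def, mul_one, AdjoinRoot.algebraMap_eq, ← hc, map_neg, map_one, neg_one_mul]
      exact add_neg_cancel _)
  exact absurd h2.2 (by simp)

/-- Bound for the points of an absolutely irreducible plane curve over a finite field. -/
theorem curve_bound (d E D : ℕ) :
    ∃ c : ℝ, ∀ (k : Type u) [Field k] [Finite k] (G : Polynomial (Polynomial k)), G.Monic → G.natDegree = d →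
      (∀ j, (G.coeff j).natDegree ≤ E) →
      Irreducible (G.map (mapRingHom (algebraMap k (AlgebraicClosure k)))) →
      ∀ δ : Polynomial k, δ ≠ 0 → δ.natDegree ≤ D → (∃ a b, a * G + b * derivative G = C δ) →
        |(Nat.card {p : k × k // ev2k p.1 p.2 G = 0} : ℝ) - Nat.card k| ≤
          c * Real.sqrt (Nat.card k) := by
  classical
  refine ⟨2 * (E * d * d + 1) + 2 * D * d + d + 1, fun k _ _ G hG hd hE habs δ hδ hD hab => ?_⟩
  obtain ⟨K, _, _, x, z, hC⟩ := exists_curveData hG habs
  obtain ⟨a, b, hab⟩ := hab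
  haveI := finiteDimensional_residueField (k := k) (K := K) hC.ff.1
  have hd0 : 0 < d := by
    by_contra h
    have h0 : G = 1 := hG.natDegree_eq_zero.1 (by omega)
    rw [h0, Polynomial.map_one] at habs
    exact habs.not_isUnit isUnit_one
  have hd' : Module.finrank k⟮x⟯ K ≤ d := hd ▸ hC.deg
  have hval : ∀ P : Place k K, P.1 z ≤ max 1 (P.1 x) ^ E := by
    intro P
    by_contra hlt
    rw [not_le] at hlt
    set M := max 1 (P.1 x)
    have hM : 1 ≤ M ^ E := one_le_pow₀ (le_max_left _ _)
    have hterm : ∀ j ∈ Finset.range d, P.1 (aeval x (G.coeff j) * z ^ j) < P.1 (z ^ d) := by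
      intro j hj
      rw [map_mul, map_pow, map_pow]
      have hc : P.1 (aeval x (G.coeff j)) ≤ M ^ E := by
        rw [aeval_eq_sum_range' (Nat.lt_succ_of_le (hE j))]
        refine P.1.map_sum_le fun i hi => ?_
        rw [Algebra.smul_def, map_mul, map_pow]
        refine le_trans (mul_le_of_le_one_left' (val_const_le P _)) ?_
        exact (pow_le_pow_left' (le_max_right _ _) i).trans
          (pow_le_pow_right₀ (le_max_left _ _) (Nat.le_of_lt_succ (Finset.mem_range.1 hi)))
      have hz0 : 0 < P.1 z := lt_of_le_of_lt zero_le' hlt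
      calc P.1 (aeval x (G.coeff j)) * P.1 z ^ j ≤ M ^ E * P.1 z ^ j := by gcongr
        _ < P.1 z * P.1 z ^ j := mul_lt_mul_of_pos_right hlt (pow_pos hz0 _)
        _ = P.1 z ^ (j + 1) := by rw [pow_succ']
        _ ≤ P.1 z ^ d := pow_le_pow_right₀ (hM.trans hlt.le) (Finset.mem_range.1 hj)
    have hz0 : P.1 z ≠ 0 := (lt_of_le_of_lt zero_le' hlt).ne'
    have hsum := P.1.map_sum_lt (by rw [map_pow]; exact pow_ne_zero _ hz0) hterm
    have hroot := hC.root
    rw [ev2, coe_eval₂RingHom, eval₂_eq_sum_range, hd, Finset.sum_range_succ,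
      show G.coeff d = 1 from hd ▸ hG.coeff_natDegree, map_one, one_mul, add_eq_zero_iff_eq_neg] at hroot
    rw [show (∑ j ∈ Finset.range d, aeval x (G.coeff j) * z ^ j) = -z ^ d from hroot, Valuation.map_neg] at hsum
    exact lt_irrefl _ hsum
  have hli : ∀ f : Fin d → Polynomial k, ∑ j, aeval x (f j) * z ^ (j : ℕ) = 0 → ∀ j, f j = 0 := by
    intro f hf j
    set W : Polynomial (Polynomial k) := ∑ j : Fin d, monomial (j : ℕ) (f j)
    have hW : ev2 x z W = 0 := by
      rw [map_sum, ← hf]
      exact Finset.sum_congr rfl fun i _ => by simp [ev2]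
    have hWd : W.degree < G.degree := by
      rw [degree_eq_natDegree hG.ne_zero, hd]
      refine (degree_sum_le _ _).trans_lt ((Finset.sup_lt_iff (WithBot.bot_lt_coe _)).2 fun i _ => ?_)
      exact (degree_monomial_le _ _).trans_lt (WithBot.coe_lt_coe.2 i.isLt)
    have hW0 : W = 0 := eq_zero_of_dvd_of_degree_lt (hC.ker W hW) hWd
    have := congrArg (fun q : Polynomial (Polynomial k) => q.coeff (j : ℕ)) hW0
    simpa [W, finset_sum_coeff, coeff_monomial, Fin.val_inj] using this
  have hg : genus k K ≤ E * d * d + 1 := genus_le_of_basis hC.ff hC.tr hd0 hd' hval hli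
  -- points and places
  have hδev : ∀ x₀ z₀ : k, ev2k x₀ z₀ G = 0 → δ.eval x₀ ≠ 0 → ev2k x₀ z₀ (derivative G) ≠ 0 := by
    intro x₀ z₀ h0 hne h1
    refine hne ?_
    have := congrArg (ev2k x₀ z₀) hab
    rw [map_add, map_mul, map_mul, h0, h1, mul_zero, mul_zero, add_zero] at this
    simpa [ev2k] using this.symm
  have hxne : ∀ x₀ : k, x ≠ algebraMap k K x₀ := fun x₀ h => hC.tr (h ▸ isAlgebraic_algebraMap x₀)
  have hkerpt : ∀ x₀ z₀ : k, ev2k x₀ z₀ G = 0 → ∀ W, ev2 (k := k) x z W = 0 → ev2k x₀ z₀ W = 0 := by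
    intro x₀ z₀ h0 W hW
    obtain ⟨q, rfl⟩ := hC.ker W hW
    rw [map_mul, h0, zero_mul]
  haveI : Fintype k := Fintype.ofFinite k
  let S := {p : k × k // ev2k p.1 p.2 G = 0}
  let good : Set S := {p | δ.eval p.1.1 ≠ 0}
  have hbad : Nat.card (goodᶜ : Set S) ≤ D * d := by
    let g : S → k × k := Subtype.val
    let R := (δ.roots.toFinset).biUnion fun x₀ => ((G.map (evalRingHom x₀)).roots.toFinset).image (Prod.mk x₀)
    have hR : R.card ≤ D * d := by
      refine (Finset.card_biUnion_le_card_mul _ _ d fun x₀ _ => Finset.card_image_le.trans ?_).trans ?_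
      · refine (Multiset.toFinset_card_le _).trans ((card_roots' _).trans ?_)
        rw [hG.natDegree_map, hd]
      · exact Nat.mul_le_mul_right _ ((Multiset.toFinset_card_le _).trans ((card_roots' δ).trans hD))
    rw [← Nat.card_eq_finsetCard] at hR
    refine le_trans (Nat.card_le_card_of_injective (fun p => (⟨p.1.1, ?_⟩ : (R : Set (k × k)))) ?_) hR
    · obtain ⟨⟨⟨x₀, z₀⟩, h0⟩, hp⟩ := p
      simp only [good, Set.mem_compl_iff, Set.mem_setOf_eq, not_not] at hp
      simp only [R, Finset.coe_biUnion, Set.mem_iUnion, Finset.mem_coe, Finset.mem_image, Multiset.mem_toFinset]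
      refine ⟨x₀, (mem_roots hδ).2 hp, z₀, (mem_roots (hG.map _).ne_zero).2 ?_, rfl⟩
      rw [IsRoot, eval_map]
      exact h0
    · intro p q h
      exact Subtype.ext (Subtype.ext (congrArg Subtype.val h :))
  let P1 := {P : Place k K // P.deg = 1}
  have hb := Groth.Agent.FFRH.card_deg_one_bound (k := k) hC.ff
  haveI : Finite P1 := ((Zeta.finite_deg_le hC.ff.1 1).subset fun P hP => le_of_eq hP).to_subtype
  -- good points to places
  have hexP : ∀ p : good, ∃ P : P1, IsCentred P.1 x z p.1.1.1 p.1.1.2 := by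
    rintro ⟨⟨⟨x₀, z₀⟩, h0⟩, hp⟩
    obtain ⟨P, hP⟩ := exists_centred hC.ff.1 (hkerpt x₀ z₀ h0) (hxne x₀)
    exact ⟨⟨P, deg_eq_one_of_centred hC.gen hC.root h0 (hδev _ _ h0 hp) (hxne x₀) hP⟩, hP⟩
  choose φ hφ using hexP
  have hφinj : Function.Injective φ := by
    intro p q h
    have h1 := hφ p
    rw [h] at h1
    exact Subtype.ext (Subtype.ext (Prod.ext (residue_unique _ h1.1 (hφ q).1) (residue_unique _ h1.2 (hφ q).2)))
  -- bad places
  have hzeros : ∀ {y : K}, Transcendental k y → k⟮y⟯ = k⟮x⟯ → Nat.card {P : P1 // P.1.1 y < 1} ≤ d := by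
    intro y hy heq
    haveI : Fintype {P : P1 // P.1.1 y < 1} := Fintype.ofFinite _
    have h := sum_ord_deg_le hC.ff.1 hy (Finset.univ.image fun P : {P : P1 // P.1.1 y < 1} => P.1.1)
      (fun P hP => by obtain ⟨Q, -, rfl⟩ := Finset.mem_image.1 hP; exact Q.2)
    rw [Finset.sum_image (fun P _ Q _ h => Subtype.ext (Subtype.ext h))] at h
    rw [Nat.card_eq_fintype_card, ← Finset.card_univ, Finset.card_eq_sum_ones]
    refine (Finset.sum_le_sum fun P _ => ?_).trans (h.trans (heq ▸ hd'))
    rw [P.1.2, mul_one]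
    have := (val_lt_one_iff P.1.1 (fun h0 => hy (by rw [h0]; exact isAlgebraic_zero))).1 P.2
    omega
  let gen : Set P1 := {P | P.1.1 x ≤ 1 ∧ ∀ c : k, δ.eval c = 0 → ¬ P.1.1 (x - algebraMap k K c) < 1}
  have hspecial : Nat.card (genᶜ : Set P1) ≤ (D + 1) * d := by
    let Z : Option (δ.roots.toFinset) → Set P1 := fun o => o.elim {P | P.1.1 x⁻¹ < 1}
      fun c => {P | P.1.1 (x - algebraMap k K c) < 1}
    have hsub : (genᶜ : Set P1) ⊆ ⋃ o, Z o := by
      intro P hP
      simp only [gen, Set.mem_compl_iff, Set.mem_setOf_eq, not_and_or, not_forall, not_not] at hP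
      rcases hP with h | ⟨c, hc, h⟩
      · refine Set.mem_iUnion.2 ⟨none, ?_⟩
        show P.1.1 x⁻¹ < 1
        rw [map_inv₀]
        exact inv_lt_one_of_one_lt₀ (not_le.1 h)
      · exact Set.mem_iUnion.2 ⟨some ⟨c, Multiset.mem_toFinset.2 ((mem_roots hδ).2 hc)⟩, h⟩
    haveI : Fintype P1 := Fintype.ofFinite _
    rw [Nat.card_coe_set_eq]
    refine (Set.ncard_le_ncard hsub).trans ((Set.ncard_iUnion_le_of_fintype Z).trans ?_)
    calc ∑ o, (Z o).ncard ≤ ∑ _o : Option (δ.roots.toFinset), d := by
          refine Finset.sum_le_sum fun o _ => ?_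
          rw [← Nat.card_coe_set_eq]
          cases o with
          | none =>
            exact hzeros (fun h => hC.tr (IsAlgebraic.inv_iff.1 h)) (le_antisymm
              (adjoin_simple_le_iff.2 (inv_mem (mem_adjoin_simple_self k x)))
              (adjoin_simple_le_iff.2 (by simpa using inv_mem (mem_adjoin_simple_self k x⁻¹))))
          | some c =>
            refine hzeros (fun h => hC.tr ?_) (le_antisymm
              (adjoin_simple_le_iff.2 (sub_mem (mem_adjoin_simple_self k x) (IntermediateField.algebraMap_mem _ _)))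
              (adjoin_simple_le_iff.2 ?_))
            · simpa using h.add (isAlgebraic_algebraMap (c : k))
            · simpa using add_mem (mem_adjoin_simple_self k (x - algebraMap k K c))
                (IntermediateField.algebraMap_mem _ (c : k))
      _ = (δ.roots.toFinset.card + 1) * d := by
        rw [Finset.sum_const, Finset.card_univ, Fintype.card_option, Fintype.card_coe, smul_eq_mul]
      _ ≤ (D + 1) * d := Nat.mul_le_mul_right _
          (Nat.add_le_add_right ((Multiset.toFinset_card_le _).trans ((card_roots' δ).trans hD)) 1)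
  -- generic places to good points
  have hexp : ∀ P : gen, ∃ p : good, IsCentred P.1.1 x z p.1.1.1 p.1.1.2 := by
    rintro ⟨⟨P, hP⟩, hx1, hxδ⟩
    obtain ⟨x₀, hx₀⟩ := exists_residue hP hx1
    have hz1 : P.1 z ≤ 1 := (hval P).trans (by rw [max_eq_left hx1, one_pow])
    obtain ⟨z₀, hz₀⟩ := exists_residue hP hz1
    have hc : IsCentred P x z x₀ z₀ := ⟨hx₀, hz₀⟩
    have h0 : ev2k x₀ z₀ G = 0 := by
      by_contra hne
      have := hc.val_eq_one hne
      rw [hC.root, map_zero] at this
      exact zero_ne_one this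
    exact ⟨⟨⟨(x₀, z₀), h0⟩, fun h => hxδ x₀ h hx₀⟩, hc⟩
  choose ψ hψ using hexp
  have hψinj : Function.Injective ψ := by
    intro P Q h
    have h1 := hψ P
    rw [h] at h1
    exact Subtype.ext (Subtype.ext (place_unique hC.gen hC.root (ψ Q).1.2
      (hδev _ _ (ψ Q).1.2 (ψ Q).2) (hxne _) h1 (hψ Q)))
  -- conclude
  have hs1 : Nat.card good + Nat.card (goodᶜ : Set S) = Nat.card S := by
    simp only [Nat.card_coe_set_eq]; exact Set.ncard_add_ncard_compl good
  have hp1 : Nat.card gen + Nat.card (genᶜ : Set P1) = Nat.card P1 := by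
    simp only [Nat.card_coe_set_eq]; exact Set.ncard_add_ncard_compl gen
  have hup := Nat.card_le_card_of_injective φ hφinj
  have hlow := Nat.card_le_card_of_injective ψ hψinj
  have h1 : Nat.card S ≤ Nat.card P1 + D * d := by omega
  have h2 : Nat.card P1 ≤ Nat.card S + (D + 1) * d := by omega
  have h1' : (Nat.card S : ℝ) ≤ Nat.card P1 + D * d := by exact_mod_cast h1
  have h2' : (Nat.card P1 : ℝ) ≤ Nat.card S + (D + 1) * d := by exact_mod_cast h2
  have hg' : (genus k K : ℝ) ≤ E * d * d + 1 := by exact_mod_cast hg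
  have hq : (1 : ℝ) ≤ Real.sqrt (Nat.card k) := by
    rw [Real.one_le_sqrt]
    exact_mod_cast Nat.card_pos
  have hgq : 2 * (genus k K : ℝ) * Real.sqrt (Nat.card k) ≤ 2 * (E * d * d + 1) * Real.sqrt (Nat.card k) := by
    gcongr
  have hDd : (0 : ℝ) ≤ D * d := by positivity
  have hd1 : (0 : ℝ) ≤ d := by positivity
  rw [abs_le] at hb ⊢
  push_cast at h1' h2' ⊢
  constructor
  · nlinarith [mul_le_mul_of_nonneg_left hq hDd, mul_le_mul_of_nonneg_left hq hd1]
  · nlinarith [mul_le_mul_of_nonneg_left hq hDd, mul_le_mul_of_nonneg_left hq hd1]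

end Groth.Agent.LangWeil
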