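import Groth.Agent.FFRH.Main
import Groth.Agent.FF.RR
import Mathlib.RingTheory.AdjoinRoot
import Mathlib.RingTheory.LocalRing.Subring
import Mathlib.RingTheory.Valuation.LocalSubring

/-!
# Places of a plane curve at simple points
-/

set_option autoImplicit false
set_option linter.style.haveILetI false
set_option linter.unusedSectionVars false

noncomputable section

open FunFld WithZero Groth.Agent.FF Polynomial

namespace Groth.Agent.LangWeil

variable {k K : Type*} [Field k] [Field K] [Algebra k K]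

/-- Evaluation of a plane polynomial at two field elements. -/
def ev2 (x z : K) : Polynomial (Polynomial k) →+* K := eval₂RingHom (aeval x).toRingHom z

/-- Evaluation of a plane polynomial at a point. -/
def ev2k (x₀ z₀ : k) : Polynomial (Polynomial k) →+* k := eval₂RingHom (evalRingHom x₀) z₀

theorem ev2_X (x z : K) : ev2 (k := k) x z X = z := by simp [ev2]

theorem ev2_CX (x z : K) : ev2 (k := k) x z (C X) = x := by simp [ev2]

theorem ev2_CC (x z : K) (c : k) : ev2 (k := k) x z (C (C c)) = algebraMap k K c := by simp [ev2]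

/-- A plane polynomial minus its value lies in the ideal of the point. -/
theorem exists_decomp (x₀ z₀ : k) (W : Polynomial (Polynomial k)) :
    ∃ A B, W = C (C (ev2k x₀ z₀ W)) + C (X - C x₀) * A + (X - C (C z₀)) * B := by
  obtain ⟨B, hB⟩ := X_sub_C_dvd_sub_C_eval (a := C z₀) (p := W)
  obtain ⟨A, hA⟩ := X_sub_C_dvd_sub_C_eval (a := x₀) (p := W.eval (C z₀))
  have h : (W.eval (C z₀)).eval x₀ = ev2k x₀ z₀ W := by
    rw [← coe_evalRingHom, eval, hom_eval₂]
    simp [ev2k]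
  refine ⟨C A, B, ?_⟩
  rw [← h, ← map_mul, ← hA, map_sub]
  calc W = C (W.eval (C z₀)) + (W - C (W.eval (C z₀))) := by ring
    _ = _ := by rw [hB]; ring

theorem val_sum_lt (P : Place k K) {a b : K} (ha : P.1 a < 1) (hb : P.1 b < 1) : P.1 (a + b) < 1 :=
  lt_of_le_of_lt (P.1.map_add a b) (max_lt ha hb)

theorem val_ev2_le (P : Place k K) {x z : K} (hx : P.1 x ≤ 1) (hz : P.1 z ≤ 1) (W : Polynomial (Polynomial k)) :
    P.1 (ev2 x z W) ≤ 1 := by
  rw [← mem_O P]
  have hxO : x ∈ P.O := (mem_O P).2 hx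
  have hzO : z ∈ P.O := (mem_O P).2 hz
  induction W using Polynomial.induction_on' with
  | add a b ha hb => rw [map_add]; exact add_mem ha hb
  | monomial i f =>
    rw [ev2, coe_eval₂RingHom, eval₂_monomial]
    refine mul_mem ?_ (pow_mem hzO i)
    induction f using Polynomial.induction_on' with
    | add a b ha hb => rw [map_add]; exact add_mem ha hb
    | monomial j c =>
      show aeval x (monomial j c) ∈ P.O
      rw [aeval_monomial]
      exact mul_mem ((mem_O P).2 (val_const_le P c)) (pow_mem hxO j)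

/-- The place is centred at the point. -/
def IsCentred (P : Place k K) (x z : K) (x₀ z₀ : k) : Prop :=
  P.1 (x - algebraMap k K x₀) < 1 ∧ P.1 (z - algebraMap k K z₀) < 1

theorem IsCentred.le_one {P : Place k K} {x z : K} {x₀ z₀ : k} (h : IsCentred P x z x₀ z₀) :
    P.1 x ≤ 1 ∧ P.1 z ≤ 1 := by
  refine ⟨?_, ?_⟩
  · rw [← sub_add_cancel x (algebraMap k K x₀)]
    exact (P.1.map_add _ _).trans (max_le h.1.le (val_const_le P x₀))
  · rw [← sub_add_cancel z (algebraMap k K z₀)]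
    exact (P.1.map_add _ _).trans (max_le h.2.le (val_const_le P z₀))

theorem IsCentred.val_sub_lt {P : Place k K} {x z : K} {x₀ z₀ : k} (h : IsCentred P x z x₀ z₀)
    (W : Polynomial (Polynomial k)) : P.1 (ev2 x z W - algebraMap k K (ev2k x₀ z₀ W)) < 1 := by
  obtain ⟨hx, hz⟩ := h.le_one
  obtain ⟨A, B, hW⟩ := exists_decomp x₀ z₀ W
  have h1 : P.1 ((x - algebraMap k K x₀) * ev2 x z A) < 1 := by
    rw [map_mul]
    exact mul_lt_one_of_lt_of_le h.1 (val_ev2_le P hx hz A)
  have h2 : P.1 ((z - algebraMap k K z₀) * ev2 x z B) < 1 := by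
    rw [map_mul]
    exact mul_lt_one_of_lt_of_le h.2 (val_ev2_le P hx hz B)
  have e := congrArg (ev2 x z) hW
  simp only [map_add, map_mul, map_sub, ev2_X, ev2_CX, ev2_CC] at e
  have e' : ev2 x z W - algebraMap k K (ev2k x₀ z₀ W) =
      (x - algebraMap k K x₀) * ev2 x z A + (z - algebraMap k K z₀) * ev2 x z B := by
    linear_combination e
  rw [e']
  exact val_sum_lt P h1 h2

theorem IsCentred.val_eq_one {P : Place k K} {x z : K} {x₀ z₀ : k} (h : IsCentred P x z x₀ z₀)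
    {W : Polynomial (Polynomial k)} (hW : ev2k x₀ z₀ W ≠ 0) : P.1 (ev2 x z W) = 1 := by
  have h1 := h.val_sub_lt W
  replace h1 := h1.trans_eq (val_const P hW).symm
  rw [← sub_add_cancel (ev2 x z W) (algebraMap k K (ev2k x₀ z₀ W)), P.1.map_add_eq_of_lt_right h1,
    val_const P hW]

variable {x z : K} {G : Polynomial (Polynomial k)} {x₀ z₀ : k}

/-- Every nonzero element of the coordinate ring is a power of the uniformiser times a unit. -/
theorem exists_pow_mul_unit (hG : ev2 x z G = 0) (hG0 : ev2k x₀ z₀ G = 0)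
    (hG' : ev2k x₀ z₀ (derivative G) ≠ 0) (hx : x ≠ algebraMap k K x₀) {P : Place k K}
    (hP : IsCentred P x z x₀ z₀) (W : Polynomial (Polynomial k)) (hW : ev2 x z W ≠ 0) :
    ∃ (i : ℕ) (U V : Polynomial (Polynomial k)), ev2k x₀ z₀ U ≠ 0 ∧ ev2k x₀ z₀ V ≠ 0 ∧
      ev2 x z U * ev2 x z W = (x - algebraMap k K x₀) ^ i * ev2 x z V := by
  obtain ⟨U₀, hU₀⟩ := X_sub_C_dvd_sub_C_eval (a := C z₀) (p := G)
  have hev : (G.eval (C z₀)).eval x₀ = ev2k x₀ z₀ G := by
    rw [← coe_evalRingHom, eval, hom_eval₂]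
    simp [ev2k]
  obtain ⟨W₁, hW₁⟩ := X_sub_C_dvd_sub_C_eval (a := x₀) (p := G.eval (C z₀))
  rw [hev, hG0, map_zero, sub_zero] at hW₁
  have hdec : G = C (X - C x₀) * C W₁ + (X - C (C z₀)) * U₀ := by
    rw [← map_mul, ← hW₁, ← hU₀]; ring
  have hU₀0 : ev2k x₀ z₀ U₀ ≠ 0 := by
    intro h
    refine hG' ?_
    rw [hdec]
    simp [derivative_mul, ev2k, show eval₂ (evalRingHom x₀) z₀ U₀ = 0 from h]
  have hπ0 : x - algebraMap k K x₀ ≠ 0 := sub_ne_zero.2 hx
  have hπ : 0 < P.ord (x - algebraMap k K x₀) := (val_lt_one_iff P hπ0).1 hP.1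
  suffices h : ∀ (N : ℕ) (W : Polynomial (Polynomial k)), ev2 x z W ≠ 0 → (P.ord (ev2 x z W)).toNat ≤ N →
      ∃ (i : ℕ) (U V : Polynomial (Polynomial k)), ev2k x₀ z₀ U ≠ 0 ∧ ev2k x₀ z₀ V ≠ 0 ∧
        ev2 x z U * ev2 x z W = (x - algebraMap k K x₀) ^ i * ev2 x z V from h _ W hW le_rfl
  intro N
  induction N using Nat.strong_induction_on with
  | _ N ih =>
    intro W hW hN
    by_cases h0 : ev2k x₀ z₀ W = 0
    swap
    · exact ⟨0, 1, W, by simp, h0, by simp⟩
    obtain ⟨A, B, hAB⟩ := exists_decomp x₀ z₀ W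
    rw [h0, map_zero, map_zero, zero_add] at hAB
    let W' := U₀ * A - C W₁ * B
    have heq : ev2 x z U₀ * ev2 x z W = (x - algebraMap k K x₀) * ev2 x z W' := by
      have hz : (z - algebraMap k K z₀) * ev2 x z U₀ = -((x - algebraMap k K x₀) * ev2 x z (C W₁)) := by
        rw [hdec] at hG
        simp only [map_add, map_mul, map_sub, ev2_X, ev2_CX, ev2_CC] at hG
        linear_combination hG
      rw [hAB]
      simp only [W', map_add, map_mul, map_sub, ev2_X, ev2_CX, ev2_CC]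
      linear_combination (ev2 x z B) * hz
    have hU1 := hP.val_eq_one hU₀0
    have hU0 : ev2 x z U₀ ≠ 0 := fun h => by rw [h, map_zero] at hU1; exact zero_ne_one hU1
    have hW' : ev2 x z W' ≠ 0 := fun h => by
      rw [h, mul_zero] at heq
      exact mul_ne_zero hU0 hW heq
    have hord := congrArg P.ord heq
    rw [ord_mul P hU0 hW, ord_mul P hπ0 hW', (val_eq_one_iff P hU0).1 hU1] at hord
    have hW'0 : 0 ≤ P.ord (ev2 x z W') := (val_le_one_iff P _).1 (val_ev2_le P hP.le_one.1 hP.le_one.2 _)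
    obtain ⟨i, U, V, hU, hV, h⟩ := ih (P.ord (ev2 x z W')).toNat (by omega) W' hW' le_rfl
    refine ⟨i + 1, U * U₀, V, by rw [map_mul]; exact mul_ne_zero hU hU₀0, hV, ?_⟩
    rw [map_mul, mul_assoc, heq, mul_left_comm, h, pow_succ]
    ring

/-- The valuation ring of a place centred at a simple point is the local ring of the point. -/
theorem exists_frac_of_val_le_one (hgen : ∀ y : K, ∃ a b, ev2 (k := k) x z b ≠ 0 ∧ y = ev2 (k := k) x z a / ev2 (k := k) x z b)
    (hG : ev2 x z G = 0) (hG0 : ev2k x₀ z₀ G = 0)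
    (hG' : ev2k x₀ z₀ (derivative G) ≠ 0) (hx : x ≠ algebraMap k K x₀) {P : Place k K}
    (hP : IsCentred P x z x₀ z₀) {y : K} (hy : P.1 y ≤ 1) :
    ∃ a b, ev2k x₀ z₀ b ≠ 0 ∧ y = ev2 (k := k) x z a / ev2 (k := k) x z b := by
  obtain ⟨a, b, hb, rfl⟩ := hgen y
  by_cases ha : ev2 x z a = 0
  · exact ⟨0, 1, by simp, by simp [ha]⟩
  have hπ0 : x - algebraMap k K x₀ ≠ 0 := sub_ne_zero.2 hx
  obtain ⟨i, U, V, hU, hV, h1⟩ := exists_pow_mul_unit hG hG0 hG' hx hP a ha
  obtain ⟨j, U', V', hU', hV', h2⟩ := exists_pow_mul_unit hG hG0 hG' hx hP b hb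
  have hne : ∀ {W}, ev2k x₀ z₀ W ≠ 0 → ev2 x z W ≠ 0 := fun {W} h h' => by
    have := hP.val_eq_one h
    rw [h', map_zero] at this
    exact zero_ne_one this
  have hij : j ≤ i := by
    have e1 := congrArg P.ord h1
    have e2 := congrArg P.ord h2
    rw [ord_mul P (hne hU) ha, ord_mul P (pow_ne_zero _ hπ0) (hne hV), ord_pow,
      (val_eq_one_iff P (hne hU)).1 (hP.val_eq_one hU), (val_eq_one_iff P (hne hV)).1 (hP.val_eq_one hV)] at e1
    rw [ord_mul P (hne hU') hb, ord_mul P (pow_ne_zero _ hπ0) (hne hV'), ord_pow,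
      (val_eq_one_iff P (hne hU')).1 (hP.val_eq_one hU'), (val_eq_one_iff P (hne hV')).1 (hP.val_eq_one hV')] at e2
    have h3 := (val_le_one_iff P _).1 hy
    rw [ord_div P ha hb] at h3
    have hπ : 0 < P.ord (x - algebraMap k K x₀) := (val_lt_one_iff P hπ0).1 hP.1
    by_contra hlt
    have : (i : ℤ) + 1 ≤ j := by omega
    nlinarith
  refine ⟨C (X - C x₀) ^ (i - j) * V * U', U * V', by rw [map_mul]; exact mul_ne_zero hU hV', ?_⟩
  simp only [map_mul, map_pow, map_sub, ev2_CX, ev2_CC]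
  rw [div_eq_div_iff hb (mul_ne_zero (hne hU) (hne hV'))]
  have hpow : (x - algebraMap k K x₀) ^ i = (x - algebraMap k K x₀) ^ (i - j) * (x - algebraMap k K x₀) ^ j := by
    rw [← pow_add, Nat.sub_add_cancel hij]
  linear_combination (ev2 x z V') * h1 + (ev2 x z V') * (ev2 x z V) * hpow -
    ((x - algebraMap k K x₀) ^ (i - j) * ev2 x z V) * h2

theorem place_unique (hgen : ∀ y : K, ∃ a b, ev2 (k := k) x z b ≠ 0 ∧ y = ev2 (k := k) x z a / ev2 (k := k) x z b)
    (hG : ev2 x z G = 0) (hG0 : ev2k x₀ z₀ G = 0)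
    (hG' : ev2k x₀ z₀ (derivative G) ≠ 0) (hx : x ≠ algebraMap k K x₀) {P Q : Place k K}
    (hP : IsCentred P x z x₀ z₀) (hQ : IsCentred Q x z x₀ z₀) : P = Q := by
  refine ext_of_O fun y hy => ?_
  obtain ⟨a, b, hb, rfl⟩ := exists_frac_of_val_le_one hgen hG hG0 hG' hx hP hy
  rw [map_div₀, hQ.val_eq_one hb, div_one]
  exact val_ev2_le Q hQ.le_one.1 hQ.le_one.2 a

theorem deg_eq_one_of_centred (hgen : ∀ y : K, ∃ a b, ev2 (k := k) x z b ≠ 0 ∧ y = ev2 (k := k) x z a / ev2 (k := k) x z b)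
    (hG : ev2 x z G = 0) (hG0 : ev2k x₀ z₀ G = 0)
    (hG' : ev2k x₀ z₀ (derivative G) ≠ 0) (hx : x ≠ algebraMap k K x₀) {P : Place k K}
    (hP : IsCentred P x z x₀ z₀) : P.deg = 1 := by
  have hsurj : ∀ r : IsLocalRing.ResidueField P.O, ∃ c : k, c • (1 : IsLocalRing.ResidueField P.O) = r := by
    intro r
    obtain ⟨⟨y, hy⟩, rfl⟩ := resHom_surjective P r
    obtain ⟨a, b, hb, hab⟩ := exists_frac_of_val_le_one hgen hG hG0 hG' hx hP ((mem_O P).1 hy)
    refine ⟨ev2k x₀ z₀ a / ev2k x₀ z₀ b, ?_⟩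
    refine (Algebra.algebraMap_eq_smul_one (A := IsLocalRing.ResidueField P.O) (ev2k x₀ z₀ a / ev2k x₀ z₀ b)).symm.trans ?_
    rw [← AlgHom.commutes (resHom P), eq_comm, ← sub_eq_zero, ← map_sub, resHom_eq_zero_iff]
    show P.1 (y - algebraMap k K _) < 1
    have hb1 := hP.val_eq_one hb
    have hb0 : ev2 x z b ≠ 0 := fun h => by rw [h, map_zero] at hb1; exact zero_ne_one hb1
    have hbk : algebraMap k K (ev2k x₀ z₀ b) ≠ 0 := by
      rw [_root_.map_ne_zero]; exact hb
    rw [hab, map_div₀, div_sub_div _ _ hb0 hbk, map_div₀, map_mul, hb1, one_mul, val_const P hb, div_one]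
    have h := hP.val_sub_lt (a * C (C (ev2k x₀ z₀ b)) - b * C (C (ev2k x₀ z₀ a)))
    have h0 : ev2k x₀ z₀ (a * C (C (ev2k x₀ z₀ b)) - b * C (C (ev2k x₀ z₀ a))) = 0 := by
      simp [ev2k]
      ring
    rw [h0, map_zero, sub_zero] at h
    simpa [ev2_CC] using h
  exact finrank_eq_one (1 : IsLocalRing.ResidueField P.O) one_ne_zero hsurj

/-- Constants at a place of degree one. -/
theorem exists_residue {P : Place k K} (hP : P.deg = 1) {y : K} (hy : P.1 y ≤ 1) :
    ∃ c : k, P.1 (y - algebraMap k K c) < 1 := by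
  have h := (finrank_eq_one_iff_of_nonzero' (1 : IsLocalRing.ResidueField P.O) one_ne_zero).1 hP
    (resHom P ⟨y, (mem_O P).2 hy⟩)
  obtain ⟨c, hc⟩ := h
  refine ⟨c, ?_⟩
  have hc' : resHom P (⟨y, (mem_O P).2 hy⟩ - algebraMap k P.O c) = 0 := by
    rw [map_sub, AlgHom.commutes, sub_eq_zero, ← hc]
    exact (Algebra.algebraMap_eq_smul_one c).symm
  exact (resHom_eq_zero_iff P).1 hc'

theorem residue_unique (P : Place k K) {y : K} {c c' : k} (h : P.1 (y - algebraMap k K c) < 1)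
    (h' : P.1 (y - algebraMap k K c') < 1) : c = c' := by
  by_contra hne
  have h1 : P.1 (algebraMap k K (c - c')) < 1 := by
    rw [show algebraMap k K (c - c') = (y - algebraMap k K c') + -(y - algebraMap k K c) by rw [map_sub]; ring]
    exact val_sum_lt P h' (by rwa [Valuation.map_neg])
  rw [val_const P (sub_ne_zero.2 hne)] at h1
  exact lt_irrefl _ h1

/-- A place over a point. -/
theorem exists_centred (hK : IsFF k K) (hker : ∀ W, ev2 (k := k) x z W = 0 → ev2k x₀ z₀ W = 0)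
    (hx : x ≠ algebraMap k K x₀) : ∃ P : Place k K, IsCentred P x z x₀ z₀ := by
  let A : Subring K := (ev2 (k := k) x z).range
  let r : Polynomial (Polynomial k) →+* A := (ev2 (k := k) x z).rangeRestrict
  let I : Ideal A := (RingHom.ker (ev2k x₀ z₀)).map r
  have hI : I ≠ ⊤ := by
    intro h
    obtain ⟨W, hW, hW1⟩ := (Ideal.mem_map_iff_of_surjective r (ev2 (k := k) x z).rangeRestrict_surjective).1
      ((Ideal.eq_top_iff_one I).1 h)
    have := hker (W - 1) (by rw [map_sub, map_one]; exact sub_eq_zero.2 (congrArg Subtype.val hW1))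
    rw [map_sub, map_one, RingHom.mem_ker.1 hW, zero_sub, neg_eq_zero] at this
    exact one_ne_zero this
  obtain ⟨B, hB, hI'⟩ := Ideal.image_subset_nonunits_valuationSubring I hI
  have hkB : ∀ c : k, algebraMap k K c ∈ B := fun c => hB ⟨C (C c), ev2_CC x z c⟩
  have hmem : ∀ W, ev2k x₀ z₀ W = 0 → ev2 x z W ∈ B.nonunits := fun W hW =>
    hI' ⟨r W, Ideal.mem_map_of_mem r hW, rfl⟩
  have h1 := hmem (C (X - C x₀)) (by simp [ev2k])
  have hπ0 : x - algebraMap k K x₀ ≠ 0 := sub_ne_zero.2 hx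
  simp only [map_sub, ev2_CX, ev2_CC] at h1
  have hne : B ≠ ⊤ := by
    rintro rfl
    rw [ValuationSubring.mem_nonunits_iff_or] at h1
    exact h1.elim hπ0 fun h => h trivial
  obtain ⟨P, hP⟩ := exists_place_O_eq hK B hkB hne
  have hlt : ∀ y ∈ B.nonunits, P.1 y < 1 := fun y hy => by
    refine not_le.1 fun h => ?_
    rw [ValuationSubring.mem_nonunits_iff_or, ← hP] at hy
    refine hy.elim (fun h' => ?_) fun h' => h' ((mem_O P).2 ?_)
    · rw [h', map_zero] at h
      exact not_lt.2 h zero_lt_one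
    · rw [map_inv₀]
      exact inv_le_one_of_one_le₀ h
  refine ⟨P, hlt _ h1, ?_⟩
  have h2 := hlt _ (hmem (X - C (C z₀)) (by simp [ev2k]))
  simpa [ev2_X, ev2_CC] using h2

end Groth.Agent.LangWeil
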