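import Groth.Agent.LangWeil.Count
import Groth.Agent.LangWeil.Birational
import Mathlib.FieldTheory.SeparablyGenerated
import Mathlib.FieldTheory.PrimitiveElement
import Mathlib.RingTheory.AlgebraicIndependent.Adjoin

/-!
# Points of affine varieties over finite fields
-/

set_option autoImplicit false
set_option linter.style.haveILetI false

noncomputable section

open Polynomial

namespace Groth.Agent.LangWeil

universe u

variable {k : Type u} [Field k] [Finite k]

/-- Data of a separable hypersurface model of a finitely generated field extension. -/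
theorem exists_field_model (k : Type u) [Field k] [PerfectField k] (L : Type u) [Field L] [Algebra k L]
    [Algebra.EssFiniteType k L] :
    ∃ (τ : Type u) (_ : Fintype τ) (t : τ → L) (z : L) (g : Polynomial (MvPolynomial τ k)),
      (Fintype.card τ : Cardinal) = Algebra.trdeg k L ∧
        Function.Injective (MvPolynomial.aeval (R := k) t) ∧ g.Monic ∧ Irreducible g ∧ derivative g ≠ 0 ∧
        (∀ q, q.eval₂ (MvPolynomial.aeval t).toRingHom z = 0 ↔ g ∣ q) ∧
        (∀ x, ∃ a b : Polynomial (MvPolynomial τ k), b.eval₂ (MvPolynomial.aeval t).toRingHom z ≠ 0 ∧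
          x = a.eval₂ (MvPolynomial.aeval t).toRingHom z / b.eval₂ (MvPolynomial.aeval t).toRingHom z) := by
  classical
  obtain ⟨s, hs, hsep⟩ := exists_isTranscendenceBasis_and_isSeparable_of_perfectField k L
  let τ := ↥s
  let t : τ → L := Subtype.val
  have hcard : (Fintype.card τ : Cardinal) = Algebra.trdeg k L := by
    rw [← Cardinal.mk_fintype]
    exact hs.cardinalMk_eq_trdeg
  let P := MvPolynomial τ k
  let K₀ := FractionRing P
  have hψ : Function.Injective (MvPolynomial.aeval (R := k) t) := hs.1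
  letI : Algebra P L := (MvPolynomial.aeval (R := k) t).toRingHom.toAlgebra
  haveI : FaithfulSMul P L := (faithfulSMul_iff_algebraMap_injective P L).2 hψ
  letI : Algebra K₀ L := (IsFractionRing.lift (g := algebraMap P L) hψ).toAlgebra
  haveI : IsScalarTower P K₀ L :=
    IsScalarTower.of_algebraMap_eq fun x => (IsFractionRing.lift_algebraMap hψ x).symm
  haveI : IsScalarTower k P L := IsScalarTower.of_algebraMap_eq fun x => (MvPolynomial.aeval_C t x).symm
  haveI : IsScalarTower k K₀ L := IsScalarTower.of_algebraMap_eq fun x => by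
    rw [IsScalarTower.algebraMap_apply k P L, IsScalarTower.algebraMap_apply k P K₀,
      IsScalarTower.algebraMap_apply P K₀ L]
  set E := IntermediateField.adjoin k (s : Set L)
  have hE : ∀ x ∈ E, x ∈ Set.range (algebraMap K₀ L) := by
    intro x hx
    have h : E ≤ (IsScalarTower.toAlgHom k K₀ L).fieldRange := IntermediateField.adjoin_le_iff.2 fun y hy =>
      ⟨algebraMap P K₀ (MvPolynomial.X ⟨y, hy⟩), by
        show algebraMap K₀ L (algebraMap P K₀ _) = y
        rw [← IsScalarTower.algebraMap_apply]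
        exact MvPolynomial.aeval_X t _⟩
    exact h hx
  have hsepx : ∀ x : L, IsIntegral K₀ x ∧ IsSeparable K₀ x := by
    intro x
    have h0 := Algebra.IsSeparable.isSeparable E x
    set p := minpoly E x
    have hl : p.map (algebraMap E L) ∈ lifts (algebraMap K₀ L) :=
      (lifts_iff_coeff_lifts _).2 fun i => by rw [coeff_map]; exact hE _ (p.coeff i).2
    obtain ⟨q, hq, -, hqm⟩ :=
      lifts_and_degree_eq_and_monic hl ((minpoly.monic (Algebra.IsSeparable.isIntegral E x)).map _)
    have hqx : aeval x q = 0 := by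
      rw [aeval_def, ← eval_map, hq, eval_map, ← aeval_def, minpoly.aeval]
    have hqs : q.Separable := by
      rw [← separable_map (algebraMap K₀ L), hq, separable_map]
      exact h0
    exact ⟨⟨q, hqm, by rw [← aeval_def]; exact hqx⟩, hqs.of_dvd (minpoly.dvd K₀ x hqx)⟩
  haveI : Algebra.IsSeparable K₀ L := ⟨fun x => (hsepx x).2⟩
  haveI : Algebra.EssFiniteType K₀ L := Algebra.EssFiniteType.of_comp k K₀ L
  haveI : Algebra.IsAlgebraic K₀ L := ⟨fun x => (hsepx x).1.isAlgebraic⟩
  haveI : Module.Finite K₀ L := Algebra.finite_of_essFiniteType_of_isAlgebraic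
  obtain ⟨z₀, hz₀⟩ := Field.exists_primitive_element K₀ L
  haveI : Algebra.IsAlgebraic P L :=
    ⟨fun x => (IsFractionRing.isAlgebraic_iff P K₀ L).2 (Algebra.IsAlgebraic.isAlgebraic x)⟩
  obtain ⟨y, hy0, hint⟩ := (Algebra.IsAlgebraic.isAlgebraic (R := P) z₀).exists_integral_multiple
  set z := y • z₀
  let g := minpoly P z
  have hgm : g.Monic := minpoly.monic hint
  have hgK := minpoly.isIntegrallyClosed_eq_field_fractions' K₀ hint
  have hev : ∀ q : Polynomial P, q.eval₂ (MvPolynomial.aeval (R := k) t).toRingHom z = aeval z q := fun q => rfl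
  refine ⟨τ, inferInstance, t, z, g, hcard, hψ, hgm, minpoly.irreducible hint, ?_, fun q => ?_, fun x => ?_⟩
  · intro h
    have h1 : (minpoly K₀ z).Separable := Algebra.IsSeparable.isSeparable K₀ z
    rw [hgK] at h1
    have h2 : derivative (g.map (algebraMap P K₀)) = 0 := by rw [derivative_map, h, Polynomial.map_zero]
    have hirr := minpoly.irreducible (hint.tower_top (A := K₀))
    rw [hgK] at hirr
    exact (separable_iff_derivative_ne_zero hirr).1 h1 h2
  · rw [hev]
    exact ⟨fun h => minpoly.isIntegrallyClosed_dvd hint h,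
      fun ⟨c, hc⟩ => by rw [hc, map_mul, minpoly.aeval, zero_mul]⟩
  · have htop : IntermediateField.adjoin K₀ ({z} : Set L) = ⊤ := by
      refine eq_top_iff.2 (hz₀ ▸ IntermediateField.adjoin_simple_le_iff.2 ?_)
      have hy : algebraMap P L y ≠ 0 := fun h => hy0 (hψ (h.trans (map_zero _).symm))
      have : z₀ = (algebraMap K₀ L (algebraMap P K₀ y))⁻¹ * z := by
        rw [← IsScalarTower.algebraMap_apply, show z = algebraMap P L y * z₀ from Algebra.smul_def y z₀,
          inv_mul_cancel_left₀ hy]
      rw [this]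
      exact mul_mem (inv_mem (IntermediateField.algebraMap_mem _ _)) (IntermediateField.mem_adjoin_simple_self K₀ z)
    have hx : x ∈ Algebra.adjoin K₀ ({z} : Set L) := by
      rw [← IntermediateField.adjoin_simple_toSubalgebra_of_isAlgebraic (Algebra.IsAlgebraic.isAlgebraic z), htop]
      trivial
    rw [Algebra.adjoin_singleton_eq_range_aeval] at hx
    obtain ⟨q, rfl⟩ := hx
    obtain ⟨b, hb, hbq⟩ := IsLocalization.integerNormalization_spec (nonZeroDivisors P) q
    have hb0 : algebraMap P L b ≠ 0 := fun h => nonZeroDivisors.ne_zero hb (hψ (h.trans (map_zero _).symm))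
    refine ⟨IsLocalization.integerNormalization (nonZeroDivisors P) q, C b, ?_, ?_⟩
    · rw [hev, aeval_C]; exact hb0
    · rw [hev, hev, aeval_C, eq_div_iff hb0, ← aeval_map_algebraMap K₀, hbq, Algebra.smul_def, map_mul,
        mul_comm]
      congr 1
      rw [show algebraMap P (Polynomial K₀) b = C (algebraMap P K₀ b) from rfl, aeval_C,
        ← IsScalarTower.algebraMap_apply]

/-- Data of a separable hypersurface model. -/
theorem exists_model {A : Type u} [CommRing A] [IsDomain A] [Algebra k A] [Algebra.FiniteType k A] {r : ℕ}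
    (hr : ringKrullDim A = r) :
    ∃ (τ : Type u) (_ : Fintype τ) (t : τ → FractionRing A) (z : FractionRing A)
      (g : Polynomial (MvPolynomial τ k)), Fintype.card τ = r ∧
        Function.Injective (MvPolynomial.aeval (R := k) t) ∧ g.Monic ∧ Irreducible g ∧ derivative g ≠ 0 ∧
        (∀ q, q.eval₂ (MvPolynomial.aeval t).toRingHom z = 0 ↔ g ∣ q) ∧
        (∀ x, ∃ a b : Polynomial (MvPolynomial τ k), b.eval₂ (MvPolynomial.aeval t).toRingHom z ≠ 0 ∧
          x = a.eval₂ (MvPolynomial.aeval t).toRingHom z / b.eval₂ (MvPolynomial.aeval t).toRingHom z) := by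
  haveI : Algebra.EssFiniteType A (FractionRing A) :=
    Algebra.EssFiniteType.of_isLocalization (FractionRing A) (nonZeroDivisors A)
  haveI : Algebra.EssFiniteType k (FractionRing A) := Algebra.EssFiniteType.comp k A (FractionRing A)
  haveI : PerfectField k := PerfectField.ofFinite
  obtain ⟨τ, hτ, t, z, g, hcard, hrest⟩ := exists_field_model k (FractionRing A)
  haveI : Algebra.IsAlgebraic A (FractionRing A) :=
    IsLocalization.isAlgebraic (R := A) (S := FractionRing A) (nonZeroDivisors A)
  haveI : FaithfulSMul A (FractionRing A) :=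
    (faithfulSMul_iff_algebraMap_injective A _).2 (IsFractionRing.injective A _)
  refine ⟨τ, hτ, t, z, g, ?_, hrest⟩
  rw [← trdeg_add_eq k A (A := FractionRing A), trdeg_eq_zero (R := A) (A := FractionRing A), add_zero,
    VarDim.trdeg_eq_of_ringKrullDim_eq k A hr] at hcard
  exact_mod_cast hcard

/-- An affine variety whose constant field is exact has about `Q^r` points. -/
theorem exists_count_of_closed {A : Type u} [CommRing A] [IsDomain A] [Algebra k A] [Algebra.FiniteType k A]
    {r : ℕ} (hr : ringKrullDim A = r)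
    (hclosed : ∀ a : FractionRing A, IsAlgebraic k a → a ∈ Set.range (algebraMap k (FractionRing A))) :
    ∃ C' : ℝ, 0 ≤ C' ∧ ∀ (F : Type u) [Field F] [Finite F] [Algebra k F],
      |(Nat.card (A →ₐ[k] F) : ℝ) - (Nat.card F : ℝ) ^ r| ≤ C' * (Nat.card F : ℝ) ^ r / Real.sqrt (Nat.card F) := by
  classical
  cases r with
  | zero =>
    haveI : Ring.KrullDimLE 0 A := Ring.krullDimLE_iff.2 (by rw [hr])
    have hA : IsField A := Ring.KrullDimLE.isField_of_isDomain
    letI := hA.toField
    haveI : Module.Finite k A := finite_of_finite_type_of_isJacobsonRing k A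
    have hb : Function.Bijective (algebraMap k A) := by
      refine ⟨(algebraMap k A).injective, fun a => ?_⟩
      obtain ⟨c, hc⟩ := hclosed (algebraMap A (FractionRing A) a)
        ((Algebra.IsAlgebraic.isAlgebraic a).algebraMap)
      exact ⟨c, IsFractionRing.injective A (FractionRing A)
        (by rw [← hc, ← IsScalarTower.algebraMap_apply])⟩
    let e : k ≃ₐ[k] A := AlgEquiv.ofBijective (Algebra.ofId k A) hb
    refine ⟨0, le_rfl, fun F _ _ _ => ?_⟩
    rw [Nat.card_congr (AlgEquiv.arrowCongr e.symm (AlgEquiv.refl (R := k) (A₁ := F))), Nat.card_unique]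
    simp
  | succ n =>
    obtain ⟨τ, _, t, z, g, hcard, hψ, hgm, hirr, hsep, hker, hgen⟩ := exists_model (k := k) hr
    let e : Option (Fin n) ≃ τ := Fintype.equivOfCardEq (by simp [hcard])
    set ρ : MvPolynomial τ k ≃ₐ[k] MvPolynomial (Option (Fin n)) k := MvPolynomial.renameEquiv k e.symm
    let g' := g.map ρ.toAlgHom.toRingHom
    have hg'm : g'.Monic := hgm.map _
    have hρi : Function.Injective ρ.toAlgHom.toRingHom := ρ.injective
    let t' := t ∘ e
    have hev : ∀ q : Polynomial (MvPolynomial τ k),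
        (q.map ρ.toAlgHom.toRingHom).eval₂ (MvPolynomial.aeval (R := k) t').toRingHom z =
          q.eval₂ (MvPolynomial.aeval (R := k) t).toRingHom z := fun q => by
      rw [eval₂_map]
      congr 1
      refine MvPolynomial.ringHom_ext (fun c => ?_) fun i => ?_ <;> simp [ρ, t']
    have hsurj : ∀ q' : Polynomial (MvPolynomial (Option (Fin n)) k), ∃ q : Polynomial (MvPolynomial τ k),
        q.map ρ.toAlgHom.toRingHom = q' := fun q' => map_surjective _ ρ.surjective q'
    have hψ' : Function.Injective (MvPolynomial.aeval (R := k) t') := by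
      have : (MvPolynomial.aeval (R := k) t') = (MvPolynomial.aeval t).comp ρ.symm.toAlgHom := by
        ext i; simp [ρ, t']
      rw [this]
      exact hψ.comp ρ.symm.injective
    have hirr' : Irreducible g' :=
      (MulEquiv.irreducible_iff (Polynomial.mapEquiv ρ.toRingEquiv).toMulEquiv).2 hirr
    have hsep' : derivative g' ≠ 0 := by
      rw [derivative_map, Ne, Polynomial.map_eq_zero_iff hρi]; exact hsep
    have hz : g'.eval₂ (MvPolynomial.aeval (R := k) t').toRingHom z = 0 := by
      rw [hev]; exact (hker g).2 dvd_rfl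
    have habs : Irreducible (g'.map (MvPolynomial.map
        (algebraMap k (AlgebraicClosure (FractionRing k))))) :=
      irreducible_map_of_algClosed' (algebraMap k (AlgebraicClosure k)) _ g'
        (irreducible_algClosure (K := AlgebraicClosure k) hg'm hirr' hsep' (MvPolynomial.aeval t') hψ' z hz hclosed)
    obtain ⟨C₁, h₀, hC₁, hh₀, hcount⟩ := exists_count_bound.{u} g' hg'm hsep' habs
    let B := AdjoinRoot g'
    haveI : IsDomain B := AdjoinRoot.isDomain_of_prime hirr'.prime
    let ι : B →ₐ[k] FractionRing A := AdjoinRoot.liftAlgHom g' (MvPolynomial.aeval t') z hz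
    have hιmk : ∀ q, ι (AdjoinRoot.mk g' q) = q.eval₂ (MvPolynomial.aeval (R := k) t').toRingHom z :=
      fun q => AdjoinRoot.liftAlgHom_mk _ _ _ _ _
    have hι : Function.Injective ι := by
      refine (injective_iff_map_eq_zero _).2 fun b hb => ?_
      obtain ⟨q', rfl⟩ := AdjoinRoot.mk_surjective b
      obtain ⟨q, rfl⟩ := hsurj q'
      rw [hιmk, hev] at hb
      exact AdjoinRoot.mk_eq_zero.2 (Polynomial.map_dvd _ ((hker q).1 hb))
    have hιF : ∀ x, ∃ a b : B, ι b ≠ 0 ∧ x = ι a / ι b := fun x => by
      obtain ⟨a, b, hb, rfl⟩ := hgen x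
      exact ⟨AdjoinRoot.mk g' (a.map _), AdjoinRoot.mk g' (b.map _),
        by rw [hιmk, hev]; exact hb, by rw [hιmk, hιmk, hev, hev]⟩
    have hAF : ∀ x : FractionRing A, ∃ a b : A, IsScalarTower.toAlgHom k A (FractionRing A) b ≠ 0 ∧
        x = IsScalarTower.toAlgHom k A (FractionRing A) a / IsScalarTower.toAlgHom k A (FractionRing A) b := by
      intro x
      obtain ⟨a, b, hb, rfl⟩ := IsFractionRing.div_surjective (A := A) x
      exact ⟨a, b, (map_ne_zero_iff _ (IsFractionRing.injective A _)).2 (nonZeroDivisors.ne_zero hb), rfl⟩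
    haveI : Algebra.FiniteType k B := Algebra.FiniteType.trans
      (S := MvPolynomial (Option (Fin n)) k) inferInstance inferInstance
    have hBdim : ringKrullDim B ≤ (n + 1 : ℕ) := by
      haveI : Module.Finite (MvPolynomial (Option (Fin n)) k) B := hg'm.finite_adjoinRoot
      haveI : FaithfulSMul (MvPolynomial (Option (Fin n)) k) B := (faithfulSMul_iff_algebraMap_injective _ _).2
        (AdjoinRoot.of.injective_of_degree_ne_zero (by
          rw [degree_eq_natDegree hg'm.ne_zero, Nat.cast_ne_zero]
          intro h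
          exact hirr'.not_isUnit (by rw [hg'm.natDegree_eq_zero.1 h]; exact isUnit_one)))
      rw [VarDim.ringKrullDim_eq_of_isIntegral (R := MvPolynomial (Option (Fin n)) k) (S := B),
        MvPolynomial.ringKrullDim_of_isNoetherianRing, ringKrullDim_eq_zero_of_field]
      simp
    obtain ⟨c, hc⟩ := exists_card_compare (k := k) (IsScalarTower.toAlgHom k A (FractionRing A))
      (IsFractionRing.injective A _) ι hι hAF hιF hr.le hBdim
    refine ⟨C₁ + c, by positivity, fun F _ _ _ => ?_⟩
    have hz' := hcount F (algebraMap k F) ((_root_.map_ne_zero _).2 hh₀)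
    have hev' : ∀ (φ : B →ₐ[k] F) (q : Polynomial (MvPolynomial (Option (Fin n)) k)),
        φ (AdjoinRoot.mk g' q) = q.eval₂ (MvPolynomial.eval₂Hom (algebraMap k F)
          fun i => φ (AdjoinRoot.of g' (MvPolynomial.X i))) (φ (AdjoinRoot.root g')) := by
      intro φ q
      have : φ.toRingHom.comp (AdjoinRoot.mk g') = eval₂RingHom (MvPolynomial.eval₂Hom (algebraMap k F)
          fun i => φ (AdjoinRoot.of g' (MvPolynomial.X i))) (φ (AdjoinRoot.root g')) := by
        refine Polynomial.ringHom_ext (fun p => ?_) (by rw [RingHom.comp_apply, AdjoinRoot.mk_X]; simp)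
        simp only [RingHom.comp_apply, AdjoinRoot.mk_C, coe_eval₂RingHom, eval₂_C]
        refine RingHom.congr_fun (MvPolynomial.ringHom_ext (f := φ.toRingHom.comp (AdjoinRoot.of g'))
          (fun r => ?_) fun i => by simp) p
        rw [RingHom.comp_apply, MvPolynomial.eval₂Hom_C]
        exact φ.commutes r
      exact RingHom.congr_fun this q
    have hB : Nat.card (B →ₐ[k] F) = Nat.card {p : (Option (Fin n) → F) × F //
        g'.eval₂ (MvPolynomial.eval₂Hom (algebraMap k F) p.1) p.2 = 0} := by
      refine Nat.card_congr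
        { toFun := fun φ => ⟨(fun i => φ (AdjoinRoot.of g' (MvPolynomial.X i)), φ (AdjoinRoot.root g')),
            by rw [← hev', AdjoinRoot.mk_self, map_zero]⟩
          invFun := fun p => AdjoinRoot.liftAlgHom g' (MvPolynomial.aeval p.1.1) p.1.2 p.2
          left_inv := fun φ => AlgHom.ext fun b => ?_
          right_inv := fun p => Subtype.ext (Prod.ext (funext fun i => ?_) ?_) }
      · obtain ⟨q, rfl⟩ := AdjoinRoot.mk_surjective b
        rw [AdjoinRoot.liftAlgHom_mk, hev']
        rfl
      · exact (AdjoinRoot.liftAlgHom_of _ _ _ _ _).trans (MvPolynomial.aeval_X _ _)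
      · exact AdjoinRoot.liftAlgHom_root _ _ _ _
    rw [← hB, Fintype.card_fin] at hz'
    obtain ⟨c1, c2⟩ := hc F
    have c1' : (Nat.card (A →ₐ[k] F) : ℝ) ≤ Nat.card (B →ₐ[k] F) + c * (Nat.card F : ℝ) ^ n := by exact_mod_cast c1
    have c2' : (Nat.card (B →ₐ[k] F) : ℝ) ≤ Nat.card (A →ₐ[k] F) + c * (Nat.card F : ℝ) ^ n := by exact_mod_cast c2
    set Q := (Nat.card F : ℝ)
    have hQ : 1 ≤ Q := Nat.one_le_cast.2 Nat.card_pos
    have hsq : 1 ≤ Real.sqrt Q := Real.one_le_sqrt.2 hQ
    have hmul : Real.sqrt Q * Real.sqrt Q = Q := Real.mul_self_sqrt (by linarith)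
    have he : (C₁ + c) * Q ^ (n + 1) / Real.sqrt Q = (C₁ + c) * (Q ^ n * Real.sqrt Q) := by
      rw [div_eq_iff (by positivity), mul_assoc, mul_assoc, hmul, pow_succ]
    rw [he, abs_le]
    rw [abs_le] at hz'
    have hc0 : (c : ℝ) * Q ^ n ≤ c * (Q ^ n * Real.sqrt Q) :=
      mul_le_mul_of_nonneg_left (le_mul_of_one_le_right (by positivity) hsq) (Nat.cast_nonneg _)
    constructor <;> nlinarith

/-- An affine variety containing the algebraic closure `k'` of the constants has about `m Q^r` points. -/
theorem exists_count_of_constants {k' : Type u} [Field k'] [Finite k'] [Algebra k k'] {A : Type u} [CommRing A]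
    [IsDomain A] [Algebra k A] [Algebra k' A] [IsScalarTower k k' A] [Algebra.FiniteType k A] {r : ℕ}
    (hr : ringKrullDim A = r)
    (hclosed : ∀ a : FractionRing A, IsAlgebraic k' a → a ∈ Set.range (algebraMap k' (FractionRing A))) :
    ∃ C' : ℝ, 0 ≤ C' ∧ ∀ (F : Type u) [Field F] [Finite F] [Algebra k F],
      (Module.finrank k k' ∣ Module.finrank k F →
        |(Nat.card (A →ₐ[k] F) : ℝ) - Module.finrank k k' * (Nat.card F : ℝ) ^ r| ≤
          C' * (Nat.card F : ℝ) ^ r / Real.sqrt (Nat.card F)) ∧
      (¬ Module.finrank k k' ∣ Module.finrank k F → Nat.card (A →ₐ[k] F) = 0) := by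
  classical
  haveI : Algebra.FiniteType k' A := Algebra.FiniteType.of_restrictScalars_finiteType k k' A
  obtain ⟨C, hC0, hC⟩ := exists_count_of_closed (k := k') hr hclosed
  obtain ⟨c₀, hc₀⟩ := ZetaLib.exists_const_card_algHom_le.{u, u, u} k A (hr.le)
  refine ⟨Module.finrank k k' * C, by positivity, fun F _ _ _ => ?_⟩
  refine ⟨fun hdvd => ?_, fun hndvd => ?_⟩
  · haveI := (hc₀ F).1
    let ι := IsScalarTower.toAlgHom k k' A
    haveI : Finite (k' →ₐ[k] F) := Finite.of_injective (fun σ => (σ : k' → F)) DFunLike.coe_injective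
    haveI := Fintype.ofFinite (k' →ₐ[k] F)
    have hfib : ∀ σ : k' →ₐ[k] F,
        |(Nat.card {φ : A →ₐ[k] F // φ.comp ι = σ} : ℝ) - (Nat.card F : ℝ) ^ r| ≤
          C * (Nat.card F : ℝ) ^ r / Real.sqrt (Nat.card F) := by
      intro σ
      letI : Algebra k' F := σ.toRingHom.toAlgebra
      haveI : IsScalarTower k k' F := IsScalarTower.of_algebraMap_eq fun x => (σ.commutes x).symm
      rw [Nat.card_congr (α := {φ : A →ₐ[k] F // φ.comp ι = σ}) (β := A →ₐ[k'] F)
        { toFun := fun φ => { φ.1 with commutes' := fun x => AlgHom.congr_fun φ.2 x }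
          invFun := fun φ => ⟨φ.restrictScalars k, AlgHom.ext fun x => φ.commutes x⟩
          left_inv := fun φ => rfl
          right_inv := fun φ => rfl }]
      exact hC F
    have hsum : Nat.card (A →ₐ[k] F) = ∑ σ, Nat.card {φ : A →ₐ[k] F // φ.comp ι = σ} := by
      rw [← Nat.card_sigma]
      exact Nat.card_congr (Equiv.sigmaFiberEquiv fun φ : A →ₐ[k] F => φ.comp ι).symm
    have hm : (Fintype.card (k' →ₐ[k] F) : ℝ) = Module.finrank k k' := by
      rw [← Nat.card_eq_fintype_card, FiniteField.natCard_algHom_of_finrank_dvd hdvd]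
    rw [hsum, ← hm, Nat.cast_sum, show (Fintype.card (k' →ₐ[k] F) : ℝ) * (Nat.card F : ℝ) ^ r =
      ∑ _σ : k' →ₐ[k] F, (Nat.card F : ℝ) ^ r by simp, ← Finset.sum_sub_distrib]
    refine (Finset.abs_sum_le_sum_abs _ _).trans ((Finset.sum_le_sum fun σ _ => hfib σ).trans (le_of_eq ?_))
    rw [Finset.sum_const, Finset.card_univ, nsmul_eq_mul]
    ring
  · rw [Nat.card_eq_zero]
    exact Or.inl ⟨fun φ => hndvd (FiniteField.nonempty_algHom_iff_finrank_dvd.1
      ⟨φ.comp (IsScalarTower.toAlgHom k k' A)⟩)⟩

end Groth.Agent.LangWeil
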