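import Mathlib.NumberTheory.NumberField.Ideal.Asymptotics
import Groth.Agent.ZetaLib.EulerDirichlet
import Mathlib.Analysis.PSeries

/-!
# There are many primes of degree one
-/

set_option autoImplicit false
set_option linter.style.haveILetI false

noncomputable section

open NumberField Filter Topology Ideal UniqueFactorizationMonoid

namespace Groth.Agent.LangWeil

variable (K : Type*) [Field K] [NumberField K]

attribute [local instance] Classical.decEq

/-- The nonzero primes. -/
abbrev PrimeId := {P : Ideal (𝓞 K) // P.IsPrime ∧ P ≠ ⊥}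

theorem two_le_absNorm (P : PrimeId K) : 2 ≤ absNorm P.1 := by
  have h0 : absNorm P.1 ≠ 0 := fun h => P.2.2 (absNorm_eq_zero_iff.1 h)
  have h1 : absNorm P.1 ≠ 1 := fun h => P.2.1.ne_top (absNorm_eq_one_iff.1 h)
  omega

/-- A prime ideal lies over a prime number. -/
theorem exists_prime_pow (P : PrimeId K) :
    ∃ p f : ℕ, p.Prime ∧ 0 < f ∧ (p : 𝓞 K) ∈ P.1 ∧ absNorm P.1 = p ^ f := by
  haveI : P.1.IsMaximal := P.2.1.isMaximal P.2.2
  letI := Ideal.Quotient.field P.1
  have hcard : absNorm P.1 = Nat.card (𝓞 K ⧸ P.1) := (absNorm_apply P.1).trans (Submodule.cardQuot_apply _)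
  haveI : Finite (𝓞 K ⧸ P.1) := Nat.finite_of_card_ne_zero (by have := two_le_absNorm K P; omega)
  letI := Fintype.ofFinite (𝓞 K ⧸ P.1)
  obtain ⟨p, hp⟩ := CharP.exists (𝓞 K ⧸ P.1)
  obtain ⟨f, hpp, hf⟩ := FiniteField.card (𝓞 K ⧸ P.1) p
  refine ⟨p, f, hpp, f.2, ?_, by rw [hcard, Nat.card_eq_fintype_card, hf]⟩
  rw [← Ideal.Quotient.eq_zero_iff_mem, map_natCast, CharP.cast_eq_zero]

theorem card_primes_over_le {p : ℕ} (hp : p.Prime) (s : Finset (PrimeId K))
    (hs : ∀ P ∈ s, (p : 𝓞 K) ∈ P.1) : s.card ≤ Module.finrank ℤ (𝓞 K) := by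
  have hdvd : (∏ P ∈ s.image Subtype.val, P) ∣ Ideal.span {(p : 𝓞 K)} := by
    refine Finset.prod_primes_dvd _ (fun P hP => ?_) fun P hP => ?_
    · obtain ⟨P, -, rfl⟩ := Finset.mem_image.1 hP
      exact Ideal.prime_of_isPrime P.2.2 P.2.1
    · obtain ⟨P, hP', rfl⟩ := Finset.mem_image.1 hP
      exact Ideal.dvd_iff_le.2 (Ideal.span_le.2 (Set.singleton_subset_iff.2 (hs P hP')))
  have h := map_dvd absNorm hdvd
  rw [map_prod, Finset.prod_image Subtype.val_injective.injOn, absNorm_span_singleton,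
    show (p : 𝓞 K) = algebraMap ℤ (𝓞 K) (p : ℤ) by simp, Algebra.norm_algebraMap, Int.natAbs_pow,
    Int.natAbs_natCast] at h
  have hle : ∏ _P ∈ s, p ∣ ∏ P ∈ s, absNorm P.1 := Finset.prod_dvd_prod_of_dvd _ _ fun P hP => by
    obtain ⟨l, f, hl, hf, hlP, hN⟩ := exists_prime_pow K P
    suffices l = p by subst this; rw [hN]; exact dvd_pow_self _ hf.ne'
    by_contra hne
    have hc : Nat.gcd l p = 1 := (Nat.coprime_primes hl hp).2 hne
    have h1 : ((1 : ℕ) : 𝓞 K) ∈ P.1 := by
      have hb := Nat.gcd_eq_gcd_ab l p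
      rw [hc] at hb
      have h2 := congrArg (Int.cast : ℤ → 𝓞 K) hb
      push_cast at h2
      rw [Nat.cast_one, h2]
      exact P.1.add_mem (P.1.mul_mem_right _ hlP) (P.1.mul_mem_right _ (hs P hP))
    exact P.2.1.ne_top ((Ideal.eq_top_iff_one _).2 (by simpa using h1))
  rw [Finset.prod_const] at hle
  exact (Nat.pow_dvd_pow_iff_le_right hp.one_lt).1 (hle.trans h)

theorem not_summable_prime_ideals {σ : ℝ} (hσ0 : 0 < σ) (hσ : σ < 1) :
    ¬ Summable fun P : PrimeId K => (absNorm P.1 : ℝ) ^ (-σ) := by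
  intro hs
  let z : PrimeId K → ℂ := fun P => (((absNorm P.1 : ℝ) ^ (-σ) : ℝ) : ℂ)
  have hnorm : ∀ P, ‖z P‖ = (absNorm P.1 : ℝ) ^ (-σ) := fun P => by
    rw [Complex.norm_real, Real.norm_of_nonneg (Real.rpow_nonneg (Nat.cast_nonneg _) _)]
  have hδ : (2 : ℝ) ^ (-σ) < 1 := Real.rpow_lt_one_of_one_lt_of_neg (by norm_num) (by linarith)
  have hz : ∀ P, ‖z P‖ ≤ (2 : ℝ) ^ (-σ) := fun P => by
    rw [hnorm]
    exact Real.rpow_le_rpow_of_nonpos (by norm_num) (by exact_mod_cast two_le_absNorm K P) (by linarith)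
  have hM : Summable fun α : PrimeId K →₀ ℕ => ‖ZetaLib.monom z α‖ :=
    ZetaLib.summable_norm_monom hδ hz (hs.congr fun P => (hnorm P).symm)
  set S := ∑' α : PrimeId K →₀ ℕ, ‖ZetaLib.monom z α‖
  -- the ideals
  let I₀ := {I : Ideal (𝓞 K) // I ≠ ⊥}
  let Φ : I₀ → (PrimeId K →₀ ℕ) := fun I =>
    (Multiset.toFinsupp (normalizedFactors I.1)).subtypeDomain fun P => P.IsPrime ∧ P ≠ ⊥
  have hsupp : ∀ I : I₀, ∀ P ∈ (Multiset.toFinsupp (normalizedFactors I.1)).support, P.IsPrime ∧ P ≠ ⊥ := by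
    intro I P hP
    rw [Multiset.toFinsupp_support, Multiset.mem_toFinset] at hP
    have := prime_of_normalized_factor P hP
    exact ⟨Ideal.isPrime_of_prime this, this.ne_zero⟩
  have hinj : Function.Injective Φ := by
    intro I J h
    have h2 : Multiset.toFinsupp (normalizedFactors I.1) = Multiset.toFinsupp (normalizedFactors J.1) := by
      ext P
      by_cases hP : P.IsPrime ∧ P ≠ ⊥
      · exact DFunLike.congr_fun h ⟨P, hP⟩
      · rw [Finsupp.notMem_support_iff.1 fun hm => hP (hsupp I P hm),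
          Finsupp.notMem_support_iff.1 fun hm => hP (hsupp J P hm)]
    refine Subtype.ext ?_
    rw [← Ideal.prod_normalizedFactors_eq_self I.2, ← Ideal.prod_normalizedFactors_eq_self J.2,
      Multiset.toFinsupp.injective h2]
  have hval : ∀ I : I₀, ‖ZetaLib.monom z (Φ I)‖ = (absNorm I.1 : ℝ) ^ (-σ) := by
    intro I
    rw [ZetaLib.monom, Finsupp.prod, norm_prod]
    simp only [norm_pow, hnorm]
    rw [← Finsupp.prod, Finsupp.prod_subtypeDomain_index
      (h := fun P m => ((absNorm P : ℝ) ^ (-σ)) ^ m) (hsupp I), Finsupp.prod, Multiset.toFinsupp_support]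
    simp only [Multiset.toFinsupp_apply]
    rw [← Finset.prod_multiset_map_count]
    conv_rhs => rw [← Ideal.prod_normalizedFactors_eq_self I.2]
    rw [map_multiset_prod, Nat.cast_multiset_prod, Multiset.map_map]
    exact Real.multiset_prod_map_rpow _ _ (fun _ _ => Nat.cast_nonneg _) _
  have hI : Summable fun I : I₀ => (absNorm I.1 : ℝ) ^ (-σ) := (hM.comp_injective hinj).congr hval
  set SI := ∑' I : I₀, (absNorm I.1 : ℝ) ^ (-σ)
  -- counting
  have hcount : ∀ x : ℝ, 1 ≤ x → (Nat.card {I : Ideal (𝓞 K) // (absNorm I : ℝ) ≤ x} : ℝ) ≤ SI * x ^ σ + 1 := by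
    intro x hx
    let A := {I : Ideal (𝓞 K) // (absNorm I : ℝ) ≤ x}
    haveI : Finite A := ((Ideal.finite_setOfPred_absNorm_le (S := 𝓞 K) ⌊x⌋₊).subset fun I hI =>
      (Nat.le_floor_iff (zero_le_one.trans hx)).2 hI).to_subtype
    haveI := Fintype.ofFinite A
    rw [Nat.card_eq_fintype_card, ← Finset.card_univ, ← Finset.card_filter_add_card_filter_not
      (p := fun I : A => I.1 ≠ ⊥), Nat.cast_add]
    refine add_le_add ?_ ?_
    · let A' := {I : A // I.1 ≠ ⊥}
      haveI : Fintype A' := Fintype.ofFinite A'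
      let s : Finset I₀ := (Finset.univ : Finset A').image fun I => (⟨I.1.1, I.2⟩ : I₀)
      have h := hI.sum_le_tsum s fun I _ => Real.rpow_nonneg (Nat.cast_nonneg _) _
      have hinj' : Function.Injective fun I : A' => (⟨I.1.1, I.2⟩ : I₀) :=
        fun a b hab => Subtype.ext (Subtype.ext (congrArg (fun J : I₀ => J.1) hab))
      have hcard : s.card = (Finset.univ.filter fun I : A => I.1 ≠ ⊥).card := by
        rw [Finset.card_image_of_injective _ hinj', Finset.card_univ, Fintype.card_subtype]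
      have h2 : (s.card : ℝ) * x ^ (-σ) ≤ ∑ I ∈ s, (absNorm I.1 : ℝ) ^ (-σ) := by
        rw [← nsmul_eq_mul]
        refine Finset.card_nsmul_le_sum _ _ _ fun I hIs => ?_
        obtain ⟨J, -, rfl⟩ := Finset.mem_image.1 hIs
        refine Real.rpow_le_rpow_of_nonpos (Nat.cast_pos.2 ?_) J.1.2 (by linarith)
        exact Nat.pos_of_ne_zero fun h => J.2 (absNorm_eq_zero_iff.1 h)
      rw [hcard, Real.rpow_neg (zero_le_one.trans hx), ← div_eq_mul_inv,
        div_le_iff₀ (Real.rpow_pos_of_pos (zero_lt_one.trans_le hx) _)] at h2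
      exact h2.trans (mul_le_mul_of_nonneg_right h (Real.rpow_nonneg (zero_le_one.trans hx) _))
    · rw [Nat.cast_le_one, Finset.card_le_one]
      intro a ha b hb
      simp only [Finset.mem_filter, not_not] at ha hb
      exact Subtype.ext (ha.2.trans hb.2.symm)
  have hlim := NumberField.Ideal.tendsto_norm_le_div_atTop K
  have hpos : 0 < (2 ^ InfinitePlace.nrRealPlaces K * (2 * Real.pi) ^ InfinitePlace.nrComplexPlaces K *
      Units.regulator K * classNumber K) / (Units.torsionOrder K * Real.sqrt |(discr K : ℝ)|) := by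
    have h1 := Units.regulator_pos K
    have h2 : (0 : ℝ) < classNumber K := Nat.cast_pos.2 (classNumber_pos K)
    have h3 : (0 : ℝ) < Units.torsionOrder K := Nat.cast_pos.2 (Units.torsionOrder_pos K)
    have h4 : 0 < Real.sqrt |(discr K : ℝ)| :=
      Real.sqrt_pos.2 (abs_pos.2 (Int.cast_ne_zero.2 (discr_ne_zero K)))
    positivity
  have hz0 : Tendsto (fun x : ℝ => SI * x ^ (σ - 1) + x⁻¹) atTop (𝓝 (SI * 0 + 0)) := by
    refine (Tendsto.const_mul SI ?_).add tendsto_inv_atTop_zero
    have := tendsto_rpow_neg_atTop (show 0 < 1 - σ by linarith)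
    rwa [neg_sub] at this
  have hle := le_of_tendsto_of_tendsto hlim hz0 (by
    filter_upwards [eventually_ge_atTop 1] with x hx
    rw [div_le_iff₀ (by linarith), add_mul, mul_assoc, ← Real.rpow_add_one (by linarith), inv_mul_cancel₀ (by linarith),
      sub_add_cancel]
    exact hcount x hx)
  rw [mul_zero, add_zero] at hle
  exact absurd hle (not_le.2 hpos)

/-- The primes `p > N₀` over which some prime has degree one are many. -/
theorem not_summable_degree_one {σ : ℝ} (hσ : σ < 1) (N₀ : ℕ) :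
    ¬ Summable fun p : {p : ℕ // p.Prime ∧ N₀ < p ∧ ∃ P : PrimeId K, absNorm P.1 = p} => (p.1 : ℝ) ^ (-σ) := by
  intro hs
  wlog h2 : 1 / 2 < σ generalizing σ
  · refine this (σ := 3 / 4) (by norm_num) ?_ (by norm_num)
    refine Summable.of_nonneg_of_le (fun p => Real.rpow_nonneg (Nat.cast_nonneg _) _) (fun p => ?_) hs
    exact Real.rpow_le_rpow_of_exponent_le (by exact_mod_cast p.2.1.one_lt.le) (by linarith)
  refine not_summable_prime_ideals K (by linarith) hσ ?_
  let S : Set ℕ := {p | p.Prime ∧ N₀ < p ∧ ∃ P : PrimeId K, absNorm P.1 = p}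
  let g : ℕ → ℝ := fun p => S.indicator (fun p => (p : ℝ) ^ (-σ)) p + (p : ℝ) ^ (-(2 * σ)) +
    Set.indicator (Set.Iic N₀) (fun _ => (1 : ℝ)) p
  have hg : Summable g := by
    refine ((summable_subtype_iff_indicator.1 hs).add (Real.summable_nat_rpow.2 (by linarith))).add ?_
    exact (summable_of_finite_support ((Set.finite_Iic N₀).subset (Function.support_subset_iff.2 fun p hp =>
      by_contra fun h => hp (Set.indicator_of_notMem h _))))
  choose p f hp hf hpP hN using exists_prime_pow K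
  have hg0 : ∀ n, 0 ≤ g n := fun n => add_nonneg (add_nonneg
    (Set.indicator_nonneg (fun n _ => Real.rpow_nonneg (Nat.cast_nonneg _) _) _)
    (Real.rpow_nonneg (Nat.cast_nonneg _) _)) (Set.indicator_nonneg (fun _ _ => zero_le_one) _)
  have hle : ∀ P, (absNorm P.1 : ℝ) ^ (-σ) ≤ g (p P) := by
    intro P
    have hp1 : (1 : ℝ) ≤ p P := by exact_mod_cast (hp P).one_lt.le
    by_cases hN0 : p P ≤ N₀
    · refine le_trans ?_ (le_add_of_nonneg_left (add_nonneg
        (Set.indicator_nonneg (fun n _ => Real.rpow_nonneg (Nat.cast_nonneg _) _) _)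
        (Real.rpow_nonneg (Nat.cast_nonneg _) _)))
      rw [Set.indicator_of_mem (Set.mem_Iic.2 hN0)]
      exact Real.rpow_le_one_of_one_le_of_nonpos (by exact_mod_cast le_trans one_le_two (two_le_absNorm K P)) (by linarith)
    · refine le_trans ?_ (le_add_of_nonneg_right (Set.indicator_nonneg (fun _ _ => zero_le_one) _))
      rcases (Nat.succ_le_iff.2 (hf P)).eq_or_lt with h1 | h1
      · refine le_trans (le_of_eq ?_) (le_add_of_nonneg_right (Real.rpow_nonneg (Nat.cast_nonneg _) _))
        have hmem : p P ∈ S := ⟨hp P, not_le.1 hN0, P, by rw [hN, ← h1]; simp⟩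
        rw [Set.indicator_of_mem hmem, hN, ← h1]
        simp
      · refine le_trans ?_ (le_add_of_nonneg_left
          (Set.indicator_nonneg (fun n _ => Real.rpow_nonneg (Nat.cast_nonneg _) _) _))
        rw [hN, Nat.cast_pow, ← Real.rpow_natCast, ← Real.rpow_mul (Nat.cast_nonneg _)]
        refine Real.rpow_le_rpow_of_exponent_le hp1 ?_
        have h3 : (2 : ℝ) ≤ f P := by exact_mod_cast h1
        nlinarith
  refine Summable.of_nonneg_of_le (fun P => Real.rpow_nonneg (Nat.cast_nonneg _) _) hle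
    ((Equiv.sigmaFiberEquiv p).summable_iff.1 ?_)
  set d := Module.finrank ℤ (𝓞 K)
  have hfib : ∀ n, Finite {P : PrimeId K // p P = n} ∧ Nat.card {P : PrimeId K // p P = n} ≤ d := by
    intro n
    rcases isEmpty_or_nonempty {P : PrimeId K // p P = n} with h | ⟨⟨Q, hQ⟩⟩
    · exact ⟨inferInstance, by simp⟩
    have hn : n.Prime := hQ ▸ hp Q
    have hb : ∀ s : Finset {P : PrimeId K // p P = n}, s.card ≤ d := fun s => by
      rw [← Finset.card_image_of_injective s Subtype.val_injective]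
      refine card_primes_over_le K hn _ fun P hP => ?_
      obtain ⟨R, -, rfl⟩ := Finset.mem_image.1 hP
      have h := hpP R.1
      rwa [show p R.1 = n from R.2] at h
    haveI : Finite {P : PrimeId K // p P = n} := by
      by_contra hinf
      rw [not_finite_iff_infinite] at hinf
      obtain ⟨s, hs⟩ := Infinite.exists_subset_card_eq {P : PrimeId K // p P = n} (d + 1)
      have := hb s
      omega
    haveI := Fintype.ofFinite {P : PrimeId K // p P = n}
    exact ⟨inferInstance, by rw [Nat.card_eq_fintype_card]; exact hb Finset.univ⟩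
  refine (summable_sigma_of_nonneg (β := fun n => {P : PrimeId K // p P = n}) fun P => hg0 _).2
    ⟨fun n => by haveI := (hfib n).1; exact Summable.of_finite, ?_⟩
  refine Summable.of_nonneg_of_le (fun n => tsum_nonneg fun P => hg0 _) (fun n => ?_) (hg.mul_left (d : ℝ))
  show ∑' P : {P : PrimeId K // p P = n}, g (p P.1) ≤ _
  rw [tsum_congr (fun P : {P : PrimeId K // p P = n} => by rw [P.2]), tsum_const, nsmul_eq_mul]
  exact mul_le_mul_of_nonneg_right (Nat.cast_le.2 (hfib n).2) (hg0 n)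

end Groth.Agent.LangWeil
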