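import Groth.Agent.LangWeil.Count

/-!
# Zeros of absolutely irreducible hypersurfaces in any number of variables, away from a closed set
-/

set_option autoImplicit false
set_option linter.style.haveILetI false

noncomputable section

open Polynomial

namespace Groth.Agent.LangWeil

universe u

attribute [local instance] Classical.decEq

variable {R₀ : Type*} [CommRing R₀] [IsDomain R₀]

/-- A lower bound for the number of zeros, for any number of variables. -/
theorem exists_zero_lower [IsIntegrallyClosed R₀] {τ : Type*} [Fintype τ]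
    (g : Polynomial (MvPolynomial τ R₀)) (hm : g.Monic) (hsep : derivative g ≠ 0)
    (habs : Irreducible (g.map (MvPolynomial.map (algebraMap R₀ (AlgebraicClosure (FractionRing R₀)))))) :
    ∃ (C' : ℝ) (h₀ : R₀), 0 ≤ C' ∧ h₀ ≠ 0 ∧ ∀ (F : Type u) [Field F] [Finite F] (φ : R₀ →+* F), φ h₀ ≠ 0 →
      (Nat.card F : ℝ) ^ Fintype.card τ - C' * (Nat.card F : ℝ) ^ Fintype.card τ / Real.sqrt (Nat.card F) ≤
        Nat.card {p : (τ → F) × F // g.eval₂ (MvPolynomial.eval₂Hom φ p.1) p.2 = 0} := by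
  classical
  cases hτ : Fintype.card τ with
  | zero =>
    haveI : IsEmpty τ := Fintype.card_eq_zero_iff.1 hτ
    set Kb := AlgebraicClosure (FractionRing R₀)
    set μ := MvPolynomial.map (σ := τ) (algebraMap R₀ Kb)
    let e := (MvPolynomial.isEmptyAlgEquiv Kb τ).toRingEquiv
    have h1 : Irreducible ((g.map μ).map e.toRingHom) :=
      (MulEquiv.irreducible_iff (Polynomial.mapEquiv e).toMulEquiv).2 habs
    have hd : g.natDegree = 1 := by
      have h2 := natDegree_eq_of_degree_eq_some (IsAlgClosed.degree_eq_one_of_irreducible Kb h1)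
      rwa [((hm.map _).natDegree_map _), hm.natDegree_map] at h2
    refine ⟨0, 1, le_rfl, one_ne_zero, fun F _ _ φ _ => ?_⟩
    rw [zero_mul, zero_div, sub_zero, pow_zero]
    haveI : Fintype F := Fintype.ofFinite F
    set x₀ : τ → F := isEmptyElim
    set q := g.map (MvPolynomial.eval₂Hom φ x₀)
    have hq : q.natDegree = 1 := by rw [hm.natDegree_map, hd]
    obtain ⟨z₀, hz₀⟩ := exists_root_of_degree_eq_one
      (degree_eq_iff_natDegree_eq (hm.map _).ne_zero |>.2 hq)
    haveI : Nonempty {p : (τ → F) × F // g.eval₂ (MvPolynomial.eval₂Hom φ p.1) p.2 = 0} :=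
      ⟨⟨(x₀, z₀), by
        rw [IsRoot, eval_map] at hz₀
        exact hz₀⟩⟩
    exact_mod_cast Nat.one_le_iff_ne_zero.2 (Nat.card_pos).ne'
  | succ n =>
    let e : τ ≃ Option (Fin n) := Fintype.equivOfCardEq (by simp [hτ])
    let ρ := MvPolynomial.renameEquiv R₀ e
    let g' := g.map ρ.toAlgHom.toRingHom
    have hsep' : derivative g' ≠ 0 := by
      rw [derivative_map]
      exact (Polynomial.map_ne_zero_iff (f := ρ.toAlgHom.toRingHom) ρ.injective).2 hsep
    set Kb := AlgebraicClosure (FractionRing R₀)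
    have habs' : Irreducible (g'.map (MvPolynomial.map (algebraMap R₀ Kb))) := by
      have h1 := (MulEquiv.irreducible_iff
        (Polynomial.mapEquiv (MvPolynomial.renameEquiv Kb e).toRingEquiv).toMulEquiv).2 habs
      convert h1 using 1
      show _ = (g.map _).map _
      rw [Polynomial.map_map, Polynomial.map_map]
      congr 1
      exact RingHom.ext fun p => MvPolynomial.map_rename _ _ _
    obtain ⟨C', h₀, hC, hh₀, hb⟩ := exists_count_bound.{u} g' (hm.map _) hsep' habs'
    refine ⟨C', h₀, hC, hh₀, fun F _ _ φ hφ => ?_⟩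
    have h := (abs_le.1 (hb F φ hφ)).1
    rw [Fintype.card_fin] at h
    have hcard : Nat.card {p : (τ → F) × F // g.eval₂ (MvPolynomial.eval₂Hom φ p.1) p.2 = 0} =
        Nat.card {p : (Option (Fin n) → F) × F // g'.eval₂ (MvPolynomial.eval₂Hom φ p.1) p.2 = 0} := by
      refine Nat.card_congr ((Equiv.prodCongr (Equiv.arrowCongr e (Equiv.refl F)) (Equiv.refl F)).subtypeEquiv
        fun p => ?_)
      rw [eval₂_map, show (MvPolynomial.eval₂Hom φ ((Equiv.prodCongr (Equiv.arrowCongr e (Equiv.refl F))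
        (Equiv.refl F)) p).1).comp ρ.toAlgHom.toRingHom = MvPolynomial.eval₂Hom φ p.1 from
        MvPolynomial.ringHom_ext (fun r => by simp [ρ]) (fun i => by simp [ρ])]
      simp
    rw [hcard]
    set Q := (Nat.card F : ℝ)
    have hQ : 0 < Q := Nat.cast_pos.2 Nat.card_pos
    have he : C' * Q ^ (n + 1) / Real.sqrt Q = C' * Q ^ n * Real.sqrt Q := by
      rw [div_eq_iff (Real.sqrt_pos.2 hQ).ne', pow_succ, mul_assoc _ (Real.sqrt Q), Real.mul_self_sqrt hQ.le]
      ring
    rw [he]
    linarith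

/-- A monic polynomial irreducible over the fractions and a polynomial it does not divide. -/
theorem exists_bezout_of_not_dvd {P : Type*} [CommRing P] [IsDomain P] {g c : Polynomial P} (hm : g.Monic)
    (hirr : Irreducible (g.map (algebraMap P (FractionRing P)))) (hc : ¬ g ∣ c) :
    ∃ (a b : Polynomial P) (δ : P), δ ≠ 0 ∧ a * g + b * c = C δ := by
  let κ := algebraMap P (FractionRing P)
  have hκ : Function.Injective κ := IsFractionRing.injective _ _
  obtain ⟨a0, b0, hab⟩ : IsCoprime (g.map κ) (c.map κ) :=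
    (hirr.coprime_iff_not_dvd).2 fun h => hc ((Polynomial.map_dvd_map κ hκ hm).1 h)
  obtain ⟨ca, hca, ha⟩ := IsLocalization.integerNormalization_spec (nonZeroDivisors P) a0
  obtain ⟨cb, hcb, hb⟩ := IsLocalization.integerNormalization_spec (nonZeroDivisors P) b0
  refine ⟨C cb * IsLocalization.integerNormalization (nonZeroDivisors P) a0,
    C ca * IsLocalization.integerNormalization (nonZeroDivisors P) b0, ca * cb,
    mul_ne_zero (nonZeroDivisors.ne_zero hca) (nonZeroDivisors.ne_zero hcb), map_injective κ hκ ?_⟩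
  rw [Polynomial.map_add, Polynomial.map_mul, Polynomial.map_mul, Polynomial.map_mul, Polynomial.map_mul, map_C,
    map_C, map_C, ha, hb, map_mul, C_mul, Algebra.smul_def, Algebra.smul_def,
    show algebraMap P (Polynomial (FractionRing P)) ca = C (κ ca) from rfl,
    show algebraMap P (Polynomial (FractionRing P)) cb = C (κ cb) from rfl]
  linear_combination (C (κ ca) * C (κ cb)) * hab

/-- Many zeros avoid a polynomial not divisible by the equation. -/
theorem exists_zero_avoid [IsIntegrallyClosed R₀] {τ : Type*} [Fintype τ]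
    (g : Polynomial (MvPolynomial τ R₀)) (hm : g.Monic) (hsep : derivative g ≠ 0)
    (habs : Irreducible (g.map (MvPolynomial.map (algebraMap R₀ (AlgebraicClosure (FractionRing R₀))))))
    (c : Polynomial (MvPolynomial τ R₀)) (hc : ¬ g ∣ c) :
    ∃ (M : ℝ) (h : R₀), 0 ≤ M ∧ h ≠ 0 ∧ ∀ (F : Type u) [Field F] [Finite F] (φ : R₀ →+* F), φ h ≠ 0 →
      (Nat.card F : ℝ) ^ Fintype.card τ - M * (Nat.card F : ℝ) ^ Fintype.card τ / Real.sqrt (Nat.card F) ≤
        Nat.card {p : (τ → F) × F // g.eval₂ (MvPolynomial.eval₂Hom φ p.1) p.2 = 0 ∧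
          c.eval₂ (MvPolynomial.eval₂Hom φ p.1) p.2 ≠ 0} := by
  classical
  haveI : IsIntegrallyClosed (MvPolynomial τ R₀) := isIntegrallyClosed_mvPolynomial R₀ τ
  have hirr : Irreducible (g.map (algebraMap (MvPolynomial τ R₀) (FractionRing (MvPolynomial τ R₀)))) :=
    hm.irreducible_iff_irreducible_map_fraction_map.1 (Polynomial.Monic.irreducible_of_irreducible_map _ _ hm habs)
  obtain ⟨a, b, δ, hδ, hab⟩ := exists_bezout_of_not_dvd hm hirr hc
  obtain ⟨m₀, hm₀⟩ := MvPolynomial.ne_zero_iff.1 hδ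
  obtain ⟨C', h₀, hC, hh₀, hz⟩ := exists_zero_lower.{u} g hm hsep habs
  set d := g.natDegree
  set TD := δ.totalDegree
  refine ⟨C' + (d * TD : ℕ), h₀ * MvPolynomial.coeff m₀ δ, by positivity, mul_ne_zero hh₀ hm₀,
    fun F _ _ φ hφ => ?_⟩
  rw [map_mul, mul_ne_zero_iff] at hφ
  haveI := Fintype.ofFinite F
  set Q := Nat.card F
  set Z := {p : (τ → F) × F // g.eval₂ (MvPolynomial.eval₂Hom φ p.1) p.2 = 0}
  let good : Set Z := {p | c.eval₂ (MvPolynomial.eval₂Hom φ p.1.1) p.1.2 ≠ 0}
  have hgood : Nat.card {p : (τ → F) × F // g.eval₂ (MvPolynomial.eval₂Hom φ p.1) p.2 = 0 ∧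
      c.eval₂ (MvPolynomial.eval₂Hom φ p.1) p.2 ≠ 0} = Nat.card good :=
    Nat.card_congr (Equiv.subtypeSubtypeEquivSubtypeInter _ _).symm
  have hsum : Nat.card good + Nat.card (goodᶜ : Set Z) = Nat.card Z := by
    simp only [Nat.card_coe_set_eq]; exact Set.ncard_add_ncard_compl good
  -- the bad zeros
  set δF := MvPolynomial.map φ δ
  have hδF : δF ≠ 0 := fun h => hφ.2 (by rw [← MvPolynomial.coeff_map]; show MvPolynomial.coeff m₀ δF = 0; rw [h, MvPolynomial.coeff_zero])
  let T := Σ x : {x : τ → F // MvPolynomial.eval x δF = 0}, ↥((g.map (MvPolynomial.eval₂Hom φ x.1)).roots.toFinset)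
  have hmem : ∀ p : (goodᶜ : Set Z), MvPolynomial.eval p.1.1.1 δF = 0 := by
    rintro ⟨⟨⟨x, w⟩, h0⟩, hp⟩
    have hp0 : c.eval₂ (MvPolynomial.eval₂Hom φ x) w = 0 := not_not.1 hp
    have h := congrArg (eval₂RingHom (MvPolynomial.eval₂Hom φ x) w) hab
    simp only [map_add, map_mul, coe_eval₂RingHom, eval₂_C, h0, hp0, mul_zero, add_zero] at h
    show MvPolynomial.eval x δF = 0
    rw [MvPolynomial.eval_map]
    exact h.symm
  let Φ : (goodᶜ : Set Z) → T := fun p => ⟨⟨p.1.1.1, hmem p⟩, ⟨p.1.1.2, Multiset.mem_toFinset.2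
    ((mem_roots (hm.map _).ne_zero).2 (by rw [IsRoot, eval_map]; exact p.1.2))⟩⟩
  have hΦ : Function.Injective Φ := fun p q h => by
    have h1 : (p.1.1.1, p.1.1.2) = (q.1.1.1, q.1.1.2) := congrArg (fun t : T => ((t.1.1, (t.2 : F)))) h
    exact Subtype.ext (Subtype.ext h1)
  have hbad : Nat.card (goodᶜ : Set Z) * Q ≤ d * TD * Q ^ Fintype.card τ := by
    have h1 : Nat.card (goodᶜ : Set Z) ≤ Nat.card {x : τ → F // MvPolynomial.eval x δF = 0} * d := by
      refine (Nat.card_le_card_of_injective Φ hΦ).trans ?_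
      rw [Nat.card_sigma, Nat.card_eq_fintype_card (α := {x : τ → F // MvPolynomial.eval x δF = 0}),
        ← Finset.card_univ]
      refine Finset.sum_le_card_nsmul _ _ _ fun x _ => ?_
      rw [Nat.card_eq_finsetCard]
      exact (Multiset.toFinset_card_le _).trans ((card_roots' _).trans natDegree_map_le)
    calc Nat.card (goodᶜ : Set Z) * Q ≤ Nat.card {x : τ → F // MvPolynomial.eval x δF = 0} * d * Q :=
          Nat.mul_le_mul_right _ h1
      _ = d * (Nat.card {x : τ → F // MvPolynomial.eval x δF = 0} * Q) := by ring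
      _ ≤ d * (δF.totalDegree * Q ^ Fintype.card τ) := Nat.mul_le_mul_left _ (card_zeros_mul_le _ hδF)
      _ ≤ d * (TD * Q ^ Fintype.card τ) := Nat.mul_le_mul_left _ (Nat.mul_le_mul_right _
          (Finset.sup_mono (MvPolynomial.support_map_subset φ δ)))
      _ = _ := by ring
  have hZ := hz F φ hφ.1
  have hsum' : (Nat.card good : ℝ) + Nat.card (goodᶜ : Set Z) = Nat.card Z := by exact_mod_cast hsum
  have hbad' : (Nat.card (goodᶜ : Set Z) : ℝ) * Q ≤ (d * TD : ℕ) * (Q : ℝ) ^ Fintype.card τ := by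
    exact_mod_cast hbad
  have hQ : (1 : ℝ) ≤ Q := Nat.one_le_cast.2 Nat.card_pos
  have hb2 : (Nat.card (goodᶜ : Set Z) : ℝ) ≤ (d * TD : ℕ) * (Q : ℝ) ^ Fintype.card τ / Real.sqrt Q := by
    rw [le_div_iff₀ (by positivity)]
    exact le_trans (mul_le_mul_of_nonneg_left (Real.sqrt_le_iff.2 ⟨by positivity, by nlinarith⟩) (Nat.cast_nonneg _)) hbad'
  rw [hgood, add_mul, add_div]
  linarith

end Groth.Agent.LangWeil
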