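import Groth.Agent.LangWeil.Domain
import Groth.Agent.LangWeil.ZeroBound
import Groth.Agent.LangWeil.Primes
import Groth.Agent.VarBC.SepFinite
import Groth.Agent.ZetaLib.CountScheme
import Groth.Agent.CycLib.DimFormula

/-!
# Points of arithmetic varieties modulo primes of degree one
-/

set_option autoImplicit false
set_option linter.style.haveILetI false

noncomputable section

open Polynomial NumberField

namespace Groth.Agent.LangWeil

universe u

/-- `ℤ` in a given universe. -/
def UInt : Type u := ULift.{u} ℤ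

instance : CommRing UInt.{u} := inferInstanceAs (CommRing (ULift.{u} ℤ))

/-- `UInt` is `ℤ`. -/
def UInt.equiv : UInt.{u} ≃+* ℤ := ULift.ringEquiv

/-- `ℚ` in a given universe. -/
def URat : Type u := ULift.{u} ℚ

instance : Field URat.{u} := inferInstanceAs (Field (ULift.{u} ℚ))

/-- `URat` is `ℚ`. -/
def URat.equiv : URat.{u} ≃+* ℚ := ULift.ringEquiv

/-- The algebraic closure of `ℚ` in a finitely generated extension is finite. -/
theorem finiteDimensional_constants (L : Type u) [Field L] [CharZero L] [Algebra.EssFiniteType ℚ L] :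
    FiniteDimensional ℚ (algebraicClosure ℚ L) := by
  let Q := URat.{u}
  letI : Algebra Q L := ((algebraMap ℚ L).comp URat.equiv.toRingHom).toAlgebra
  letI : Algebra ℚ Q := URat.equiv.symm.toRingHom.toAlgebra
  haveI : IsScalarTower ℚ Q L := IsScalarTower.of_algebraMap_eq fun x => by
    show algebraMap ℚ L x = algebraMap ℚ L (URat.equiv.{u} (URat.equiv.{u}.symm x))
    rw [RingEquiv.apply_symm_apply]
  haveI : Algebra.EssFiniteType Q L := Algebra.EssFiniteType.of_comp ℚ Q L
  haveI : FiniteDimensional Q (algebraicClosure Q L) := VarBC.finiteDimensional_algebraicClosure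
  haveI : Module.Finite ℚ Q := RingHom.finite_algebraMap.1
    (RingHom.Finite.of_surjective _ URat.equiv.symm.surjective)
  haveI : FiniteDimensional ℚ (algebraicClosure Q L) := Module.Finite.trans Q _
  refine FiniteDimensional.of_injective
    ({ toFun := fun x => ⟨x.1, mem_algebraicClosure_iff.2 ((mem_algebraicClosure_iff.1 x.2).extendScalars
          (RingHom.injective (algebraMap ℚ Q)))⟩
       map_add' := fun _ _ => rfl
       map_smul' := fun _ _ => Subtype.ext rfl } : algebraicClosure ℚ L →ₗ[ℚ] algebraicClosure Q L)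
    fun x y h => Subtype.ext (congrArg (fun w : algebraicClosure Q L => (w : L)) h)

/-- Rescaling the root of a monic polynomial over `K[t]` by an integral element clearing denominators. -/
theorem exists_integral_model {K : Type u} [Field K] [NumberField K] {τ : Type u}
    (g : Polynomial (MvPolynomial τ K)) (hm : g.Monic) (hirr : Irreducible g) :
    ∃ (a : K) (g₀ : Polynomial (MvPolynomial τ (𝓞 K))), a ≠ 0 ∧ g₀.Monic ∧
      Irreducible (g₀.map (MvPolynomial.map (algebraMap (𝓞 K) K))) ∧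
      g₀.natDegree = g.natDegree ∧
      g₀.map (MvPolynomial.map (algebraMap (𝓞 K) K)) =
        C (MvPolynomial.C (a ^ g.natDegree)) * g.comp (C (MvPolynomial.C a⁻¹) * X) := by
  classical
  set d := g.natDegree
  let coefs : Finset K := g.support.biUnion fun i => (g.coeff i).support.image (g.coeff i).coeff
  obtain ⟨b, hb⟩ := IsLocalization.exist_integer_multiples (nonZeroDivisors (𝓞 K)) coefs id
  set a : K := algebraMap (𝓞 K) K b
  have ha : a ≠ 0 := (map_ne_zero_iff _ (IsFractionRing.injective (𝓞 K) K)).2 (nonZeroDivisors.ne_zero b.2)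
  set g' : Polynomial (MvPolynomial τ K) := C (MvPolynomial.C (a ^ d)) * g.comp (C (MvPolynomial.C a⁻¹) * X)
  have hcoeff : ∀ i, g'.coeff i = MvPolynomial.C (a ^ d * a⁻¹ ^ i) * g.coeff i := fun i => by
    rw [coeff_C_mul, comp_C_mul_X_coeff, ← map_pow MvPolynomial.C a⁻¹ i, map_mul MvPolynomial.C (a ^ d)]
    ring
  have hd : g'.natDegree ≤ d := natDegree_le_iff_coeff_eq_zero.2 fun i hi => by
    rw [hcoeff, coeff_eq_zero_of_natDegree_lt hi, mul_zero]
  have hg'm : g'.Monic := monic_of_natDegree_le_of_coeff_eq_one d hd (by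
    rw [hcoeff, hm.coeff_natDegree, ← mul_pow, mul_inv_cancel₀ ha, one_pow, map_one, mul_one])
  have hint : g' ∈ lifts (MvPolynomial.map (σ := τ) (algebraMap (𝓞 K) K)) := by
    refine (lifts_iff_coeff_lifts _).2 fun i => ?_
    refine MvPolynomial.mem_range_map_iff_coeffs_subset.2 ?_
    intro c hc
    obtain ⟨m, -, rfl⟩ := MvPolynomial.mem_coeffs_iff.1 hc
    rw [hcoeff, MvPolynomial.coeff_C_mul]
    rcases lt_trichotomy i d with hi | rfl | hi
    · by_cases h0 : (g.coeff i).coeff m = 0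
      · exact ⟨0, by rw [h0, mul_zero, map_zero]⟩
      obtain ⟨w, hw⟩ := hb ((g.coeff i).coeff m) (Finset.mem_biUnion.2 ⟨i, mem_support_iff.2 fun h => h0 (by rw [h, MvPolynomial.coeff_zero]),
        Finset.mem_image.2 ⟨m, MvPolynomial.mem_support_iff.2 h0, rfl⟩⟩)
      refine ⟨(b : 𝓞 K) ^ (d - i - 1) * w, ?_⟩
      rw [map_mul, map_pow, hw, Algebra.smul_def, id]
      show a ^ (d - i - 1) * (a * _) = _
      rw [← mul_assoc, ← pow_succ, show d - i - 1 + 1 = d - i by omega, inv_pow, ← div_eq_mul_inv (a ^ d),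
        pow_sub₀ _ ha hi.le, div_eq_mul_inv]
    · rw [hm.coeff_natDegree, ← mul_pow, mul_inv_cancel₀ ha, one_pow, one_mul, MvPolynomial.coeff_one]
      split_ifs
      · exact ⟨1, map_one _⟩
      · exact ⟨0, map_zero _⟩
    · exact ⟨0, by rw [coeff_eq_zero_of_natDegree_lt hi, MvPolynomial.coeff_zero, mul_zero, map_zero]⟩
  obtain ⟨g₀, hg₀, -, hg₀m⟩ := lifts_and_degree_eq_and_monic hint hg'm
  let θ : Polynomial (MvPolynomial τ K) ≃+* Polynomial (MvPolynomial τ K) :=
    RingEquiv.ofRingHom (compRingHom (C (MvPolynomial.C a⁻¹) * X)) (compRingHom (C (MvPolynomial.C a) * X))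
      (Polynomial.ringHom_ext (fun c => by simp) (by
        simp only [RingHom.comp_apply, coe_compRingHom, coe_compRingHom_apply, X_comp, mul_comp, C_comp, RingHom.id_apply]
        rw [← mul_assoc, ← C_mul, ← map_mul, mul_inv_cancel₀ ha, map_one, map_one, one_mul]))
      (Polynomial.ringHom_ext (fun c => by simp) (by
        simp only [RingHom.comp_apply, coe_compRingHom, coe_compRingHom_apply, X_comp, mul_comp, C_comp, RingHom.id_apply]
        rw [← mul_assoc, ← C_mul, ← map_mul, inv_mul_cancel₀ ha, map_one, map_one, one_mul]))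
  have hirr' : Irreducible g' := by
    rw [irreducible_isUnit_mul (isUnit_C.2 ((IsUnit.mk0 _ (pow_ne_zero _ ha)).map MvPolynomial.C))]
    exact (MulEquiv.irreducible_iff θ.toMulEquiv).2 hirr
  refine ⟨a, g₀, ha, hg₀m, hg₀ ▸ hirr', ?_, hg₀⟩
  rw [← hg₀m.natDegree_map (MvPolynomial.map (algebraMap (𝓞 K) K)), hg₀]
  exact le_antisymm hd (le_natDegree_of_ne_zero (by
    rw [hcoeff, hm.coeff_natDegree, ← mul_pow, mul_inv_cancel₀ ha, one_pow, map_one, mul_one]
    exact one_ne_zero))

/-- Points of the integral model with nonvanishing denominators give distinct points of the domain. -/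
theorem exists_points_injection {A L R₀ : Type u} [CommRing A] [CommRing R₀] [Field L] {τ : Type u} [Fintype τ]
    (ι : A →+* L) (hfrac : ∀ x : L, ∃ u v : A, ι v ≠ 0 ∧ x = ι u / ι v)
    (evL : Polynomial (MvPolynomial τ R₀) →+* L) (g₀ : Polynomial (MvPolynomial τ R₀))
    (hker : ∀ q, evL q = 0 → g₀ ∣ q)
    (δ : Polynomial (MvPolynomial τ R₀)) (hδ : evL δ ≠ 0)
    (hA : ∀ a : A, ∃ (α : Polynomial (MvPolynomial τ R₀)) (N : ℕ), ι a * evL δ ^ N = evL α) :
    ∃ c : Polynomial (MvPolynomial τ R₀), evL c ≠ 0 ∧ ∀ (F : Type u) [Field F] (φ : R₀ →+* F),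
      ∃ Φ : {w : (τ → F) × F // g₀.eval₂ (MvPolynomial.eval₂Hom φ w.1) w.2 = 0 ∧
          c.eval₂ (MvPolynomial.eval₂Hom φ w.1) w.2 ≠ 0} → (A →+* F), Function.Injective Φ := by
  classical
  choose u v hv hx using fun e => hfrac (evL e)
  choose αA NA hαA using hA
  let E : Finset (Polynomial (MvPolynomial τ R₀)) := insert X (Finset.univ.image fun i => C (MvPolynomial.X i))
  let c := δ * ∏ e ∈ E, αA (v e)
  have hc : evL c ≠ 0 := by
    rw [map_mul, map_prod]
    refine mul_ne_zero hδ (Finset.prod_ne_zero_iff.2 fun e _ => ?_)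
    rw [← hαA]
    exact mul_ne_zero (hv e) (pow_ne_zero _ hδ)
  refine ⟨c, hc, fun F _ φ => ?_⟩
  let W := {w : (τ → F) × F // g₀.eval₂ (MvPolynomial.eval₂Hom φ w.1) w.2 = 0 ∧
    c.eval₂ (MvPolynomial.eval₂Hom φ w.1) w.2 ≠ 0}
  let ev : W → Polynomial (MvPolynomial τ R₀) →+* F := fun w =>
    eval₂RingHom (MvPolynomial.eval₂Hom φ w.1.1) w.1.2
  have hwell : ∀ w p q, evL p = evL q → ev w p = ev w q := by
    intro w p q h
    obtain ⟨r, hr⟩ := hker (p - q) (by rw [map_sub, h, sub_self])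
    have h2 := congrArg (ev w) hr
    rw [map_sub, map_mul, show ev w g₀ = 0 from w.2.1, zero_mul] at h2
    exact sub_eq_zero.1 h2
  have hevc : ∀ w, ev w c ≠ 0 := fun w => w.2.2
  have hevδ : ∀ w, ev w δ ≠ 0 := fun w h => hevc w (by rw [map_mul, h, zero_mul])
  have hrep : ∀ w a α N, ι a * evL δ ^ N = evL α → ev w α / ev w δ ^ N = ev w (αA a) / ev w δ ^ NA a := by
    intro w a α N h
    rw [div_eq_div_iff (pow_ne_zero _ (hevδ w)) (pow_ne_zero _ (hevδ w)), ← map_pow, ← map_pow, ← map_mul, ← map_mul]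
    refine hwell w _ _ ?_
    rw [map_mul, map_mul, map_pow, map_pow, ← h, ← hαA]
    ring
  let ψ : W → A →+* F := fun w =>
    { toFun := fun a => ev w (αA a) / ev w δ ^ NA a
      map_one' := by
        rw [← hrep w 1 1 0 (by simp)]; simp
      map_zero' := by
        rw [← hrep w 0 0 0 (by simp)]; simp
      map_add' := fun a b => by
        rw [← hrep w (a + b) (αA a * δ ^ NA b + αA b * δ ^ NA a) (NA a + NA b) (by
          rw [map_add, map_add, map_mul, map_mul, map_pow, map_pow, ← hαA, ← hαA, pow_add]; ring)]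
        rw [map_add, map_mul, map_mul, map_pow, map_pow, pow_add, div_add_div _ _ (pow_ne_zero _ (hevδ w))
          (pow_ne_zero _ (hevδ w))]
        ring
      map_mul' := fun a b => by
        rw [← hrep w (a * b) (αA a * αA b) (NA a + NA b) (by
          rw [map_mul, map_mul, ← hαA, ← hαA, pow_add]; ring)]
        rw [map_mul, pow_add, mul_div_mul_comm] }
  have hψ : ∀ w a α N, ι a * evL δ ^ N = evL α → ψ w a * ev w δ ^ N = ev w α := fun w a α N h => by
    show ev w (αA a) / ev w δ ^ NA a * ev w δ ^ N = ev w α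
    rw [← hrep w a α N h, div_mul_cancel₀ _ (pow_ne_zero _ (hevδ w))]
  have hcoord : ∀ w, ∀ e ∈ E, ψ w (v e) ≠ 0 ∧ ψ w (u e) = ev w e * ψ w (v e) := by
    intro w e he
    have h1 : ι (u e) * evL δ ^ NA (v e) = evL (e * αA (v e)) := by
      rw [map_mul, ← hαA, hx e]
      field_simp [hv e]
    have hv' : ev w (αA (v e)) ≠ 0 := fun h => hevc w (by
      rw [map_mul, map_prod, Finset.prod_eq_zero he h, mul_zero])
    have a1 := hψ w (u e) (e * αA (v e)) (NA (v e)) h1
    have b1 := hψ w (v e) (αA (v e)) (NA (v e)) (hαA (v e))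
    rw [map_mul, ← b1] at a1
    exact ⟨fun h => hv' (by rw [← b1, h, zero_mul]),
      mul_right_cancel₀ (pow_ne_zero _ (hevδ w)) (a1.trans (mul_assoc _ _ _).symm)⟩
  refine ⟨ψ, fun w w₁ h => ?_⟩
  have heq : ∀ e ∈ E, ev w e = ev w₁ e := fun e he => by
    obtain ⟨h1, h2⟩ := hcoord w e he
    obtain ⟨-, h4⟩ := hcoord w₁ e he
    rw [← h] at h4
    exact mul_right_cancel₀ h1 (h2.symm.trans h4)
  refine Subtype.ext (Prod.ext (funext fun i => ?_) ?_)
  · have := heq (C (MvPolynomial.X i)) (Finset.mem_insert_of_mem (Finset.mem_image_of_mem _ (Finset.mem_univ i)))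
    simpa [ev] using this
  · simpa [ev] using heq X (Finset.mem_insert_self _ _)

/-- A domain finitely generated over `ℤ` of characteristic zero has many points modulo the primes of
degree one of some number field, and dimension at most one more than their exponent. -/
theorem exists_domain_points_aux (A : Type u) [CommRing A] [IsDomain A] [CharZero A]
    (L : Type u) [Field L] [Algebra A L] [IsFractionRing A L] (hft : (Int.castRingHom A).FiniteType) :
    ∃ (s : ℕ) (K : Type u) (_ : Field K) (_ : NumberField K) (N₀ : ℕ),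
      ringKrullDim A ≤ (s + 1 : ℕ) ∧
      ∀ p : ℕ, p.Prime → N₀ < p → (∃ P : PrimeId K, Ideal.absNorm P.1 = p) →
        ∀ (F : Type u) [Field F] [Finite F], Nat.card F = p →
          (p : ℝ) ^ s / 2 ≤ Nat.card (A →+* F) := by
  classical
  haveI : Algebra.FiniteType ℤ A := by rw [← RingHom.finiteType_algebraMap, algebraMap_int_eq]; exact hft
  haveI : CharZero L := charZero_of_injective_algebraMap (IsFractionRing.injective A L)
  haveI : Algebra.EssFiniteType A L := Algebra.EssFiniteType.of_isLocalization L (nonZeroDivisors A)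
  haveI : Algebra.EssFiniteType ℤ L := Algebra.EssFiniteType.comp ℤ A L
  haveI : IsScalarTower ℤ ℚ L := AddCommGroup.intIsScalarTower
  haveI : Algebra.EssFiniteType ℚ L := Algebra.EssFiniteType.of_comp ℤ ℚ L
  -- the field of constants, in its own universe
  let K := ↥(algebraicClosure ℚ L)
  haveI hKfin : FiniteDimensional ℚ K := by
    exact finiteDimensional_constants L
  haveI : NumberField K := { to_finiteDimensional := by convert hKfin }
  haveI : IsScalarTower ℤ K L := AddCommGroup.intIsScalarTower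
  haveI : Algebra.EssFiniteType K L := Algebra.EssFiniteType.of_comp ℤ K L
  have hclosed : ∀ a : L, IsAlgebraic K a → a ∈ Set.range (algebraMap K L) := fun a ha =>
    ⟨⟨a, mem_algebraicClosure_iff.2 (ha.restrictScalars ℚ)⟩, rfl⟩
  obtain ⟨τ, _, t, z, g, hcard, hψ, hgm, hirr, hsep, hker, hgen⟩ := exists_field_model K L
  obtain ⟨a, g₀, ha, hg₀m, hg₀irr, hg₀d, hg₀⟩ := exists_integral_model g hgm hirr
  set d := g.natDegree
  set s := Fintype.card τ
  set ψK := (MvPolynomial.aeval (R := K) t).toRingHom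
  set z' := algebraMap K L a * z
  let μ := MvPolynomial.map (σ := τ) (algebraMap (𝓞 K) K)
  have hμ : Function.Injective μ := MvPolynomial.map_injective _ (IsFractionRing.injective (𝓞 K) K)
  have hev : ∀ q : Polynomial (MvPolynomial τ K),
      (q.comp (C (MvPolynomial.C a⁻¹) * X)).eval₂ ψK z' = q.eval₂ ψK z := fun q => by
    rw [eval₂_comp, eval₂_mul, eval₂_C, eval₂_X,
      show ψK (MvPolynomial.C a⁻¹) = algebraMap K L a⁻¹ from MvPolynomial.aeval_C t _, ← mul_assoc, ← map_mul,
      inv_mul_cancel₀ ha, map_one, one_mul]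
  let evL : Polynomial (MvPolynomial τ (𝓞 K)) →+* L := eval₂RingHom (ψK.comp μ) z'
  have hevL : ∀ q, evL q = (q.map μ).eval₂ ψK z' := fun q => (eval₂_map μ _ _).symm
  have hkerL : ∀ q, evL q = 0 → g₀ ∣ q := by
    intro q hq
    rw [hevL] at hq
    set q' := q.map μ
    have h1 : (q'.comp (C (MvPolynomial.C a) * X)).eval₂ ψK z = 0 := by
      rw [← hev, comp_assoc]
      simpa [mul_comp, ← mul_assoc, ← C_mul, ← map_mul, mul_inv_cancel₀ ha] using hq
    obtain ⟨w, hw⟩ := (hker _).1 h1
    refine (Polynomial.map_dvd_map μ hμ hg₀m).1 ?_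
    have h2 := congrArg (fun r => r.comp (C (MvPolynomial.C a⁻¹) * X)) hw
    simp only [mul_comp, comp_assoc, C_comp, X_comp, ← mul_assoc, ← C_mul, ← map_mul, mul_inv_cancel₀ ha,
      map_one, one_mul, comp_X] at h2
    rw [hg₀, show q.map μ = q' from rfl, h2]
    exact (IsUnit.mul_left_dvd (isUnit_C.2 ((IsUnit.mk0 _ (pow_ne_zero _ ha)).map MvPolynomial.C))).2 (dvd_mul_right _ _)
  have hroot : evL g₀ = 0 := by
    rw [hevL, hg₀, eval₂_mul, hev, (hker g).2 dvd_rfl, mul_zero]
  have hdpos : 0 < d := hgm.natDegree_pos.2 fun h => hirr.not_isUnit (h ▸ isUnit_one)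
  have hsep₀ : derivative g₀ ≠ 0 := fun h => by
    have := natDegree_eq_zero_of_derivative_eq_zero h
    omega
  have habs : Irreducible (g₀.map (MvPolynomial.map (algebraMap (𝓞 K) (AlgebraicClosure (FractionRing (𝓞 K)))))) := by
    have hsep' : derivative (g₀.map μ) ≠ 0 := by
      rw [derivative_map, Ne, Polynomial.map_eq_zero_iff hμ]; exact hsep₀
    have h1 := irreducible_algClosure (K := AlgebraicClosure K) (hg₀m.map μ) hg₀irr hsep' (MvPolynomial.aeval t) hψ
      z' (by rw [← hevL]; exact hroot) hclosed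
    have h2 := irreducible_map_of_algClosed' (algebraMap K (AlgebraicClosure K))
      ((algebraMap (FractionRing (𝓞 K)) (AlgebraicClosure (FractionRing (𝓞 K)))).comp
        (FractionRing.algEquiv (𝓞 K) K).symm.toRingEquiv.toRingHom) (g₀.map μ) h1
    rw [Polynomial.map_map] at h2
    convert h2 using 2
    refine MvPolynomial.ringHom_ext (fun r => ?_) fun i => by simp [μ]
    simp only [μ, RingHom.comp_apply, MvPolynomial.map_C]
    congr 1
    rw [IsScalarTower.algebraMap_apply (𝓞 K) (FractionRing (𝓞 K)) (AlgebraicClosure (FractionRing (𝓞 K)))]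
    exact congrArg _ ((FractionRing.algEquiv (𝓞 K) K).symm.commutes r).symm
  -- clearing denominators
  have hlift : ∀ q : Polynomial (MvPolynomial τ K), ∃ (b : 𝓞 K) (q₀ : Polynomial (MvPolynomial τ (𝓞 K))),
      b ≠ 0 ∧ q₀.map μ = C (MvPolynomial.C (algebraMap (𝓞 K) K b)) * q := by
    intro q
    let cs : Finset K := q.support.biUnion fun i => (q.coeff i).support.image (q.coeff i).coeff
    obtain ⟨b, hb⟩ := IsLocalization.exist_integer_multiples (nonZeroDivisors (𝓞 K)) cs id
    have hl : C (MvPolynomial.C (algebraMap (𝓞 K) K b)) * q ∈ lifts μ := by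
      refine (lifts_iff_coeff_lifts _).2 fun i => ?_
      refine MvPolynomial.mem_range_map_iff_coeffs_subset.2 ?_
      intro c hc
      obtain ⟨m, -, rfl⟩ := MvPolynomial.mem_coeffs_iff.1 hc
      rw [coeff_C_mul, MvPolynomial.coeff_C_mul]
      by_cases h0 : (q.coeff i).coeff m = 0
      · exact ⟨0, by rw [h0, mul_zero, map_zero]⟩
      obtain ⟨w, hw⟩ := hb ((q.coeff i).coeff m) (Finset.mem_biUnion.2
        ⟨i, mem_support_iff.2 fun h => h0 (by rw [h, MvPolynomial.coeff_zero]),
          Finset.mem_image.2 ⟨m, MvPolynomial.mem_support_iff.2 h0, rfl⟩⟩)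
      exact ⟨w, by rw [hw, Algebra.smul_def]; rfl⟩
    obtain ⟨q₀, hq₀⟩ := (mem_lifts _).1 hl
    exact ⟨b, q₀, nonZeroDivisors.ne_zero b.2, hq₀⟩
  have hfracL : ∀ x : L, ∃ α β, evL β ≠ 0 ∧ x = evL α / evL β := by
    intro x
    obtain ⟨p, q, hq, rfl⟩ := hgen x
    obtain ⟨b₁, p₀, hb₁, hp₀⟩ := hlift (p.comp (C (MvPolynomial.C a⁻¹) * X))
    obtain ⟨b₂, q₀, hb₂, hq₀⟩ := hlift (q.comp (C (MvPolynomial.C a⁻¹) * X))
    have hb : ∀ (b : 𝓞 K) (q₀ : Polynomial (MvPolynomial τ (𝓞 K))) (q : Polynomial (MvPolynomial τ K)),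
        q₀.map μ = C (MvPolynomial.C (algebraMap (𝓞 K) K b)) * q.comp (C (MvPolynomial.C a⁻¹) * X) →
        evL q₀ = algebraMap K L (algebraMap (𝓞 K) K b) * q.eval₂ ψK z := fun b q₀ q h => by
      rw [hevL, h, eval₂_mul, hev, eval₂_C]
      congr 1
      exact MvPolynomial.aeval_C t _
    have hne : ∀ b : 𝓞 K, b ≠ 0 → algebraMap K L (algebraMap (𝓞 K) K b) ≠ 0 := fun b hb0 =>
      (_root_.map_ne_zero _).2 ((map_ne_zero_iff _ (IsFractionRing.injective (𝓞 K) K)).2 hb0)
    refine ⟨C (MvPolynomial.C b₂) * p₀, C (MvPolynomial.C b₁) * q₀, ?_, ?_⟩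
    · rw [map_mul, hb b₂ q₀ q hq₀]
      refine mul_ne_zero ?_ (mul_ne_zero (hne b₂ hb₂) hq)
      simpa [evL, ψK, μ] using hne b₁ hb₁
    · rw [map_mul, map_mul, hb b₁ p₀ p hp₀, hb b₂ q₀ q hq₀]
      have e1 : ∀ b : 𝓞 K, evL (C (MvPolynomial.C b)) = algebraMap K L (algebraMap (𝓞 K) K b) := fun b => by
        simp [evL, ψK, μ]
      rw [e1, e1]
      field_simp [hne b₁ hb₁, hne b₂ hb₂, hq]
  obtain ⟨G, hG⟩ := ‹Algebra.FiniteType ℤ A›.out
  let ι := algebraMap A L
  choose αF βF hβF hxF using hfracL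
  let δ := ∏ x ∈ G, βF (ι x)
  have hδ : evL δ ≠ 0 := by rw [map_prod]; exact Finset.prod_ne_zero_iff.2 fun x _ => hβF _
  have hA : ∀ x : A, ∃ α N, ι x * evL δ ^ N = evL α := by
    intro x
    have hx : x ∈ Algebra.adjoin ℤ (G : Set A) := hG ▸ Algebra.mem_top
    induction hx using Algebra.adjoin_induction with
    | mem x hx =>
      refine ⟨αF (ι x) * ∏ y ∈ G.erase x, βF (ι y), 1, ?_⟩
      have hsplit : δ = βF (ι x) * ∏ y ∈ G.erase x, βF (ι y) :=
        (Finset.mul_prod_erase G (fun y => βF (ι y)) (Finset.mem_coe.1 hx)).symm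
      rw [pow_one, hsplit, map_mul, map_mul]
      nth_rewrite 1 [hxF (ι x)]
      field_simp [hβF (ι x)]
    | algebraMap m => exact ⟨(m : Polynomial (MvPolynomial τ (𝓞 K))), 0, by simp⟩
    | add x y _ _ hx hy =>
      obtain ⟨α, N, hN⟩ := hx; obtain ⟨β, M, hM⟩ := hy
      exact ⟨α * δ ^ M + β * δ ^ N, N + M, by simp only [map_add, map_mul, map_pow, ← hN, ← hM, pow_add]; ring⟩
    | mul x y _ _ hx hy =>
      obtain ⟨α, N, hN⟩ := hx; obtain ⟨β, M, hM⟩ := hy
      exact ⟨α * β, N + M, by simp only [map_mul, ← hN, ← hM, pow_add]; ring⟩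
  have hfracA : ∀ x : L, ∃ u v : A, ι v ≠ 0 ∧ x = ι u / ι v := fun x => by
    obtain ⟨u, v, hv, rfl⟩ := IsFractionRing.div_surjective (A := A) x
    exact ⟨u, v, (map_ne_zero_iff _ (IsFractionRing.injective A L)).2 (nonZeroDivisors.ne_zero hv), rfl⟩
  -- the dimension
  have hdim : ringKrullDim A ≤ (s + 1 : ℕ) := by
    let Z := UInt.{u}
    letI : Algebra Z A := ((Int.castRingHom A).comp UInt.equiv.toRingHom).toAlgebra
    letI : Algebra Z L := ((Int.castRingHom L).comp UInt.equiv.toRingHom).toAlgebra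
    letI : Algebra Z K := ((Int.castRingHom K).comp UInt.equiv.toRingHom).toAlgebra
    haveI : IsScalarTower Z A L := IsScalarTower.of_algebraMap_eq fun m => (map_intCast (algebraMap A L) (UInt.equiv m)).symm
    haveI : IsScalarTower Z K L := IsScalarTower.of_algebraMap_eq fun m => (map_intCast (algebraMap K L) (UInt.equiv m)).symm
    haveI : FaithfulSMul Z A := (faithfulSMul_iff_algebraMap_injective Z A).2
      (Int.cast_injective.comp UInt.equiv.injective)
    haveI : FaithfulSMul Z K := (faithfulSMul_iff_algebraMap_injective Z K).2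
      (Int.cast_injective.comp UInt.equiv.injective)
    haveI : FaithfulSMul A L := (faithfulSMul_iff_algebraMap_injective A L).2 (IsFractionRing.injective A L)
    haveI : FaithfulSMul K L := (faithfulSMul_iff_algebraMap_injective K L).2 (algebraMap K L).injective
    haveI : IsDomain Z := UInt.equiv.toMulEquiv.isDomain
    haveI : IsNoetherianRing Z := isNoetherianRing_of_ringEquiv ℤ UInt.equiv.symm
    haveI : Algebra.FiniteType Z A := RingHom.finiteType_algebraMap.1
      (hft.comp (RingHom.FiniteType.of_surjective _ UInt.equiv.surjective))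
    haveI : Algebra.IsAlgebraic A L := IsLocalization.isAlgebraic (R := A) (S := L) (nonZeroDivisors A)
    haveI : Algebra.IsAlgebraic Z K := ⟨fun x => by
      obtain ⟨q, hq0, hq⟩ := (IsFractionRing.isAlgebraic_iff ℤ ℚ K).2 (Algebra.IsAlgebraic.isAlgebraic (R := ℚ) x)
      refine ⟨q.map UInt.equiv.symm.toRingHom,
        (Polynomial.map_ne_zero_iff UInt.equiv.symm.injective).2 hq0, ?_⟩
      rw [aeval_def, eval₂_map, ← hq, aeval_def]
      congr 1⟩
    have hT : Algebra.trdeg Z A = (s : Cardinal) := by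
      have h1 : Algebra.trdeg Z L = Algebra.trdeg Z A := by
        rw [← trdeg_add_eq Z A (A := L), trdeg_eq_zero (R := A) (A := L), add_zero]
      rw [← h1, ← trdeg_add_eq Z K (A := L), trdeg_eq_zero (R := Z) (A := K), zero_add, hcard]
    refine (ringKrullDim_le_iff_height_le _).2 fun q hq => ?_
    haveI := hq
    haveI : (q.under Z).IsPrime := Ideal.IsPrime.under Z q
    obtain ⟨hqh, hp, t', T, h1, h2, -, h4, hle, -⟩ := CycLib.height_add_trdeg (A := Z) (S := A) (q.under Z) q
    have hp1 : hp ≤ 1 := by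
      have h := Ideal.height_le_ringKrullDim_of_ne_top (I := q.under Z) Ideal.IsPrime.ne_top'
      rw [h2, ringKrullDim_eq_of_ringEquiv UInt.equiv] at h
      have h' := h.trans (Ring.krullDimLE_iff.1 (inferInstance : Ring.KrullDimLE 1 ℤ))
      exact_mod_cast h'
    have hTs : T = s := Nat.cast_injective (R := Cardinal) (h4.symm.trans hT)
    rw [h1]
    exact_mod_cast (by omega : hqh ≤ s + 1)
  -- the points
  obtain ⟨c, hc, hΦ⟩ := exists_points_injection ι hfracA evL g₀ hkerL δ hδ hA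
  have hcg : ¬ g₀ ∣ c := fun ⟨r, hr⟩ => hc (by rw [hr, map_mul, hroot, zero_mul])
  obtain ⟨M, h, hM, hh, hzero⟩ := exists_zero_avoid.{u} g₀ hg₀m hsep₀ habs c hcg
  set H := Ideal.absNorm (Ideal.span {h})
  have hH : H ≠ 0 := fun h0 => hh (Ideal.span_singleton_eq_bot.1 (Ideal.absNorm_eq_zero_iff.1 h0))
  refine ⟨s, K, inferInstance, inferInstance, max H ⌈(2 * M) ^ 2⌉₊, hdim, fun p hp hpN hP F _ _ hF => ?_⟩
  obtain ⟨P, hP⟩ := hP
  haveI := Fact.mk hp
  haveI : P.1.IsMaximal := P.2.1.isMaximal P.2.2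
  letI := Ideal.Quotient.field P.1
  have hcardP : Nat.card (𝓞 K ⧸ P.1) = p := by
    rw [← hP]
    exact ((Ideal.absNorm_apply P.1).trans (Submodule.cardQuot_apply _)).symm
  haveI : Finite (𝓞 K ⧸ P.1) := Nat.finite_of_card_ne_zero (by rw [hcardP]; exact hp.ne_zero)
  letI := Fintype.ofFinite (𝓞 K ⧸ P.1)
  letI := Fintype.ofFinite F
  let e : (𝓞 K ⧸ P.1) ≃+* F := FiniteField.ringEquivOfCardEq (by
    rw [← Nat.card_eq_fintype_card, ← Nat.card_eq_fintype_card, hcardP, hF])
  let φ : 𝓞 K →+* F := e.toRingHom.comp (Ideal.Quotient.mk P.1)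
  have hφ : φ h ≠ 0 := by
    intro h0
    have hmem : h ∈ P.1 := Ideal.Quotient.eq_zero_iff_mem.1 (e.injective (h0.trans (map_zero e).symm))
    have hdvd : p ∣ H := hP ▸ map_dvd Ideal.absNorm (Ideal.dvd_iff_le.2 (Ideal.span_le.2 (Set.singleton_subset_iff.2 hmem)))
    have := Nat.le_of_dvd (Nat.pos_of_ne_zero hH) hdvd
    omega
  obtain ⟨Φ, hΦinj⟩ := hΦ F φ
  haveI : Finite (A →+* F) := by
    obtain ⟨c', p₀', hc'⟩ := ZetaLib.exists_const_card_ringHom_le.{u, u} A hft hdim
    exact (hc' F).1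
  have h1 := hzero F φ hφ
  have h2 : (Nat.card {w : (τ → F) × F // g₀.eval₂ (MvPolynomial.eval₂Hom φ w.1) w.2 = 0 ∧
      c.eval₂ (MvPolynomial.eval₂Hom φ w.1) w.2 ≠ 0} : ℝ) ≤ Nat.card (A →+* F) :=
    Nat.cast_le.2 (Nat.card_le_card_of_injective Φ hΦinj)
  rw [hF] at h1
  refine le_trans ?_ (h1.trans h2)
  have hsq : 2 * M ≤ Real.sqrt p := by
    refine Real.le_sqrt_of_sq_le ((Nat.le_ceil _).trans (Nat.cast_le.2 ?_))
    omega
  have hsp : 0 < Real.sqrt p := Real.sqrt_pos.2 (Nat.cast_pos.2 hp.pos)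
  have hMs : M * (p : ℝ) ^ s / Real.sqrt p ≤ (p : ℝ) ^ s / 2 := by
    rw [div_le_iff₀ hsp]
    nlinarith [mul_le_mul_of_nonneg_left hsq (show (0 : ℝ) ≤ (p : ℝ) ^ s by positivity)]
  linarith

/-- A domain finitely generated over `ℤ` of characteristic zero has many points modulo the primes of
degree one of some number field, and dimension at most one more than their exponent. -/
theorem exists_domain_points (A : Type u) [CommRing A] [IsDomain A] [CharZero A]
    (hft : (Int.castRingHom A).FiniteType) :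
    ∃ (s : ℕ) (K : Type u) (_ : Field K) (_ : NumberField K) (N₀ : ℕ),
      ringKrullDim A ≤ (s + 1 : ℕ) ∧
      ∀ p : ℕ, p.Prime → N₀ < p → (∃ P : PrimeId K, Ideal.absNorm P.1 = p) →
        ∀ (F : Type u) [Field F] [Finite F], Nat.card F = p →
          (p : ℝ) ^ s / 2 ≤ Nat.card (A →+* F) :=
  exists_domain_points_aux A (FractionRing A) hft

end Groth.Agent.LangWeil
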