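import Mathlib.Topology.Irreducible
import Mathlib.Topology.Maps.Basic
import Mathlib.Data.Set.Card

/-!
# Irreducible components of a dense open subspace
-/

set_option autoImplicit false

open Topology

namespace Groth.Agent.LangWeil

universe u v

variable {Y : Type u} {T : Type v} [TopologicalSpace Y] [TopologicalSpace T]

theorem card_irreducibleComponents_of_dense {e : Y → T} (he : IsEmbedding e) (hd : DenseRange e)
    (hfin : (irreducibleComponents Y).Finite) :
    Nat.card (irreducibleComponents Y) = Nat.card (irreducibleComponents T) := by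
  haveI := hfin.to_subtype
  let Φ : irreducibleComponents Y → Set T := fun C => closure (e '' C.1)
  have hirr : ∀ C, IsIrreducible (Φ C) := fun C => (C.2.1.image e he.continuous.continuousOn).closure
  have hback : ∀ C, e ⁻¹' Φ C = C.1 := fun C => by
    rw [← he.isInducing.closure_eq_preimage_closure_image,
      (isClosed_of_mem_irreducibleComponents _ C.2).closure_eq]
  have hcover : ⋃ C, Φ C = Set.univ := by
    refine Set.eq_univ_of_univ_subset ?_
    have hsub : Set.range e ⊆ ⋃ C, Φ C := by
      rintro _ ⟨y, rfl⟩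
      exact Set.mem_iUnion.2 ⟨⟨irreducibleComponent y, irreducibleComponent_mem_irreducibleComponents y⟩,
        subset_closure ⟨y, mem_irreducibleComponent, rfl⟩⟩
    rw [← hd.closure_range]
    exact closure_minimal hsub (isClosed_iUnion_of_finite fun C => isClosed_closure)
  have hsub : ∀ S : Set T, IsIrreducible S → ∃ C, S ⊆ Φ C := by
    intro S hS
    obtain ⟨W, hW, hSW⟩ := isIrreducible_iff_sUnion_isClosed.1 hS (Set.finite_range Φ).toFinset
      (fun z hz => by
        obtain ⟨C, rfl⟩ := (Set.Finite.mem_toFinset _).1 hz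
        exact isClosed_closure)
      (by rw [Set.Finite.coe_toFinset, Set.sUnion_range, hcover]; exact Set.subset_univ _)
    obtain ⟨C, rfl⟩ := (Set.Finite.mem_toFinset _).1 hW
    exact ⟨C, hSW⟩
  have hmem : ∀ C, Φ C ∈ irreducibleComponents T := by
    intro C
    refine ⟨hirr C, fun S hS hle => ?_⟩
    obtain ⟨C', hC'⟩ := hsub S hS
    have h1 : C.1 ⊆ C'.1 := by
      rw [← hback C, ← hback C']
      exact Set.preimage_mono (hle.trans hC')
    obtain rfl : C = C' := Subtype.ext (h1.antisymm (C.2.2 C'.2.1 h1))
    exact hC'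
  refine Nat.card_eq_of_bijective (fun C => (⟨Φ C, hmem C⟩ : irreducibleComponents T)) ⟨fun C C' h => ?_, fun S => ?_⟩
  · refine Subtype.ext ?_
    have h2 : Φ C = Φ C' := congrArg Subtype.val h
    rw [← hback C, ← hback C', h2]
  · obtain ⟨C, hC⟩ := hsub S.1 S.2.1
    exact ⟨C, Subtype.ext ((S.2.2 (hirr C) hC).antisymm hC)⟩

end Groth.Agent.LangWeil
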