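import Groth.Agent.LangWeil.Components
import Groth.Agent.LangWeil.Topo
import Groth.Agent.LangWeil.Dim
import Groth.Agent.ZetaLib.CountScheme
import Groth.Agent.ZetaLib.Decomp
import Mathlib.AlgebraicGeometry.Morphisms.UniversallyOpen
import Mathlib.AlgebraicGeometry.IdealSheaf.Subscheme

/-!
# Lang–Weil for schemes of finite type over a finite field
-/

set_option autoImplicit false
set_option linter.style.haveILetI false

noncomputable section

open AlgebraicGeometry CategoryTheory Limits TopologicalSpace Topology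

namespace Groth.Agent.LangWeil

universe u

variable {k : Type u} [Field k] [Finite k] {X : Scheme.{u}}

/-- The extension of given degree. -/
theorem exists_field_degree (k : Type u) [Field k] [Finite k] {e : ℕ} (he : e ≠ 0) :
    ∃ (F : Type u) (_ : Field F) (_ : Algebra k F), Finite F ∧ Module.finrank k F = e ∧
      Nat.card F = Nat.card k ^ e := by
  obtain ⟨p, _⟩ := CharP.exists k
  haveI : Fact p.Prime := ⟨CharP.char_is_prime k p⟩
  haveI : NeZero e := ⟨he⟩
  let F := ULift.{u} (FiniteField.Extension k p e)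
  have hF : Module.finrank k F = e :=
    (ULift.algEquiv.toLinearEquiv.finrank_eq).trans (FiniteField.finrank_extension k p e)
  haveI : Module.Finite k F := Module.finite_of_finrank_pos (by omega)
  haveI : Finite F := Module.finite_of_finite k
  exact ⟨F, inferInstance, inferInstance, inferInstance, hF, by rw [Module.natCard_eq_pow_finrank (K := k), hF]⟩

/-- Points of an affine scheme. -/
theorem nPts_affine {B : Type u} [CommRing B] [Algebra k B] [Algebra.FiniteType k B] (F : Type u) [Field F]
    [Finite F] [Algebra k F] :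
    Zeta.nPts (Spec.map (CommRingCat.ofHom (algebraMap k B))) (Module.finrank k F) = Nat.card (B →ₐ[k] F) := by
  haveI : LocallyOfFiniteType (Spec.map (CommRingCat.ofHom (algebraMap k B))) :=
    (HasRingHomProperty.Spec_iff (P := @LocallyOfFiniteType)).2 (RingHom.finiteType_algebraMap.2 inferInstance)
  rw [← ZetaLib.pointCount_eq_nPts]
  exact Nat.card_congr
    { toFun := fun g =>
        { (Spec.preimage g.1).hom with
          commutes' := fun r => by
            have h := g.2
            rw [← Spec.map_preimage g.1, ← Spec.map_comp, Spec.map_inj, CommRingCat.hom_ext_iff] at h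
            exact RingHom.congr_fun h r }
      invFun := fun φ => ⟨Spec.map (CommRingCat.ofHom φ.toRingHom), by
        rw [← Spec.map_comp, ← CommRingCat.ofHom_comp]
        congr 2
        exact φ.comp_algebraMap⟩
      left_inv := fun g => Subtype.ext (by
        show Spec.map (CommRingCat.ofHom (Spec.preimage g.1).hom) = g.1
        rw [CommRingCat.ofHom_hom, Spec.map_preimage])
      right_inv := fun φ => AlgHom.ext fun b => by
        show (Spec.preimage (Spec.map (CommRingCat.ofHom φ.toRingHom))).hom b = φ b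
        rw [Spec.preimage_map]
        rfl }

variable (f : X ⟶ Spec (CommRingCat.of k)) [LocallyOfFiniteType f] [QuasiCompact f]

/-- The projection from the base change to an algebraic closure. -/
abbrev geomProj : ↥(pullback f (Spec.map (CommRingCat.ofHom (algebraMap k (AlgebraicClosure k))))) → ↥X :=
  (pullback.fst f (Spec.map (CommRingCat.ofHom (algebraMap k (AlgebraicClosure k))))).base

theorem exists_piece {r : ℕ} (hr : topologicalKrullDim X = r) {Z : Set X} (hZ : Z ∈ irreducibleComponents X)
    (hdim : topologicalKrullDim Z = r) :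
    ∃ (Y : Scheme.{u}) (j : Y ⟶ X) (_ : IsImmersion j) (m : ℕ) (C' : ℝ),
      IsOpen (Set.range j.base) ∧ (Set.range j.base).Nonempty ∧
      (∀ x ∈ Set.range j.base, ∀ Z' ∈ irreducibleComponents X, x ∈ Z' → Z' = Z) ∧
      0 < m ∧ 0 ≤ C' ∧ Nat.card (irreducibleComponents (geomProj f ⁻¹' Z)) = m ∧
      ∀ e : ℕ, 1 ≤ e →
        (m ∣ e → |(Zeta.nPts (j ≫ f) e : ℝ) - m * ((Nat.card k : ℝ) ^ e) ^ r| ≤
          C' * ((Nat.card k : ℝ) ^ e) ^ r / Real.sqrt ((Nat.card k : ℝ) ^ e)) ∧
        (¬ m ∣ e → Zeta.nPts (j ≫ f) e = 0) := by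
  classical
  letI : X.Over (Spec (CommRingCat.of k)) := ⟨f⟩
  haveI : LocallyOfFiniteType (X ↘ Spec (CommRingCat.of k)) := ‹LocallyOfFiniteType f›
  haveI : IsLocallyNoetherian X := LocallyOfFiniteType.isLocallyNoetherian f
  haveI : CompactSpace X := QuasiCompact.compactSpace_of_compactSpace f
  haveI : AlgebraicGeometry.IsNoetherian X := {}
  have hfin : (irreducibleComponents X).Finite := NoetherianSpace.finite_irreducibleComponents
  have hZc := isClosed_of_mem_irreducibleComponents Z hZ
  obtain ⟨η, hη⟩ := QuasiSober.sober hZ.1 hZc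
  let W : X.Opens := ⟨(⋃₀ (irreducibleComponents X \ {Z}))ᶜ,
    ((hfin.subset Set.sdiff_subset).isClosed_biUnion fun Z' hZ' => isClosed_of_mem_irreducibleComponents Z' hZ'.1
      |> id).isOpen_compl |> fun h => by rwa [Set.sUnion_eq_biUnion]⟩
  have hηW : η ∈ W := by
    rintro ⟨Z', ⟨hZ', hne⟩, hη'⟩
    have hle : Z ⊆ Z' := hη.mem_closed_set_iff (isClosed_of_mem_irreducibleComponents Z' hZ') |>.1 hη'
    exact hne ((hZ.2 hZ'.1 hle).antisymm hle)
  obtain ⟨V, hV, hηV, hVW⟩ := exists_isAffineOpen_mem_and_subset (X := X) (U := W) hηW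
  have honly : ∀ x ∈ V, ∀ Z' ∈ irreducibleComponents X, x ∈ Z' → Z' = Z := fun x hx Z' hZ' hxZ' => by
    by_contra hne
    exact hVW hx ⟨Z', ⟨hZ', hne⟩, hxZ'⟩
  have hVZ : (V : Set X) ⊆ Z := fun x hx => by
    have h := honly x hx _ (irreducibleComponent_mem_irreducibleComponents x) mem_irreducibleComponent
    exact h ▸ mem_irreducibleComponent
  -- the ring of the reduced open piece
  let φ : k →+* Γ(X, V) := ((Scheme.ΓSpecIso (CommRingCat.of k)).inv ≫ f.appLE ⊤ V (by simp)).hom
  letI : Algebra k Γ(X, V) := φ.toAlgebra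
  have hcomp : hV.fromSpec ≫ f = Spec.map (CommRingCat.ofHom (algebraMap k Γ(X, V))) := by
    show _ = Spec.map (CommRingCat.ofHom φ)
    rw [← IsAffineOpen.SpecMap_appLE_fromSpec f (isAffineOpen_top _) hV (by simp)]
    simp [φ, IsAffineOpen.fromSpec_top, Scheme.isoSpec_Spec_inv, ← Spec.map_comp]
  haveI : Algebra.FiniteType k Γ(X, V) :=
    RingHom.FiniteType.comp (f.finiteType_appLE (isAffineOpen_top _) hV (by simp))
      (RingHom.FiniteType.of_surjective _
        (Scheme.ΓSpecIso (CommRingCat.of k)).symm.commRingCatIsoToRingEquiv.surjective)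
  let P := (hV.primeIdealOf ⟨η, hηV⟩).asIdeal
  haveI : P.IsPrime := (hV.primeIdealOf ⟨η, hηV⟩).isPrime
  have hPle : ∀ q : PrimeSpectrum Γ(X, V), P ≤ q.asIdeal := fun q => by
    obtain ⟨y, hy, rfl⟩ := VarDim.exists_eq_primeIdealOf hV q
    exact (VarDim.primeIdealOf_le_iff hV η y hηV hy).2 (hη.specializes (hVZ hy))
  let A := Γ(X, V) ⧸ P
  let mk := Ideal.Quotient.mk P
  have hmkE : IsHomeomorph (PrimeSpectrum.comap mk) := by
    refine ⟨by fun_prop, ?_, ⟨?_, ?_⟩⟩
    · intro U hU
      obtain ⟨U', hU', rfl⟩ := (PrimeSpectrum.isClosedEmbedding_comap_of_surjective _ mk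
        Ideal.Quotient.mk_surjective).isInducing.isOpen_iff.1 hU
      rwa [Set.image_preimage_eq _ ?_]
      intro q
      exact ⟨⟨q.asIdeal.map mk, Ideal.map_isPrime_of_surjective Ideal.Quotient.mk_surjective
        (by rw [Ideal.mk_ker]; exact hPle q)⟩, PrimeSpectrum.ext ((Ideal.comap_map_of_surjective _
          Ideal.Quotient.mk_surjective _).trans (sup_eq_left.2 (by
            rw [← RingHom.ker_eq_comap_bot, Ideal.mk_ker]; exact hPle q)))⟩
    · exact PrimeSpectrum.comap_injective_of_surjective mk Ideal.Quotient.mk_surjective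
    · intro q
      exact ⟨⟨q.asIdeal.map mk, Ideal.map_isPrime_of_surjective Ideal.Quotient.mk_surjective
        (by rw [Ideal.mk_ker]; exact hPle q)⟩, PrimeSpectrum.ext ((Ideal.comap_map_of_surjective _
          Ideal.Quotient.mk_surjective _).trans (sup_eq_left.2 (by
            rw [← RingHom.ker_eq_comap_bot, Ideal.mk_ker]; exact hPle q)))⟩
  have hA : ringKrullDim A = r := by
    rw [← PrimeSpectrum.topologicalKrullDim_eq_ringKrullDim, IsHomeomorph.topologicalKrullDim_eq _ hmkE]
    show topologicalKrullDim ↥(Spec Γ(X, V)) = r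
    rw [IsHomeomorph.topologicalKrullDim_eq _ hV.fromSpec.isOpenEmbedding.isEmbedding.toHomeomorph.isHomeomorph,
      hV.range_fromSpec]
    refine le_antisymm (VarDim.topologicalKrullDim_opens_le k V fun z _ => ?_) ?_
    · have h1 : (VarDim.dimPt k X z : WithBot ℕ∞) ≤ topologicalKrullDim X := by
        rw [VarDim.topologicalKrullDim_eq_iSup k]
        exact le_iSup (fun x : X => (VarDim.dimPt k X x : WithBot ℕ∞)) z
      rw [hr] at h1
      exact_mod_cast h1
    · refine le_trans ?_ (VarDim.le_topologicalKrullDim_opens k V hηV le_rfl)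
      rw [← hdim]
      refine (dim_le_of_forall k hZc fun x hx => ?_)
      exact (VarDim.exists_ltSeries_of_le k (hη.specializes hx : x ≤ η)).1
  obtain ⟨s, m, C', hs, hm, hC', hmin, hcount⟩ := exists_affine_data (k := k) hA
  let B := Localization.Away s
  haveI : Algebra.FiniteType k B := Algebra.FiniteType.trans (S := A) inferInstance inferInstance
  haveI : IsClosedImmersion (Spec.map (CommRingCat.ofHom mk)) :=
    IsClosedImmersion.spec_of_surjective _ Ideal.Quotient.mk_surjective
  haveI : IsOpenImmersion (Spec.map (CommRingCat.ofHom (algebraMap A B))) := IsOpenImmersion.of_isLocalization s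
  haveI : IsOpenImmersion hV.fromSpec := hV.isOpenImmersion_fromSpec
  let o := Spec.map (CommRingCat.ofHom (algebraMap A B))
  let c := Spec.map (CommRingCat.ofHom mk)
  let j : Spec (CommRingCat.of B) ⟶ X := (o ≫ c) ≫ hV.fromSpec
  haveI : IsImmersion j := inferInstance
  have hjf : j ≫ f = Spec.map (CommRingCat.ofHom (algebraMap k B)) := by
    simp only [j, o, c, Category.assoc, hcomp, ← Spec.map_comp]
    congr 1
  have hrange : Set.range j.base = hV.fromSpec.base '' (c.base '' Set.range o.base) := by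
    rw [← Set.range_comp, ← Set.range_comp]
    rfl
  have hopen : IsOpen (Set.range j.base) := by
    rw [hrange]
    exact hV.fromSpec.isOpenEmbedding.isOpenMap _ (hmkE.isOpenMap _ o.isOpenEmbedding.isOpen_range)
  have hjV : Set.range j.base ⊆ V := by
    rw [hrange, ← hV.range_fromSpec]
    exact Set.image_subset_range _ _
  haveI : IsDomain B := Function.Injective.isDomain
    (awayLift (IsScalarTower.toAlgHom k A (FractionRing A))
      ((map_ne_zero_iff _ (IsFractionRing.injective A _)).2 hs)).toRingHom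
    (awayLift_injective _ (IsFractionRing.injective A _) _)
  have hne : (Set.range j.base).Nonempty := Set.range_nonempty (h := inferInstanceAs (Nonempty (PrimeSpectrum B))) _
  refine ⟨_, j, inferInstance, m, C', hopen, hne, fun x hx => honly x (hjV hx), hm, hC', ?_, fun e he => ?_⟩
  · -- geometric components
    let a := Spec.map (CommRingCat.ofHom (algebraMap k (AlgebraicClosure k)))
    let π := pullback.fst f a
    let iso : pullback j π ≅ Spec (CommRingCat.of (TensorProduct k B (AlgebraicClosure k))) :=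
      pullbackRightPullbackFstIso f a j ≪≫ pullback.congrHom hjf rfl ≪≫ pullbackSpecIso k B (AlgebraicClosure k)
    let q := pullback.snd j π
    have hqr : Set.range q.base = π.base ⁻¹' Set.range j.base := Scheme.Pullback.range_snd j π
    have hη' : η ∈ Set.range j.base := by
      obtain ⟨x, hx⟩ := hne
      exact (hη.mem_open_set_iff hopen).2 ⟨x, hVZ (hjV hx), hx⟩
    let em : PrimeSpectrum (TensorProduct k B (AlgebraicClosure k)) → (geomProj f ⁻¹' Z) := fun y =>
      ⟨q.base (iso.inv.base y), by
        have : q.base (iso.inv.base y) ∈ π.base ⁻¹' Set.range j.base := hqr ▸ ⟨_, rfl⟩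
        exact hVZ (hjV this)⟩
    have hemb : IsEmbedding em :=
      (q.isEmbedding.comp iso.inv.homeomorph.isEmbedding).codRestrict (geomProj f ⁻¹' Z) fun y => (em y).2
    have hdense : DenseRange em := by
      intro y
      rw [IsInducing.subtypeVal.closure_eq_preimage_closure_image, Set.mem_preimage]
      have himg : π.base ⁻¹' Set.range j.base ⊆ Subtype.val '' Set.range em := by
        intro z hz
        obtain ⟨w, rfl⟩ := hqr.symm.subset hz
        exact ⟨em (iso.hom.base w), ⟨_, rfl⟩, by
          have hw : iso.inv.base (iso.hom.base w) = w := by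
            rw [← Scheme.Hom.comp_apply iso.hom iso.inv, Iso.hom_inv_id]
            rfl
          show q.base (iso.inv.base (iso.hom.base w)) = _
          rw [hw]⟩
      refine closure_mono himg ?_
      rw [← (π.isOpenMap).preimage_closure_eq_closure_preimage π.continuous]
      refine closure_mono (Set.singleton_subset_iff.2 hη') ?_
      rw [hη.def]
      exact y.2
    have hR : Nat.card (irreducibleComponents (PrimeSpectrum (TensorProduct k B (AlgebraicClosure k)))) = m := by
      rw [← hmin]
      exact (Nat.card_congr ((minimalPrimes.equivIrreducibleComponents _).toEquiv.trans OrderDual.ofDual)).symm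
    rw [← card_irreducibleComponents_of_dense hemb hdense (Set.finite_coe_iff.1
      (Nat.finite_of_card_ne_zero (hR.trans_ne hm.ne'))), hR]
  · obtain ⟨F, _, _, _, hFe, hFc⟩ := exists_field_degree k (e := e) (by omega)
    have hF := hcount F
    rw [hFe] at hF
    rw [hjf, ← hFe, nPts_affine F, hFe, show ((Nat.card k : ℝ) ^ e) = (Nat.card F : ℝ) by rw [hFc]; push_cast; rfl]
    exact hF

/-- Lang–Weil. -/
theorem exists_scheme_bound {r : ℕ} (hr : topologicalKrullDim X = r) :
    ∃ (T : Finset (Set X)) (C' : ℝ), 0 ≤ C' ∧ T.Nonempty ∧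
      (∀ Z, Z ∈ T ↔ Z ∈ irreducibleComponents X ∧ topologicalKrullDim Z = r) ∧
      (∀ Z ∈ T, 0 < Nat.card (irreducibleComponents (geomProj f ⁻¹' Z))) ∧
      ∀ e : ℕ, 1 ≤ e →
        |(Zeta.nPts f e : ℝ) - (∑ Z ∈ T, if Nat.card (irreducibleComponents (geomProj f ⁻¹' Z)) ∣ e then
            Nat.card (irreducibleComponents (geomProj f ⁻¹' Z)) else 0 : ℕ) * ((Nat.card k : ℝ) ^ e) ^ r| ≤
          C' * ((Nat.card k : ℝ) ^ e) ^ r / Real.sqrt ((Nat.card k : ℝ) ^ e) ∧
        ((∀ Z ∈ T, ¬ Nat.card (irreducibleComponents (geomProj f ⁻¹' Z)) ∣ e) →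
          (Zeta.nPts f e : ℝ) * (Nat.card k : ℝ) ^ e ≤ C' * ((Nat.card k : ℝ) ^ e) ^ r) := by
  classical
  letI : X.Over (Spec (CommRingCat.of k)) := ⟨f⟩
  haveI : LocallyOfFiniteType (X ↘ Spec (CommRingCat.of k)) := ‹LocallyOfFiniteType f›
  haveI : IsLocallyNoetherian X := LocallyOfFiniteType.isLocallyNoetherian f
  haveI : CompactSpace X := QuasiCompact.compactSpace_of_compactSpace f
  haveI : AlgebraicGeometry.IsNoetherian X := {}
  have hfin : (irreducibleComponents X).Finite := NoetherianSpace.finite_irreducibleComponents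
  let T := hfin.toFinset.filter fun Z : Set X => topologicalKrullDim Z = r
  have hT : ∀ Z, Z ∈ T ↔ Z ∈ irreducibleComponents X ∧ topologicalKrullDim Z = r := fun Z => by simp [T]
  choose Y j hj m C hopen hne honly hm hC0 hcomp hN using
    fun Z : T => exists_piece f hr ((hT Z.1).1 Z.2).1 ((hT Z.1).1 Z.2).2
  let R : Set X := (⋃ Z, Set.range (j Z).base)ᶜ
  have hRc : IsClosed R := (isOpen_iUnion hopen).isClosed_compl
  have hle : ∀ x : X, VarDim.dimPt k X x ≤ r := fun x => by
    have h1 : (VarDim.dimPt k X x : WithBot ℕ∞) ≤ topologicalKrullDim X := by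
      rw [VarDim.topologicalKrullDim_eq_iSup k]
      exact le_iSup (fun x : X => (VarDim.dimPt k X x : WithBot ℕ∞)) x
    rw [hr] at h1
    exact_mod_cast h1
  have hRlt : ∀ x ∈ R, VarDim.dimPt k X x < r := by
    intro x hx
    set Z := irreducibleComponent x
    have hZ : Z ∈ irreducibleComponents X := irreducibleComponent_mem_irreducibleComponents x
    have hZc := isClosed_of_mem_irreducibleComponents Z hZ
    obtain ⟨η, hη⟩ := QuasiSober.sober hZ.1 hZc
    have hxη : x ≤ η := hη.specializes mem_irreducibleComponent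
    by_cases hd : topologicalKrullDim Z = r
    · let Z₀ : T := ⟨Z, (hT Z).2 ⟨hZ, hd⟩⟩
      obtain ⟨y, hy⟩ := hne Z₀
      have hyZ : y ∈ Z := by
        have := honly Z₀ y hy _ (irreducibleComponent_mem_irreducibleComponents y) mem_irreducibleComponent
        exact (show irreducibleComponent y = Z from this) ▸ mem_irreducibleComponent
      have hη' : η ∈ Set.range (j Z₀).base := (hη.mem_open_set_iff (hopen Z₀)).2 ⟨y, hyZ, hy⟩
      have hlt : x < η := lt_of_le_not_ge hxη fun h => hx (Set.mem_iUnion.2 ⟨Z₀,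
        ((show x ⤳ η from h).antisymm (show η ⤳ x from hxη)).eq ▸ hη'⟩)
      exact (VarDim.dimPt_lt_of_lt k hlt).trans_le (hle η)
    · have h1 := dimPt_le_dim k hZc (mem_irreducibleComponent : x ∈ Z)
      have h2 : topologicalKrullDim Z ≤ (r : WithBot ℕ∞) :=
        hr ▸ IsInducing.subtypeVal.topologicalKrullDim_le
      exact_mod_cast lt_of_le_of_lt h1 (lt_of_le_of_ne h2 hd)
  have hTne : T.Nonempty := by
    by_contra hemp
    have hRuniv : R = Set.univ := by
      haveI : IsEmpty T := Finset.isEmpty_coe_sort.2 (Finset.not_nonempty_iff_eq_empty.1 hemp)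
      simp [R]
    have hlt : ∀ x, VarDim.dimPt k X x < r := fun x => hRlt x (hRuniv ▸ Set.mem_univ x)
    have h0 := VarDim.topologicalKrullDim_eq_iSup (X := X) k
    rw [hr] at h0
    cases r with
    | zero =>
      haveI : IsEmpty X := ⟨fun x => Nat.not_lt_zero _ (hlt x)⟩
      rw [iSup_of_empty] at h0
      exact absurd h0 (by simp)
    | succ n =>
      have h3 : ((n + 1 : ℕ) : WithBot ℕ∞) ≤ (n : ℕ) :=
        h0.le.trans (iSup_le fun x => by exact_mod_cast Nat.lt_succ_iff.1 (hlt x))
      exact absurd (by exact_mod_cast h3 : n + 1 ≤ n) (by omega)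
  let I := Scheme.IdealSheafData.vanishingIdeal (⟨R, hRc⟩ : Closeds X)
  have hIr : Set.range I.subschemeι.base = R := by
    rw [Scheme.IdealSheafData.range_subschemeι, Scheme.IdealSheafData.coe_support_vanishingIdeal]
    rfl
  let Zs : Option T → Scheme.{u} := fun o => o.elim I.subscheme Y
  let g : ∀ o, Zs o ⟶ X := fun o => match o with
    | none => I.subschemeι
    | some Z => j Z
  haveI : ∀ o, IsImmersion (g o) := fun o => match o with
    | none => inferInstanceAs (IsImmersion I.subschemeι)
    | some Z => hj Z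
  have hpart : ∀ x : X, IsClosed ({x} : Set X) → ∃! o, x ∈ Set.range (g o).base := by
    intro x _
    by_cases hx : x ∈ R
    · refine ⟨none, (show x ∈ Set.range I.subschemeι.base by rw [hIr]; exact hx), fun o ho => ?_⟩
      cases o with
      | none => rfl
      | some Z => exact absurd (Set.mem_iUnion.2 ⟨Z, ho⟩) hx
    · obtain ⟨Z, hZ⟩ := Set.mem_iUnion.1 (not_not.1 hx)
      refine ⟨some Z, hZ, fun o ho => ?_⟩
      cases o with
      | none => exact absurd (hIr.subset ho) hx
      | some Z' =>
        have h1 := honly Z x hZ _ (irreducibleComponent_mem_irreducibleComponents x) mem_irreducibleComponent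
        have h2 := honly Z' x ho _ (irreducibleComponent_mem_irreducibleComponents x) mem_irreducibleComponent
        rw [Subtype.ext (h2.symm.trans h1)]
  obtain ⟨cR, hcR⟩ : ∃ cR : ℕ, ∀ e, 1 ≤ e →
      (Zeta.nPts (I.subschemeι ≫ f) e : ℝ) * (Nat.card k : ℝ) ^ e ≤ cR * ((Nat.card k : ℝ) ^ e) ^ r := by
    cases r with
    | zero =>
      refine ⟨0, fun e _ => ?_⟩
      haveI : IsEmpty I.subscheme := ⟨fun x => Nat.not_lt_zero _ (hRlt (I.subschemeι.base x) (hIr.subset ⟨x, rfl⟩))⟩
      simp [Zeta.nPts, Zeta.degCount]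
    | succ n =>
      have hd : topologicalKrullDim R ≤ n := dim_le_of_forall k hRc fun x hx => Nat.lt_succ_iff.1 (hRlt x hx)
      have hd' : topologicalKrullDim I.subscheme ≤ n := by
        refine le_trans ?_ hd
        exact (I.subschemeι.isEmbedding.codRestrict R fun y => hIr.subset ⟨y, rfl⟩).isInducing.topologicalKrullDim_le
      obtain ⟨c, hc⟩ := ZetaLib.exists_const_pointCount_le (I.subschemeι ≫ f) hd'
      refine ⟨c, fun e he => ?_⟩
      obtain ⟨F, _, _, _, hFe, hFc⟩ := exists_field_degree k (e := e) (by omega)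
      have h1 := hc F
      rw [show Nat.card _ = SgaExt.pointCount (I.subschemeι ≫ f) F from rfl, ZetaLib.pointCount_eq_nPts, hFe, hFc]
        at h1
      rw [pow_succ ((Nat.card k : ℝ) ^ e), ← mul_assoc]
      exact mul_le_mul_of_nonneg_right (by exact_mod_cast h1) (by positivity)
  refine ⟨T, cR + ∑ Z, C Z, add_nonneg (Nat.cast_nonneg _) (Finset.sum_nonneg fun Z _ => hC0 Z), hTne, hT,
    fun Z hZ => (hcomp ⟨Z, hZ⟩).symm ▸ hm ⟨Z, hZ⟩, fun e he => ?_⟩
  have htot : Zeta.nPts f e = Zeta.nPts (I.subschemeι ≫ f) e + ∑ Z, Zeta.nPts (j Z ≫ f) e := by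
    simp only [Zeta.nPts, ZetaLib.degCount_partition f g hpart, Finset.mul_sum]
    rw [Finset.sum_comm, Fintype.sum_option]
    rfl
  set Q := (Nat.card k : ℝ) ^ e
  have hQ : 1 ≤ Q := one_le_pow₀ (Nat.one_le_cast.2 Nat.card_pos)
  have hsq : 1 ≤ Real.sqrt Q := Real.one_le_sqrt.2 hQ
  have hR0 : (Zeta.nPts (I.subschemeι ≫ f) e : ℝ) ≤ cR * Q ^ r / Real.sqrt Q := by
    rw [le_div_iff₀ (by positivity)]
    refine le_trans (mul_le_mul_of_nonneg_left ?_ (Nat.cast_nonneg _)) (hcR e he)
    exact Real.sqrt_le_iff.2 ⟨by positivity, by nlinarith⟩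
  refine ⟨?_, fun hnone => ?_⟩
  · have hsumT : (∑ Z ∈ T, if Nat.card (irreducibleComponents (geomProj f ⁻¹' Z)) ∣ e then
        Nat.card (irreducibleComponents (geomProj f ⁻¹' Z)) else 0 : ℕ) =
        ∑ Z : T, if m Z ∣ e then m Z else 0 := by
      rw [← Finset.sum_coe_sort]
      exact Finset.sum_congr rfl fun Z _ => by rw [hcomp Z]
    rw [hsumT, htot, Nat.cast_add, Nat.cast_sum, Nat.cast_sum, Finset.sum_mul, add_sub_assoc,
      ← Finset.sum_sub_distrib, add_mul, add_div, Finset.sum_mul, Finset.sum_div]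
    refine (abs_add_le _ _).trans (add_le_add ?_ ((Finset.abs_sum_le_sum_abs _ _).trans
      (Finset.sum_le_sum fun Z _ => ?_)))
    · rw [abs_of_nonneg (Nat.cast_nonneg _)]
      exact hR0
    · split_ifs with hd
      · exact (hN Z e he).1 hd
      · rw [(hN Z e he).2 hd]
        simp only [Nat.cast_zero, zero_mul, sub_zero, abs_zero]
        exact div_nonneg (mul_nonneg (hC0 Z) (by positivity)) (Real.sqrt_nonneg _)
  · have h0 : ∀ Z, Zeta.nPts (j Z ≫ f) e = 0 := fun Z => (hN Z e he).2 (hcomp Z ▸ hnone Z.1 Z.2)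
    rw [htot, Finset.sum_eq_zero fun Z _ => h0 Z, add_zero]
    exact (hcR e he).trans (mul_le_mul_of_nonneg_right
      (le_add_of_nonneg_right (Finset.sum_nonneg fun Z _ => hC0 Z)) (by positivity))

end Groth.Agent.LangWeil
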