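import Mathlib

/-!
# Geometric irreducibility spreads out
-/

set_option autoImplicit false

noncomputable section

open MvPolynomial

namespace Groth.Agent.LangWeil

variable {R : Type*} [CommRing R] {σ : Type*} [Fintype σ]

attribute [local instance] Classical.decEq

/-- Exponents with all entries at most `E`. -/
abbrev Mon (σ : Type*) (E : ℕ) := σ → Fin (E + 1)

/-- The exponent vector of an element of `Mon`. -/
def em {E : ℕ} (m : Mon σ E) : σ →₀ ℕ := Finsupp.equivFunOnFinite.symm fun i => (m i : ℕ)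

theorem em_injective {E : ℕ} : Function.Injective (em (σ := σ) (E := E)) := fun m m' h => funext fun i =>
  Fin.ext (by simpa [em] using DFunLike.congr_fun h i)

/-- The polynomial with given bounded coefficients. -/
def poly {E : ℕ} (c : Mon σ E → R) : MvPolynomial σ R := ∑ m, monomial (em m) (c m)

theorem coeff_poly {E : ℕ} (c : Mon σ E → R) (m : Mon σ E) : coeff (em m) (poly c) = c m := by
  classical
  simp [poly, coeff_sum, coeff_monomial, em_injective.eq_iff]

theorem map_poly {S : Type*} [CommRing S] (φ : R →+* S) {E : ℕ} (c : Mon σ E → R) :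
    map φ (poly c) = poly (fun m => φ (c m)) := by
  simp [poly, map_sum]

theorem exists_em_eq {E : ℕ} {a : MvPolynomial σ R} (ha : a.totalDegree ≤ E) {d : σ →₀ ℕ}
    (hd : d ∈ a.support) : ∃ m : Mon σ E, em m = d := by
  refine ⟨fun i => ⟨d i, ?_⟩, by ext i; simp [em]⟩
  have h1 : d i ≤ degreeOf i a := by
    rw [degreeOf_eq_sup]
    exact Finset.le_sup (f := fun m : σ →₀ ℕ => m i) hd
  exact Nat.lt_succ_of_le ((h1.trans (degreeOf_le_totalDegree a i)).trans ha)

theorem poly_coeff {E : ℕ} {a : MvPolynomial σ R} (ha : a.totalDegree ≤ E) :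
    poly (E := E) (fun m => coeff (em m) a) = a := by
  classical
  ext d
  by_cases hd : d ∈ a.support
  · obtain ⟨m, rfl⟩ := exists_em_eq ha hd
    rw [coeff_poly]
  · rw [notMem_support_iff.1 hd, poly, coeff_sum]
    refine Finset.sum_eq_zero fun m _ => ?_
    rw [coeff_monomial]
    split_ifs with h
    · rw [h, notMem_support_iff.1 hd]
    · rfl

section field

variable {L : Type*} [Field L]

theorem not_isUnit_of_coeff_ne_zero {a : MvPolynomial σ L} {d : σ →₀ ℕ} (hd : d ≠ 0)
    (h : coeff d a ≠ 0) : ¬ IsUnit a := fun hu => by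
  classical
  obtain ⟨r, -, rfl⟩ := isUnit_iff_eq_C_of_isReduced.1 hu
  rw [coeff_C, if_neg (Ne.symm hd)] at h
  exact h rfl

theorem exists_coeff_ne_zero {a : MvPolynomial σ L} (ha : ¬ IsUnit a) (ha0 : a ≠ 0) :
    ∃ d ∈ a.support, d ≠ 0 := by
  by_contra hne
  push Not at hne
  have h : a = C (coeff 0 a) := by
    classical
    ext d
    rw [coeff_C]
    split_ifs with h
    · rw [h]
    · by_contra hd
      exact h (hne d (mem_support_iff.2 hd)).symm
  refine ha (h ▸ (IsUnit.mk0 _ fun h0 => ha0 ?_).map C)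
  rw [h, h0, map_zero]

end field

/-- Unknowns: the coefficients of two factors and two inverses. -/
abbrev Unk (σ : Type*) (E : ℕ) := (Mon σ E ⊕ Mon σ E) ⊕ Bool

variable [IsDomain R]

/-- The equations for a factorisation whose factors have a given nonconstant monomial. -/
def eqns (G : MvPolynomial σ R) (E : ℕ) (m₀ m₁ : Mon σ E) : Ideal (MvPolynomial (Unk σ E) R) :=
  Ideal.span (Set.range (fun d : σ →₀ ℕ =>
      coeff d (poly (fun m => (X (Sum.inl (Sum.inl m)) : MvPolynomial (Unk σ E) R)) *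
        poly (fun m => X (Sum.inl (Sum.inr m))) - map C G)) ∪
    {X (Sum.inr false) * X (Sum.inl (Sum.inl m₀)) - 1, X (Sum.inr true) * X (Sum.inl (Sum.inr m₁)) - 1})

omit [IsDomain R] in
theorem eqns_zero_iff {G : MvPolynomial σ R} {E : ℕ} {m₀ m₁ : Mon σ E} {L : Type*} [Field L]
    (φ : R →+* L) (v : Unk σ E → L) :
    (∀ p ∈ eqns G E m₀ m₁, eval₂Hom φ v p = 0) ↔
      poly (fun m => v (Sum.inl (Sum.inl m))) * poly (fun m => v (Sum.inl (Sum.inr m))) = map φ G ∧
        v (Sum.inr false) * v (Sum.inl (Sum.inl m₀)) = 1 ∧ v (Sum.inr true) * v (Sum.inl (Sum.inr m₁)) = 1 := by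
  have hmap : map (eval₂Hom φ v) (poly (fun m => (X (Sum.inl (Sum.inl m)) : MvPolynomial (Unk σ E) R)) *
        poly (fun m => X (Sum.inl (Sum.inr m))) - map C G) =
      poly (fun m => v (Sum.inl (Sum.inl m))) * poly (fun m => v (Sum.inl (Sum.inr m))) - map φ G := by
    rw [map_sub, map_mul, map_poly, map_poly, map_map, eval₂Hom_comp_C]
    simp
  constructor
  · intro h
    refine ⟨sub_eq_zero.1 ?_, sub_eq_zero.1 ?_, sub_eq_zero.1 ?_⟩
    · rw [← hmap]
      ext d
      rw [coeff_map, coeff_zero]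
      exact h _ (Ideal.subset_span (Or.inl ⟨d, rfl⟩))
    · simpa using h _ (Ideal.subset_span (Or.inr (Set.mem_insert _ _)))
    · simpa using h _ (Ideal.subset_span (Or.inr (Set.mem_insert_of_mem _ rfl)))
  · rintro ⟨h1, h2, h3⟩ p hp
    have hle : eqns G E m₀ m₁ ≤ RingHom.ker (eval₂Hom φ v) := by
      refine Ideal.span_le.2 ?_
      rintro q (⟨d, rfl⟩ | rfl | rfl)
      · show eval₂Hom φ v (coeff d _) = 0
        rw [← coeff_map, hmap, sub_eq_zero.2 h1, coeff_zero]
      · simp [h2]
      · simp [h3]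
    exact hle hp

/-- If `G` is irreducible over an algebraically closed field over `R`, it stays irreducible after any
specialisation not killing one fixed nonzero element of `R`. -/
theorem exists_irreducible_away {K : Type*} [Field K] [IsAlgClosed K] (ι : R →+* K)
    (hι : Function.Injective ι) (G : MvPolynomial σ R) (hG : Irreducible (map ι G)) :
    ∃ h : R, h ≠ 0 ∧ ∀ {L : Type*} [Field L] (φ : R →+* L), φ h ≠ 0 → Irreducible (map φ G) := by
  classical
  set E := G.totalDegree
  obtain ⟨d₀, hd₀, hd₀0⟩ := exists_coeff_ne_zero hG.not_isUnit hG.ne_zero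
  have hc₀ : coeff d₀ G ≠ 0 := fun h => by
    rw [mem_support_iff, coeff_map, h, map_zero] at hd₀
    exact hd₀ rfl
  letI : Algebra (FractionRing R) K := (IsFractionRing.lift hι).toAlgebra
  have key : ∀ m₀ m₁ : {m : Mon σ E // em m ≠ 0},
      ∃ c : R, c ≠ 0 ∧ C c ∈ eqns G E m₀.1 m₁.1 := by
    intro m₀ m₁
    letI := MvPolynomial.algebraMvPolynomial (σ := Unk σ E) (R := R) (S := FractionRing R)
    set J := eqns G E m₀.1 m₁.1
    have htop : J.map (algebraMap (MvPolynomial (Unk σ E) R) (MvPolynomial (Unk σ E) (FractionRing R))) = ⊤ := by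
      by_contra hne
      have hz : (zeroLocus K (J.map (algebraMap (MvPolynomial (Unk σ E) R)
          (MvPolynomial (Unk σ E) (FractionRing R))))).Nonempty := by
        by_contra hemp
        rw [Set.not_nonempty_iff_eq_empty] at hemp
        refine hne (Ideal.radical_eq_top.1 (top_le_iff.1 ?_))
        rw [← vanishingIdeal_zeroLocus_eq_radical (K := K), hemp]
        exact fun p _ x hx => absurd hx (Set.notMem_empty x)
      obtain ⟨v, hv⟩ := hz
      have hv' : ∀ p ∈ J, eval₂Hom ι v p = 0 := fun p hp => by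
        have := hv _ (Ideal.mem_map_of_mem _ hp)
        rw [MvPolynomial.algebraMap_def] at this
        rw [← this, aeval_def, eval₂_map]
        show eval₂ ι v p = _
        congr 1
        exact (RingHom.ext fun r => (IsFractionRing.lift_algebraMap hι r).symm)
      obtain ⟨h1, h2, h3⟩ := (eqns_zero_iff ι v).1 hv'
      rcases hG.isUnit_or_isUnit h1.symm with hu | hu
      · exact not_isUnit_of_coeff_ne_zero m₀.2 (by rw [coeff_poly]; exact right_ne_zero_of_mul_eq_one h2) hu
      · exact not_isUnit_of_coeff_ne_zero m₁.2 (by rw [coeff_poly]; exact right_ne_zero_of_mul_eq_one h3) hu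
    have h1 : (1 : MvPolynomial (Unk σ E) (FractionRing R)) ∈
        J.map (algebraMap (MvPolynomial (Unk σ E) R) (MvPolynomial (Unk σ E) (FractionRing R))) := htop ▸ trivial
    obtain ⟨⟨⟨a, ha⟩, ⟨b, hb⟩⟩, hab⟩ :=
      (IsLocalization.mem_map_algebraMap_iff ((nonZeroDivisors R).map (C (σ := Unk σ E))) _).1 h1
    obtain ⟨c, hc, rfl⟩ := hb
    refine ⟨c, nonZeroDivisors.ne_zero hc, ?_⟩
    rw [one_mul, MvPolynomial.algebraMap_def] at hab
    have := map_injective (σ := Unk σ E) _ (IsFractionRing.injective R (FractionRing R)) hab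
    show C c ∈ J
    exact (show C c = a from this) ▸ ha
  choose c hc hcJ using key
  refine ⟨coeff d₀ G * ∏ m₀, ∏ m₁, c m₀ m₁,
    mul_ne_zero hc₀ (Finset.prod_ne_zero_iff.2 fun m₀ _ => Finset.prod_ne_zero_iff.2 fun m₁ _ => hc m₀ m₁), ?_⟩
  intro L _ φ hφ
  rw [map_mul, map_prod, mul_ne_zero_iff, Finset.prod_ne_zero_iff] at hφ
  have hG0 : map φ G ≠ 0 := fun h => hφ.1 (by rw [← coeff_map, h, coeff_zero])
  refine ⟨not_isUnit_of_coeff_ne_zero hd₀0 (by rw [coeff_map]; exact hφ.1), fun a b hab => ?_⟩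
  by_contra! hne
  obtain ⟨ha, hb⟩ := hne
  have ha0 : a ≠ 0 := fun h => hG0 (by rw [hab, h, zero_mul])
  have hb0 : b ≠ 0 := fun h => hG0 (by rw [hab, h, mul_zero])
  have hdeg : a.totalDegree + b.totalDegree ≤ E := by
    rw [← totalDegree_mul_of_isDomain ha0 hb0, ← hab]
    exact Finset.sup_mono (support_map_subset φ G)
  have haE : a.totalDegree ≤ E := le_trans le_self_add hdeg
  have hbE : b.totalDegree ≤ E := le_trans le_add_self hdeg
  obtain ⟨da, hda, hda0⟩ := exists_coeff_ne_zero ha ha0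
  obtain ⟨db, hdb, hdb0⟩ := exists_coeff_ne_zero hb hb0
  obtain ⟨ma, rfl⟩ := exists_em_eq haE hda
  obtain ⟨mb, rfl⟩ := exists_em_eq hbE hdb
  let v : Unk σ E → L := Sum.elim (Sum.elim (fun m => coeff (em m) a) (fun m => coeff (em m) b))
    (fun t => if t then (coeff (em mb) b)⁻¹ else (coeff (em ma) a)⁻¹)
  have hv : ∀ p ∈ eqns G E ma mb, eval₂Hom φ v p = 0 := by
    refine (eqns_zero_iff φ v).2 ⟨?_, ?_, ?_⟩
    · show poly (E := E) (fun m => coeff (em m) a) * poly (E := E) (fun m => coeff (em m) b) = _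
      rw [poly_coeff haE, poly_coeff hbE, hab]
    · exact inv_mul_cancel₀ (mem_support_iff.1 hda)
    · exact inv_mul_cancel₀ (mem_support_iff.1 hdb)
  have := hv _ (hcJ ⟨ma, hda0⟩ ⟨mb, hdb0⟩)
  rw [eval₂Hom_C, ] at this
  have h2 := hφ.2 ⟨ma, hda0⟩ (Finset.mem_univ _)
  rw [map_prod, Finset.prod_ne_zero_iff] at h2
  exact h2 ⟨mb, hdb0⟩ (Finset.mem_univ _) this

/-- Over a field, absolute irreducibility passes to every extension. -/
theorem irreducible_map_of_algClosed {k K L : Type*} [Field k] [Field K] [IsAlgClosed K] [Field L]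
    (ι : k →+* K) (φ : k →+* L) (G : MvPolynomial σ k) (hG : Irreducible (map ι G)) :
    Irreducible (map φ G) := by
  obtain ⟨h, hh, hirr⟩ := exists_irreducible_away ι ι.injective G hG
  exact hirr φ ((map_ne_zero φ).2 hh)

end Groth.Agent.LangWeil
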